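import Cfsg.Agent.OM.Lo.DecA
import Cfsg.Agent.S4641
import Cfsg.Agent.Characters.DegreeBounds

/-!
# OM (S4894): `boxDec` (helper50)
-/

set_option autoImplicit false
set_option linter.unusedSectionVars false

namespace Cfsg.Agent.OM.Lo

open Cfsg Subgroup Cfsg.Agent.Characters.Core Cfsg.Agent.Blocks.ExtendedFMT Cfsg.Agent.H613.RegGram

namespace DecP

variable {X : Type} [Group X] [Finite X] {p : ℕ} {M : Ideal AlgInt} {F : Finset (IrrCharacter X)}
  {l : ℕ} {d : IrrCharacter X → Fin l → ℕ} {φ : Fin l → X → ℂ} {n : Fin l → IrrCharacter X → ℤ}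

theorem Dm.all (h : Dm p F d φ n) {α : MulAut X} {i j : Fin l} (e : ∀ x, IsPRegular p x → φ j x = φ i (α x)) (x : X) :
    φ j x = φ i (α x) := by
  by_cases hx : IsPRegular p x
  · exact e x hx
  · rw [h.sing j x hx, h.sing i _ fun h' => hx ((reg_aut α).1 h')]

theorem Dm.cls (h : Dm p F d φ n) (i : Fin l) (g x : X) : φ i (MulAut.conj g x) = φ i x :=
  (h.all (fun x hx => by
    rw [h.comb i x hx, h.comb i _ ((reg_aut _).2 hx)]
    exact Finset.sum_congr rfl fun χ _ => by rw [MulAut.conj_apply, isIrr_isClassFunction χ.2]) x).symm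

/-- the stabiliser of a block -/
def stab (hM : IsPModular p M) {b : Set (IrrCharacter X)} (hb : IsPBlock M b) : Subgroup (MulAut X) where
  carrier := {α | Stb α b}
  one_mem' := fun χ hχ ψ e => by
    have : ψ = χ := Subtype.ext (funext e)
    rwa [this]
  mul_mem' := fun {α β} hα hβ χ hχ ψ e => hβ _ (hα χ hχ (compIrr α χ) fun _ => rfl) ψ e
  inv_mem' := fun {α} hα χ hχ ψ e => by
    have hP := Blocks.Local.isPrime_of_isPModular hM
    have h1 := sameBlock_compIrr (α⁻¹ : MulAut X)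
      (Blocks.Covering.sameBlock_of_mem hP hb (hα χ hχ (compIrr α χ) fun _ => rfl) hχ)
    have h2 : compIrr (α⁻¹ : MulAut X) (compIrr α χ) = χ := compIrr_symm_compIrr α χ
    have h3 : ψ = compIrr (α⁻¹ : MulAut X) χ := Subtype.ext (funext e)
    rw [h2, ← h3] at h1
    exact Blocks.Covering.mem_of_sameBlock hP hb hχ h1

theorem Dm.dvd (h : Dm p F d φ n) (hM : IsPModular p M) (hb : IsPBlock M (F : Set (IrrCharacter X)))
    {Γ : Subgroup (MulAut X)} (hΓ : ∀ x : X, MulAut.conj x ∈ Γ) (h1 : One p Γ (F : Set (IrrCharacter X))) (i : Fin l) :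
    l ∣ (Inn X).relIndex Γ := by
  let K : Subgroup (MulAut X) := Γ ⊓ stab hM hb
  let : MulAction K (X → ℂ) := arrowAction
  have hs : ∀ (α : K) (f : X → ℂ) x, (α • f) x = f (α⁻¹.1 x) := fun _ _ _ => rfl
  have h2 : MulAction.orbit K (φ i) = Set.range φ := by
    ext f
    constructor
    · rintro ⟨α, rfl⟩
      obtain ⟨j, hj⟩ := h.mov _ α⁻¹.2.2 i
      exact ⟨j, funext fun x => h.all hj x⟩
    · rintro ⟨j, rfl⟩
      obtain ⟨α, hα, e⟩ := h.orb Γ h1 i j
      exact ⟨(⟨α, hα, h.stb α i j e⟩ : K)⁻¹, funext fun x => (h.all e x).symm⟩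
  have h3 : (MulAction.stabilizer K (φ i)).index = l := by
    rw [MulAction.index_stabilizer, h2, Set.ncard_range_of_injective fun a b e => h.inj fun x _ => congrFun e x,
      Nat.card_fin]
  have h4 : (Inn X).subgroupOf K ≤ MulAction.stabilizer K (φ i) := fun α hα => by
    obtain ⟨g, hg⟩ := mem_subgroupOf.1 (inv_mem hα)
    funext x
    rw [hs, ← hg, h.cls]
  have h5 : Inn X ≤ K := by
    rintro _ ⟨g, rfl⟩
    exact ⟨hΓ g, h.stb _ i i fun x _ => (h.cls i g x).symm⟩
  rw [← h3, ← relIndex_mul_relIndex (Inn X) K Γ h5 inf_le_left]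
  exact (index_dvd_of_le h4).mul_right _

end DecP

open DecP

theorem boxDec : BoxDec := by
  classical
  intro p M hM X _ _ Γ hΓ b D hb hD h1
  have : Fact p.Prime := ⟨hM.1⟩
  have hP := Blocks.Local.isPrime_of_isPModular hM
  have := finite_irr (G := X)
  have := Fintype.ofFinite X
  lift b to Finset (IrrCharacter X) using b.toFinite with F
  obtain ⟨l, d, φ, n, h⟩ := exists_dm hM hb
  have hr := reg_one (G := X) hM.1
  obtain ⟨i₀⟩ : Nonempty (Fin l) := by
    obtain ⟨χ, e⟩ := hb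
    have hχ : χ ∈ (F : Set (IrrCharacter X)) := e ▸ Blocks.Basic.mem_blockOf_self χ
    by_contra hn
    have := not_nonempty_iff.1 hn
    exact isIrr_apply_one_ne_zero χ.2 (by rw [h.dec χ hχ 1 hr, Fintype.sum_empty])
  obtain ⟨m, hm, hm1⟩ := h.deg i₀
  have h2 : ∀ i, φ i 1 = m := fun i => by
    obtain ⟨α, -, e⟩ := h.orb Γ h1 i₀ i
    rw [e 1 hr, map_one, hm1]
  have h3 : ∀ χ ∈ F, charDegree (χ : X → ℂ) = (∑ j, d χ j) * m := fun χ hχ => by
    have h4 := h.dec χ hχ 1 hr
    simp only [h2] at h4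
    rw [apply_one_eq_charDegree, ← Finset.sum_mul] at h4
    exact_mod_cast h4
  have hcD := S0908.result p M hM _ hb D hD
  set dd := blockDefect p (F : Set (IrrCharacter X)) with hdd
  set a := (Nat.card X).factorization p with ha
  have hda : dd ≤ a := Nat.sub_le _ _
  obtain ⟨h4, v, -, hv, -, h5⟩ := S4641.result p M hM _ hb D hD a dd rfl hcD m
    (fun χ hχ => h3 χ hχ ▸ Dvd.intro_left _ rfl) fun g hg => by
      have h4 := h.comb i₀ 1 hr
      rw [hm1] at h4
      have h5 : ((m : ℤ) : ℂ) = ((∑ χ ∈ F, n i₀ χ * charDegree (χ : X → ℂ) : ℤ) : ℂ) := by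
        rw [Int.cast_natCast, h4, Int.cast_sum]
        exact Finset.sum_congr rfl fun χ _ => by rw [apply_one_eq_charDegree, Int.cast_mul, Int.cast_natCast]
      rw [← Int.natCast_dvd_natCast, Int.cast_injective h5]
      exact Finset.dvd_sum fun χ hχ => (Int.natCast_dvd_natCast.2 (hg χ hχ)).mul_left _
  choose z hz using h.gint hM
  have h6 : ∀ k, ∑ i, rg p (φ i) (φ k) = ∑ i, rg p (φ i) (φ i₀) := fun k => by
    obtain ⟨α, -, e⟩ := h.orb Γ h1 i₀ k
    obtain ⟨π, hπ⟩ := h.perm (h.stb α _ _ e)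
    rw [← Equiv.sum_comp π]
    exact Finset.sum_congr rfl fun i _ => rg_aut α (hπ i) e
  have row : ∀ j, ∑ χ ∈ F, d χ j * ∑ k, d χ k = p ^ dd := fun j => by
    set r := ∑ χ ∈ F, d χ j * ∑ k, d χ k with hrr
    have h7 : (∑ i, rg p (φ i) (φ i₀)) * r = 1 := by
      have h7 := Finset.sum_congr rfl fun i (_ : i ∈ Finset.univ) => h.gc hM hb i j
      rw [Finset.sum_ite_eq, if_pos (Finset.mem_univ _), Finset.sum_comm] at h7
      simp only [← Finset.sum_mul, h6] at h7
      rw [← h7, ← Finset.mul_sum, ← Nat.cast_sum, Finset.sum_comm, hrr]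
      congr 2
      exact Finset.sum_congr rfl fun χ _ => by rw [mul_comm, Finset.sum_mul]
    have h8 : (((∑ i, z i i₀) * r : ℤ) : ℂ) = ((p ^ dd : ℕ) : ℤ) := by
      rw [Int.cast_mul, Int.cast_sum, Finset.sum_congr rfl fun i _ => (hz i i₀).symm, ← Finset.mul_sum,
        Int.cast_natCast, mul_assoc, h7, mul_one, Int.cast_natCast, Nat.cast_pow]
    have h9 : r ∣ p ^ dd := Int.natCast_dvd_natCast.1 (Dvd.intro_left _ (Int.cast_injective h8))
    obtain ⟨k, hk, e⟩ := (Nat.dvd_prime_pow hM.1).1 h9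
    obtain ⟨P⟩ : Nonempty (Sylow p X) := inferInstance
    have h10 := h.int hM hb j P
    have h11 : ∑ χ ∈ F, (d χ j : ℂ) * (χ : X → ℂ) 1 = (r * m : ℕ) := by
      rw [hrr, Finset.sum_mul, Nat.cast_sum]
      exact Finset.sum_congr rfl fun χ hχ => by rw [apply_one_eq_charDegree, h3 χ hχ, mul_assoc, Nat.cast_mul (d χ j)]
    rw [h11] at h10
    have h12 := Characters.DegreeBounds.nat_dvd_of_isIntegral_div Nat.card_pos.ne' h10
    rw [P.card_eq_multiplicity, e, hM.1.pow_dvd_iff_le_factorization (mul_ne_zero (pow_ne_zero _ hM.1.ne_zero) hm.ne'),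
      Nat.factorization_mul (pow_ne_zero _ hM.1.ne_zero) hm.ne', Finsupp.add_apply, h4, hM.1.factorization_pow,
      Finsupp.single_eq_same, ← ha] at h12
    rw [e]
    congr 1
    omega
  refine ⟨l, d, φ, h.dec, h.ind, ⟨m, hm, h2, ?_⟩, fun i j => ?_, fun α hα => h.perm hα, fun i => ?_,
    ⟨Matrix.of fun k j => z j k, ?_⟩, fun A hA hA' => h.conn hM hb A hA hA', h.rank, ?_, h.dvd hM hb hΓ h1 i₀⟩
  · rw [h4, hcD, hM.1.factorization_pow, Finsupp.single_eq_same]
    omega
  · obtain ⟨α, hα, e⟩ := h.orb Γ h1 i j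
    exact ⟨α, hα, h.stb α i j e, e⟩
  · rw [finsum_mem_coe_finset, row, hcD]
  · ext i j
    refine Int.cast_injective (α := ℂ) ?_
    have h7 := congrArg ((p : ℂ) ^ dd * ·) (h.gc hM hb j i)
    simp only [Finset.mul_sum, ← mul_assoc] at h7
    rw [Matrix.mul_apply, Matrix.smul_apply, Matrix.one_apply, hcD, smul_eq_mul, Int.cast_mul, Int.cast_natCast,
      Nat.cast_pow, Int.cast_ite, Int.cast_one, Int.cast_zero, ← h7, Int.cast_sum]
    refine Finset.sum_congr rfl fun k _ => ?_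
    rw [Matrix.of_apply, Matrix.of_apply, finsum_mem_coe_finset, Int.cast_mul, Int.cast_natCast, ← hz, mul_comm]
    congr 2
    exact Finset.sum_congr rfl fun χ _ => mul_comm _ _
  · have h7 : ∑ χ ∈ F, charDegree (χ : X → ℂ) ^ 2 = l * p ^ dd * m ^ 2 := by
      have h7 := Finset.sum_congr rfl fun j (_ : j ∈ Finset.univ) => row j
      rw [Finset.sum_const, Finset.card_univ, Fintype.card_fin, smul_eq_mul, Finset.sum_comm] at h7
      rw [← h7, Finset.sum_mul]
      exact Finset.sum_congr rfl fun χ hχ => by rw [h3 χ hχ, ← Finset.sum_mul]; ring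
    rw [finsum_mem_coe_finset, h7] at h5
    obtain ⟨u, hu⟩ : p ^ (a - dd) ∣ m := h4 ▸ Nat.ordProj_dvd m p
    have hp0 : 0 < p := hM.1.pos
    have hu0 : u ≠ 0 := by
      rintro rfl
      omega
    rw [hu, Nat.mul_div_cancel_left _ (pow_pos hp0 _), show 2 * a - dd = dd + (a - dd) * 2 by omega, pow_add,
      pow_mul] at h5
    have h9 : 0 < p ^ dd * (p ^ (a - dd)) ^ 2 * u ^ 2 := by positivity
    have h8 : l = v := Nat.eq_of_mul_eq_mul_left h9 (by rw [← h5]; ring)
    rwa [h8]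

end Cfsg.Agent.OM.Lo
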