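import Cfsg.Agent.OM.Xc.Defs
import Cfsg.Agent.ODD.Cov.Lin
import Cfsg.Agent.S0243
import Cfsg.Agent.S0280
import Cfsg.Agent.S2904
import Cfsg.Agent.S2090
import Cfsg.Agent.S2116
import Cfsg.Agent.SolvableStructure.HallConverse

/-!
# OM (S4894): `boxPr : BoxPr` (helper10)
-/

set_option autoImplicit false

namespace Cfsg.Agent.OM.Lo

open Cfsg Subgroup Cfsg.Agent.ODD.Cv

namespace Pr

/-- a prime divisor of the order outside a bound for the multiplier -/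
def Go (p : ℕ) (S : Type) [Group S] : Prop := ∃ m, MB S m ∧ ((∃ s, ∀ r : ℕ, r.Prime → r ∣ m → r = p ∨ r = s) ∨
  ∃ r : ℕ, r.Prime ∧ r ≠ p ∧ r ∣ Nat.card S ∧ ¬ r ∣ m)

variable {p : ℕ} {S T : Type} [Group S] [Group T]

theorem Go.congr (h : Go p T) (e : S ≃* T) : Go p S := by
  obtain ⟨m, h1, h2⟩ := h
  exact ⟨m, h1.congr e, Nat.card_congr e.toEquiv ▸ h2⟩

theorem of_pow {m s k : ℕ} (h : MB S m) (hs : s.Prime) (h1 : m ∣ s ^ k) : Go p S :=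
  ⟨m, h, .inl ⟨s, fun _ hr h2 => .inr ((Nat.prime_dvd_prime_iff_eq hr hs).1 (hr.dvd_of_dvd_pow (h2.trans h1)))⟩⟩

theorem of_two {k : ℕ} (h : MB S (2 ^ k)) : Go p S := of_pow h Nat.prime_two dvd_rfl

theorem of_six {m : ℕ} (h : MB S m) (hp : p = 2 ∨ p = 3) (h1 : m ∣ 6 ^ 4) : Go p S :=
  ⟨m, h, .inl ⟨5 - p, fun r hr h2 => by
    have h3 : r ∣ 2 * 3 := hr.dvd_of_dvd_pow (h2.trans h1)
    rw [hr.dvd_mul, Nat.prime_dvd_prime_iff_eq hr Nat.prime_two, Nat.prime_dvd_prime_iff_eq hr Nat.prime_three] at h3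
    omega⟩⟩

variable [Fact p.Prime] {F : Type} [Field F] [Fintype F] [CharP F p]

theorem dvd_card : p ∣ Fintype.card F := by
  obtain ⟨n, -, h⟩ := FiniteField.card F p
  exact h ▸ dvd_pow_self p n.ne_zero

theorem eq_of {s k : ℕ} (hs : s.Prime) (h : Fintype.card F = s ^ k) : p = s :=
  (Nat.prime_dvd_prime_iff_eq Fact.out hs).1 ((Fact.out : p.Prime).dvd_of_dvd_pow (h ▸ dvd_card))

theorem ne_of {r q k : ℕ} (hq : p ∣ q) (h0 : 1 < q) (h : r ∣ q ^ (k + 1) - 1) : r ≠ p := by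
  rintro rfl
  exact (Fact.out : r.Prime).one_lt.ne' (Nat.dvd_one.1
    ((Nat.dvd_sub_iff_right (Nat.one_le_pow _ _ (by omega)) (hq.trans (dvd_pow_self q k.succ_ne_zero))).1 h))

theorem psl {n : ℕ} (hn : 2 ≤ n) (h2 : n = 2 → 4 ≤ Fintype.card F) :
    Go p (Matrix.ProjectiveSpecialLinearGroup (Fin n) F) := by
  by_cases a1 : n = 2 ∧ Fintype.card F = 9
  · obtain ⟨rfl, a1⟩ := a1
    obtain ⟨e⟩ := S0254.result a1
    exact of_six ((MB.of_cyc (S2116.result 6 (.inl rfl))).congr e) (.inr (eq_of (k := 2) Nat.prime_three a1)) (by norm_num)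
  by_cases a2 : (n = 2 ∧ Fintype.card F = 4) ∨ (n = 3 ∧ Fintype.card F = 2) ∨ (n = 3 ∧ Fintype.card F = 4) ∨
      (n = 4 ∧ Fintype.card F = 2)
  · refine of_six (mb_psl hn h2 a1) (.inl ?_) ?_ <;> rcases a2 with ⟨rfl, h⟩ | ⟨rfl, h⟩ | ⟨rfl, h⟩ | ⟨rfl, h⟩
    exacts [eq_of (k := 2) Nat.prime_two h, eq_of (k := 1) Nat.prime_two h, eq_of (k := 2) Nat.prime_two h,
      eq_of (k := 1) Nat.prime_two h, by rw [h]; norm_num, by rw [h]; norm_num, by rw [h]; norm_num, by rw [h]; norm_num]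
  have h3 := MB.of_cyc (S2086.result (F := F) rfl n hn h2 (by
    simp only [Set.mem_insert_iff, Set.mem_singleton_iff, Prod.mk.injEq]
    tauto))
  obtain rfl | h4 := hn.eq_or_lt
  · exact of_pow (k := 1) h3 Nat.prime_two (Nat.gcd_dvd_left _ _)
  have h5 := Fintype.one_lt_card (α := F)
  obtain ⟨r, hr, h6, h7⟩ := S2904.result _ 3 h5 (by norm_num) (by simp) (by simp)
  have h8 : ¬ r ∣ Fintype.card F - 1 := by simpa using h7 1 one_pos (by norm_num)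
  have h9 : ¬ r ∣ Nat.gcd n (Fintype.card F - 1) := fun e => h8 (e.trans (Nat.gcd_dvd_right _ _))
  refine ⟨_, h3, .inr ⟨r, hr, ne_of dvd_card h5 h6, ?_, h9⟩⟩
  refine (hr.dvd_mul.1 ((hr.dvd_mul.1 ?_).resolve_left h9)).resolve_left h8
  rw [S0243.result rfl n hn]
  refine h6.trans (Dvd.dvd.trans ⟨Fintype.card F ^ (n - 3), ?_⟩ (Finset.dvd_prod_of_mem _ (Finset.mem_univ ⟨n - 3, by omega⟩)))
  rw [Nat.sub_mul, one_mul, ← pow_add, show 3 + (n - 3) = n by omega]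

theorem psu {n q : ℕ} (hF : Fintype.card F = q ^ 2) (hn : 3 ≤ n) (h2 : ¬ (n = 3 ∧ q = 2)) : Go p (PSU n F q) := by
  by_cases a1 : n = 4 ∧ q = 3
  · obtain ⟨rfl, rfl⟩ := a1
    have h3 := MB.of_mult (S2090.result hF)
    rw [card_zmod3] at h3
    exact of_six h3 (.inr (eq_of Nat.prime_three hF)) (by norm_num)
  by_cases a2 : q = 2
  · subst a2
    exact of_six (mb_psu hF hn h2 a1) (.inl (eq_of Nat.prime_two hF))
      ((Nat.mul_dvd_mul_right (Nat.gcd_dvd_right _ _) _).trans (by norm_num))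
  have h3 := MB.of_cyc (S2089.result n q hF hn h2 (by
    simp only [Set.mem_insert_iff, Set.mem_singleton_iff, Prod.mk.injEq]
    tauto))
  have h5 : 1 < q := (Nat.one_lt_pow_iff two_ne_zero).1 (hF ▸ Fintype.one_lt_card)
  obtain ⟨r, hr, h6, h7⟩ := S2904.result q 6 h5 (by norm_num) (by simp [a2]) (by simp)
  have h8 : ¬ r ∣ q + 1 := fun e => h7 2 two_pos (by norm_num) (e.trans ⟨q - 1, by simpa using Nat.sq_sub_sq q 1⟩)
  have h9 : ¬ r ∣ Nat.gcd n (q + 1) := fun e => h8 (e.trans (Nat.gcd_dvd_right _ _))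
  refine ⟨_, h3, .inr ⟨r, hr, ne_of ((Fact.out : p.Prime).dvd_of_dvd_pow (hF ▸ dvd_card)) h5 h6, ?_, h9⟩⟩
  refine (hr.dvd_mul.1 ((hr.dvd_mul.1 ?_).resolve_left h9)).resolve_left h8
  rw [S0280.result hF n (by omega)]
  refine Dvd.dvd.mul_left (Dvd.dvd.trans ?_ (Finset.dvd_prod_of_mem _ (Finset.mem_range.2 (show 2 < n by omega)))) _
  rw [if_pos even_two]
  refine (hr.dvd_mul.1 ?_).resolve_right (h7 3 (by norm_num) (by norm_num))
  rwa [← Nat.sq_sub_sq, ← pow_mul, one_pow]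

theorem go (h : IsLieTypeChar p S) : Go p S := by
  rcases h with ⟨F, _, _, _, n, h1, h2, ⟨e⟩⟩ | ⟨F, _, _, _, n, h1, h2, ⟨e⟩⟩ | ⟨F, _, _, _, n, q, h1, h2, h3, ⟨e⟩⟩ |
    ⟨F, _, _, _, n, h1, h2, ⟨e⟩⟩ | ⟨F, _, _, _, n, h1, ⟨e⟩⟩ | ⟨F, _, _, _, n, a, b, h1, h2, ⟨e⟩⟩ |
    ⟨F, _, _, _, ⟨h1, ⟨e⟩⟩ | ⟨⟨e⟩⟩ | ⟨⟨e⟩⟩ | ⟨⟨e⟩⟩ | ⟨⟨e⟩⟩⟩ | ⟨F, _, _, _, q, h1, ⟨h2, ⟨e⟩⟩ | ⟨h2, ⟨e⟩⟩⟩ |
    ⟨-, F, _, _, m, h1, h2, ⟨e⟩⟩ | ⟨-, F, _, _, m, h1, h2, ⟨e⟩⟩ | ⟨-, F, _, _, m, h1, h2, ⟨e⟩⟩ <;> refine Go.congr ?_ e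
  · exact psl h1 h2
  · exact of_two (mb_psp h1 h2)
  · exact psu h1 h2 h3
  · by_cases h : n = 3 ∧ Fintype.card F = 3
    · obtain ⟨rfl, h⟩ := h
      exact of_six (mb_o73 h) (.inr (eq_of (k := 1) Nat.prime_three h)) (by norm_num)
    · exact of_two (mb_podd h2 h1 h)
  · exact of_two (mb_plus h1)
  · exact of_two (mb_minus h1 h2)
  · obtain h | h := h1.eq_or_lt
    · exact of_pow (k := 1) (mb_g23 h.symm) Nat.prime_three dvd_rfl
    · exact of_two (mb_g2 h)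
  · exact of_two mb_f4
  · exact of_pow (k := 1) mb_e6 Nat.prime_three (Nat.gcd_dvd_left _ _)
  · exact of_two mb_e7
  · exact of_two mb_e8
  · by_cases h : q = 2
    · subst h
      exact of_six (mb_tw h1 h2) (.inl (eq_of Nat.prime_two h2)) (by norm_num)
    · exact of_pow (k := 1) (MB.of_cyc (S2108.result h1 h2 h)) Nat.prime_three (Nat.gcd_dvd_left _ _)
  · exact of_two (mb_d4 h1 h2)
  · exact of_two (mb_sz h1 h2)
  · exact of_two (mb_tf4 h1 h2)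
  · exact of_two (mb_ree h1 h2)

end Pr

/-- **Pr** -/
theorem boxPr : BoxPr := by
  intro p _ S _ _ _ hS h X _ _ σ h1 h2 h3 _
  obtain ⟨m, h4, h5⟩ := Pr.go h
  have h6 : Nat.card (center X) ∣ m := h3 ▸ h4 X h1 σ h2 h3.le
  obtain ⟨s, h5⟩ | ⟨r, k1, k2, k3, k4⟩ := h5
  · by_contra! h7
    have := SolvableStructure.HallConverse.isSolvable_of_no_three_primes (G := S)
      ((Finset.card_le_card (t := {p, s}) fun r hr => by
        have k := Nat.mem_primeFactors.1 hr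
        by_cases e : r = p
        · simp [e]
        · simpa using h5 r k.1 ((h7 r k.1 e k.2.1).trans h6)).trans Finset.card_le_two)
    exact hS ⟨⟨IsSimpleGroup.comm_iff_isSolvable.2 this⟩⟩
  · exact ⟨r, k1, k2, k3, fun e => k4 (e.trans h6)⟩

end Cfsg.Agent.OM.Lo
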