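import Cfsg.Agent.OM.Lo.Defs
import Cfsg.Agent.StdRank2.OutAct

/-!
# OM (S4894): `boxIdx : BoxIdx`, `boxHz : BoxHz` (helper10)
-/

set_option autoImplicit false

namespace Cfsg.Agent.OM.Lo

open Cfsg Subgroup

namespace Idx

variable {X S : Type} [Group X] [Group S] {σ : X →* S}

/-- the induced automorphisms -/
theorem exists_bar (hs : Function.Surjective σ) (hk : σ.ker = center X) :
    ∃ φ : MulAut X →* MulAut S, ∀ α x, φ α (σ x) = σ (α x) := by
  obtain ⟨e, he⟩ : ∃ e : X ⧸ center X ≃* S, ∀ x : X, e x = σ x :=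
    ⟨(QuotientGroup.quotientMulEquivOfEq hk.symm).trans (QuotientGroup.quotientKerEquivOfSurjective σ hs), fun _ => rfl⟩
  refine ⟨(MulAut.congr e).toMonoidHom.comp (StdRank2.OutAct.quot X), fun α x => ?_⟩
  rw [← he, ← he]
  change e (StdRank2.OutAct.quot X α (e.symm (e x))) = _
  rw [e.symm_apply_apply]
  rfl

/-- an automorphism of a perfect group which is trivial modulo the centre is trivial -/
theorem eq_one (hp : commutator X = ⊤) {α : MulAut X} (h : ∀ x, x⁻¹ * α x ∈ center X) : α = 1 := by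
  have h1 : commutator X ≤ α.toMonoidHom.eqLocus (MonoidHom.id X) := commutator_le.2 fun a _ b _ => by
    obtain ⟨z, hz, e1⟩ : ∃ z ∈ center X, α a = a * z := ⟨_, h a, by group⟩
    obtain ⟨w, hw, e2⟩ : ∃ w ∈ center X, α b = b * w := ⟨_, h b, by group⟩
    change α (a * b * a⁻¹ * b⁻¹) = a * b * a⁻¹ * b⁻¹
    rw [map_mul, map_mul, map_mul, map_inv, map_inv, e1, e2]
    calc _ = a * (z * (b * w * z⁻¹)) * (a⁻¹ * w⁻¹) * b⁻¹ := by group
      _ = a * (b * w * z⁻¹ * z) * (w⁻¹ * a⁻¹) * b⁻¹ := by rw [mem_center_iff.1 hz, mem_center_iff.1 (inv_mem hw)]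
      _ = _ := by group
  exact MulEquiv.ext fun x => h1 (hp ▸ mem_top x)

theorem index_dvd (hp : commutator X = ⊤) (hs : Function.Surjective σ) (hk : σ.ker = center X) :
    (Inn X).index ∣ Nat.card (Out S) := by
  obtain ⟨φ, hφ⟩ := exists_bar hs hk
  have h1 : Inn X = ((QuotientGroup.mk' (Inn S)).comp φ).ker := by
    ext α
    rw [MonoidHom.mem_ker, MonoidHom.comp_apply, QuotientGroup.mk'_apply, QuotientGroup.eq_one_iff]
    refine ⟨?_, ?_⟩
    · rintro ⟨y, rfl⟩
      exact ⟨σ y, MulEquiv.ext fun s => by obtain ⟨x, rfl⟩ := hs s; simp [hφ]⟩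
    · rintro ⟨s, h⟩
      obtain ⟨y, rfl⟩ := hs s
      refine ⟨y, inv_mul_eq_one.1 (eq_one hp fun x => ?_)⟩
      have h2 := hφ α x
      rw [← hk, MonoidHom.mem_ker]
      simp [← h2, ← h, mul_assoc]
  rw [h1, index_ker]
  exact card_subgroup_dvd_card _

/-- the obstruction is a central element of order at most two -/
theorem obs {α : MulAut X} {y : X} (hf : ∀ z ∈ center X, α z = z) (h : α * α = MulAut.conj y) :
    y⁻¹ * α y ∈ center X ∧ (y⁻¹ * α y) ^ 2 = 1 := by
  have h1 : ∀ x, α (α x) = y * x * y⁻¹ := fun x => congrArg (· x) h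
  have h2 : y⁻¹ * α y ∈ center X := mem_center_iff.2 fun g => by
    obtain ⟨x, rfl⟩ := α.surjective g
    have h3 := congrArg α (h1 x)
    rw [h1, map_mul, map_mul, map_inv] at h3
    calc _ = y⁻¹ * (y * α x * y⁻¹) * α y := by group
      _ = _ := by rw [h3]; group
  refine ⟨h2, ?_⟩
  have h3 := hf _ h2
  rw [map_mul, map_inv, h1, mul_inv_cancel_right] at h3
  rw [pow_two]
  nth_rw 1 [← h3]
  group

theorem eq_of_odd {G : Type} [Group G] {z : G} {n : ℕ} (hn : Odd n) (h1 : z ^ n = 1) (h2 : z ^ 2 = 1) : z = 1 := by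
  obtain ⟨k, rfl⟩ := hn
  rwa [pow_succ, pow_mul, h2, one_pow, one_mul] at h1

end Idx

open Idx

/-- **Idx** -/
theorem boxIdx : BoxIdx := fun _ _ _ _ _ _ _ _ _ _ _ H =>
  (relIndex_dvd_index_of_normal _ _).trans (index_dvd H.sit.qs.1.commutator_eq_top H.surj H.ker)

/-- **Hz** -/
theorem boxHz : BoxHz := by
  intro p M X _ _ Γ b D S _ σ H h α hα y e
  have hf := H.sit.fix α hα
  obtain ⟨h1, h2⟩ := obs hf e
  refine (inv_mul_eq_one.1 ?_).symm
  rcases h with h | h | ⟨x, h3, h4⟩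
  · exact eq_of_odd h (congrArg Subtype.val (pow_card_eq_one' (x := (⟨_, h1⟩ : center X)))) h2
  · obtain ⟨a, rfl⟩ := relIndex_eq_one.1 h hα
    have h3 : a * (a * a * a⁻¹) * a⁻¹ = y * a * y⁻¹ := congrArg (· a) e
    rw [MulAut.conj_apply]
    calc _ = y⁻¹ * (a * (a * a * a⁻¹) * a⁻¹) * y * a⁻¹ := by group
      _ = _ := by rw [h3]; group
  · obtain ⟨φ, hφ⟩ := exists_bar H.surj H.ker
    obtain ⟨g, hg⟩ := isConj_iff.1 (h4 _ ((φ α).orderOf_eq x)).symm
    obtain ⟨g, rfl⟩ := H.surj g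
    have h5 : ∀ x, α (α x) = y * x * y⁻¹ := fun x => congrArg (· x) e
    have h6 : σ (g * α g * y) ∈ centralizer {x} := mem_centralizer_singleton_iff.2 (by
      obtain ⟨x, rfl⟩ := H.surj x
      have k1 := congrArg (φ α) hg
      simp only [map_mul, map_inv, hφ, h5] at k1 hg ⊢
      nth_rw 2 [← hg]
      rw [← k1]
      group)
    have h7 : (g * α g * y) ^ Nat.card (centralizer {x}) ∈ center X := by
      rw [← H.ker, MonoidHom.mem_ker, map_pow]
      exact congrArg Subtype.val (pow_card_eq_one' (x := (⟨_, h6⟩ : centralizer {x})))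
    have h8 : g * α (g * α g * y) * g⁻¹ = g * α g * y * (y⁻¹ * α y) := by
      rw [map_mul, map_mul, h5]
      calc _ = g * α g * y * (g * (y⁻¹ * α y)) * g⁻¹ := by group
        _ = _ := by rw [mem_center_iff.1 h1]; group
    have h9 := hf _ h7
    rw [map_pow] at h9
    refine eq_of_odd h3 (mul_left_cancel (a := (g * α g * y) ^ Nat.card (centralizer {x})) ?_) h2
    rw [← Commute.mul_pow (mem_center_iff.1 h1 _), ← h8, conj_pow, h9, mem_center_iff.1 h7, mul_inv_cancel_right, mul_one]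

end Cfsg.Agent.OM.Lo
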