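import Cfsg.Agent.OM.Lo.Dec
import Cfsg.Agent.OM.Red.ExtR
import Cfsg.Agent.H658.RegPow
import Cfsg.Agent.OddOrderCharacters.VChar

/-!
# OM (S4894): defect groups of order dividing `16` (helper39)

* `N2.fix_odd` : an involution which preserves an odd sum has a fixed point with an odd term;
* `N2.gen2` : groups of automorphisms of index at most two over the inner ones;
* `N2.lift_sum` : the coefficients of `g ↦ χ (g_{p'})`;  `boxN2`.
-/

set_option autoImplicit false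
set_option linter.unusedSectionVars false

namespace Cfsg.Agent.OM.Lo

open Cfsg Subgroup Cfsg.Agent.Characters.Core Cfsg.Agent.Blocks.ExtendedFMT Cfsg.Agent.OM.Alt
open scoped ComplexConjugate

namespace N2

theorem fix_odd {Ω : Type*} (F : Finset Ω) (τ : Ω → Ω) (h1 : ∀ a ∈ F, τ a ∈ F) (h2 : ∀ a ∈ F, τ (τ a) = a) (g : Ω → ℤ)
    (h3 : ∀ a ∈ F, g (τ a) = g a) (h4 : Odd (∑ a ∈ F, g a)) : ∃ a ∈ F, Odd (g a) ∧ τ a = a := by
  by_contra hn
  have h5 : ∑ a ∈ F, (g a : ZMod 2) = 0 :=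
    Finset.sum_involution (fun a _ => τ a) (fun a ha => by rw [h3 a ha]; exact CharTwo.add_self_eq_zero _)
      (fun a ha h e => hn ⟨a, ha, by
        by_contra h6
        exact h ((ZMod.intCast_zmod_eq_zero_iff_dvd _ 2).2 (even_iff_two_dvd.1 (Int.not_odd_iff_even.1 h6))), e⟩)
      (fun a ha => h1 a ha) fun a ha => h2 a ha
  rw [← Int.cast_sum, ZMod.intCast_zmod_eq_zero_iff_dvd] at h5
  exact Int.not_even_iff_odd.2 h4 (even_iff_two_dvd.2 h5)

variable {X : Type} [Group X]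

theorem gen2 {Γ S : Subgroup (MulAut X)} (h : (Inn X).relIndex Γ ∣ 2) (h1 : S ≤ Γ) :
    ∃ γ ∈ S, (∃ x, γ * γ = MulAut.conj x) ∧ ∀ α ∈ S, (∃ x, α = MulAut.conj x) ∨ ∃ x, α = MulAut.conj x * γ := by
  by_cases h2 : ∀ α ∈ S, α ∈ Inn X
  · exact ⟨1, one_mem _, ⟨1, by rw [map_one, mul_one]⟩, fun α ha => .inl (let ⟨x, hx⟩ := h2 α ha; ⟨x, hx.symm⟩)⟩
  push Not at h2
  obtain ⟨γ, h3, h4⟩ := h2
  rcases (Nat.dvd_prime Nat.prime_two).1 h with h5 | h5
  · exact absurd (relIndex_eq_one.1 h5 (h1 h3)) h4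
  have key : ∀ α ∈ S, α ∉ Inn X → α * γ ∈ Inn X := fun α ha hn =>
    mem_subgroupOf.1 ((mul_mem_iff_of_index_two (H := (Inn X).subgroupOf Γ) h5 (a := ⟨α, h1 ha⟩) (b := ⟨γ, h1 h3⟩)).2
      (iff_of_false (fun e => hn (mem_subgroupOf.1 e)) fun e => h4 (mem_subgroupOf.1 e)))
  obtain ⟨y, hy⟩ := key γ h3 h4
  refine ⟨γ, h3, ⟨y, hy.symm⟩, fun α ha => ?_⟩
  by_cases h6 : α ∈ Inn X
  · exact .inl (let ⟨x, hx⟩ := h6; ⟨x, hx.symm⟩)
  · obtain ⟨x, hx⟩ := key α ha h6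
    refine .inr ⟨x * y⁻¹, ?_⟩
    rw [map_mul, map_inv, hx, hy]
    group

variable [Finite X]

/-- the extension property for index at most two -/
theorem ext2 {Γ : Subgroup (MulAut X)} (hZ : ¬ 2 ∣ Nat.card (center X)) (hΓ : ∀ x : X, MulAut.conj x ∈ Γ)
    (h : (Inn X).relIndex Γ ∣ 2) (θ : IrrCharacter X) : Ext 2 Γ (θ : X → ℂ) :=
  boxExtO 2 Nat.prime_two X hZ Γ hΓ _ θ.2 (extO_of_cyclic Nat.prime_two θ.2 fun S h1 _ _ _ => by
    obtain ⟨γ, h2, -, h3⟩ := gen2 h h1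
    refine ⟨γ, h2, fun α ha => ?_⟩
    rcases h3 α ha with ⟨x, hx⟩ | ⟨x, hx⟩
    · exact ⟨0, x, by rw [zpow_zero, mul_one, hx]⟩
    · exact ⟨1, x, by rw [zpow_one, hx]⟩)

/-- the coefficients of the function `g ↦ χ (g_{p'})` -/
theorem lift_sum {p : ℕ} {M : Ideal AlgInt} (hM : IsPModular p M) {F : Finset (IrrCharacter X)}
    (hb : IsPBlock M (F : Set (IrrCharacter X))) {χ : IrrCharacter X} (hχ : χ ∈ F) :
    ∃ c : IrrCharacter X → ℤ, (∀ x, IsPRegular p x → ∑ θ ∈ F, (θ : X → ℂ) x * c θ = (χ : X → ℂ) x) ∧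
      ∀ α : MulAut X, (∀ x, IsPRegular p x → (χ : X → ℂ) (α x) = (χ : X → ℂ) x) → ∀ θ, c (compIrr α θ) = c θ := by
  classical
  have := Fact.mk hM.1
  have := Fintype.ofFinite X
  obtain ⟨n, r, -, R⟩ := H658.RegPow.exists_regExp p X 0
  have h1 := H658.RegPow.isGeneralizedCharacter_pow R (isIrr_isCharacter χ.2)
  choose c hc using fun θ : IrrCharacter X => OddOrderCharacters.VChar.gen_inner h1 (OddOrderCharacters.VChar.gen_of_irr θ.2)
  have h0 : (Nat.card X : ℂ) ≠ 0 := Nat.cast_ne_zero.2 Nat.card_pos.ne'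
  refine ⟨c, fun x hx => ?_, fun α hα θ => ?_⟩
  · have h2 := sum_sing hM hb (Φ := fun g => (Nat.card X : ℂ)⁻¹ * ((χ : X → ℂ) (g ^ p ^ n) - (χ : X → ℂ) g))
      (fun y hy => by rw [R.pow_of_not_dvd hy, sub_self, mul_zero]) hx
    have h3 : ∀ θ : IrrCharacter X, ∑ y, (Nat.card X : ℂ)⁻¹ * ((χ : X → ℂ) (y ^ p ^ n) - (χ : X → ℂ) y) *
        conj ((θ : X → ℂ) y) = c θ - if χ = θ then 1 else 0 := fun θ => by
      have h3 : classInner (χ : X → ℂ) (θ : X → ℂ) = if χ = θ then 1 else 0 := by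
        rw [classInner_irr χ.2 θ.2]
        exact if_congr Subtype.ext_iff.symm rfl rfl
      rw [← hc, ← h3, classInner_def, classInner_def, ← mul_sub, ← Finset.sum_sub_distrib, Finset.mul_sum]
      exact Finset.sum_congr rfl fun y _ => by ring
    simp only [h3] at h2
    simp only [finsum_mem_coe_finset, mul_sub, Finset.sum_sub_distrib, mul_ite, mul_one, mul_zero,
      Finset.sum_ite_eq, if_pos hχ] at h2
    exact sub_eq_zero.1 h2
  · refine Int.cast_injective (α := ℂ) ?_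
    rw [← hc, ← hc, classInner_def, classInner_def, ← Equiv.sum_comp α.toEquiv fun g => _ * conj ((θ : X → ℂ) g)]
    congr 1
    refine Finset.sum_congr rfl fun g _ => ?_
    change _ = (χ : X → ℂ) (α g ^ p ^ n) * _
    rw [← map_pow, hα _ (R.not_dvd_orderOf g)]
    rfl

end N2

open N2 DecP

theorem boxN2_of (hD : BoxDec) : BoxN2 := by
  classical
  intro M X _ _ Γ b D S _ σ H hi h16
  have := Fact.mk Nat.prime_two
  have hM := H.hM
  have hP := Blocks.Local.isPrime_of_isPModular hM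
  have := finite_irr (G := X)
  obtain ⟨l, d, φ, h⟩ := hD 2 M hM X Γ H.sit.inn b D H.hb H.hD H.one
  obtain rfl : l = 1 := ((Nat.dvd_prime Nat.prime_two).1 (h.dvd.trans hi)).resolve_right fun e => h.ndvd (e ▸ dvd_rfl)
  lift b to Finset (IrrCharacter X) using b.toFinite with F
  have hr := reg_one (G := X) hM.1
  obtain ⟨n, hn, hn1, hn2⟩ := h.deg
  have h1 : ∀ χ ∈ F, ∀ x, IsPRegular 2 x → (χ : X → ℂ) x = d χ 0 * φ 0 x := fun χ hχ x hx => by
    rw [h.dec χ hχ x hx, Fin.sum_univ_one]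
  have h2 : ∀ χ ∈ F, charDegree (χ : X → ℂ) = d χ 0 * n := fun χ hχ => by
    have h2 := h1 χ hχ 1 hr
    rw [Blocks.Basic.irr_one_eq_charDegree χ.2, hn1] at h2
    exact_mod_cast h2
  have h3 : ∑ χ ∈ F, d χ 0 * d χ 0 = Nat.card D := by
    have h3 := h.row 0
    simpa only [finsum_mem_coe_finset, Fin.sum_univ_one] using h3
  obtain ⟨χ, hχ, h4⟩ : ∃ χ ∈ F, Odd (d χ 0) := by
    obtain ⟨χ, hχ, e⟩ := Nat.sInf_mem (((Blocks.Basic.isPBlock_nonempty H.hb)).image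
      fun χ : IrrCharacter X => (charDegree (χ : X → ℂ)).factorization 2)
    have h4 := S0908.result 2 M hM _ H.hb D H.hD
    have h5 := (Blocks.Basic.charDegree_pos χ.2).ne'
    have h6 := (Nat.factorization_le_iff_dvd h5 Nat.card_pos.ne').2 (Blocks.Knorr.charDegree_dvd χ.2) 2
    rw [h4, Nat.prime_two.factorization_pow, Finsupp.single_eq_same, blockDefect, ← e] at hn2
    refine ⟨χ, hχ, Nat.odd_iff.2 (Nat.two_dvd_ne_zero.1 fun h7 => ?_)⟩
    rw [h2 χ hχ] at h5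
    have h8 := (Nat.prime_two.dvd_iff_one_le_factorization (left_ne_zero_of_mul h5)).1 h7
    simp only [h2 χ hχ, Nat.factorization_mul (left_ne_zero_of_mul h5) hn.ne', Finsupp.add_apply] at hn2 h6
    omega
  obtain ⟨γ, ⟨-, g1⟩, ⟨y, g2⟩, g3⟩ := gen2 (S := Γ ⊓ stab hM H.hb) hi inf_le_left
  have t1 : ∀ θ ∈ F, compIrr γ θ ∈ F := fun θ hθ => g1 θ hθ _ fun _ => rfl
  have t2 : ∀ θ : IrrCharacter X, compIrr γ (compIrr γ θ) = θ := fun θ => Subtype.ext (funext fun x => by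
    rw [compIrr_apply, compIrr_apply, ← MulAut.mul_apply, g2, MulAut.conj_apply, isIrr_isClassFunction θ.2])
  have t3 : ∀ θ ∈ F, d (compIrr γ θ) 0 = d θ 0 := fun θ hθ => Nat.eq_of_mul_eq_mul_right hn (by
    rw [← h2 _ (t1 θ hθ), ← h2 θ hθ, charDegree, charDegree, compIrr_apply, map_one])
  obtain ⟨c, c1, c2⟩ := lift_sum hM H.hb hχ
  have c3 := c2 γ fun x hx => by
    rw [← compIrr_apply γ χ, h1 _ (t1 χ hχ) x hx, t3 χ hχ, h1 χ hχ x hx]
  have c4 : ∑ θ ∈ F, (d θ 0 : ℤ) * c θ = d χ 0 := by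
    have c4 := c1 1 hr
    rw [Finset.sum_congr rfl fun θ hθ => by rw [h1 θ hθ 1 hr, mul_right_comm], h1 χ hχ 1 hr, ← Finset.sum_mul, hn1] at c4
    exact_mod_cast mul_right_cancel₀ (Nat.cast_ne_zero.2 hn.ne') c4
  obtain ⟨θ, hθ, h5, h6⟩ : ∃ θ ∈ F, d θ 0 = 1 ∧ compIrr γ θ = θ := by
    obtain ⟨θ, hθ, h5, h6⟩ := fix_odd F (compIrr γ) t1 (fun θ _ => t2 θ) (fun θ => (d θ 0 : ℤ) * c θ)
      (fun θ hθ => by rw [t3 θ hθ, c3]) (c4 ▸ h4.natCast)
    have h7 : Odd (d θ 0) := (Int.odd_coe_nat _).1 (Int.odd_mul.1 h5).1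
    by_cases h8 : d θ 0 = 1
    · exact ⟨θ, hθ, h8, h6⟩
    have h9 := Finset.add_sum_erase F (fun χ => d χ 0 * d χ 0) hθ
    rw [h3] at h9
    have h10 := Nat.le_of_dvd (by norm_num) h16
    have h11 : d θ 0 = 3 := by
      have h11 : d θ 0 * d θ 0 < 5 * 5 := by omega
      have h12 := Nat.mul_self_lt_mul_self_iff.1 h11
      obtain ⟨k, hk⟩ := h7
      omega
    have h12 : ∑ χ ∈ F.erase θ, d χ 0 * d χ 0 = 7 := by
      have h12 : Nat.card D ∣ 2 ^ 4 := h16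
      obtain ⟨k, hk, e⟩ := (Nat.dvd_prime_pow Nat.prime_two).1 h12
      simp only [h11, e] at h9
      interval_cases k <;> omega
    obtain ⟨ψ, hψ, h13, h14⟩ := fix_odd (F.erase θ) (compIrr γ) (fun ψ hψ => Finset.mem_erase.2
      ⟨fun e => (Finset.mem_erase.1 hψ).1 (by rw [← t2 ψ, e, h6]), t1 ψ (Finset.mem_of_mem_erase hψ)⟩) (fun θ _ => t2 θ)
      (fun θ => ((d θ 0 * d θ 0 : ℕ) : ℤ)) (fun ψ hψ => by rw [t3 ψ (Finset.mem_of_mem_erase hψ)])
      (by rw [← Nat.cast_sum, h12]; decide)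
    refine ⟨ψ, Finset.mem_of_mem_erase hψ, ?_, h14⟩
    have h15 := Finset.single_le_sum (f := fun χ => d χ 0 * d χ 0) (fun _ _ => Nat.zero_le _) hψ
    obtain ⟨k, hk⟩ := (Nat.odd_mul.1 ((Int.odd_coe_nat _).1 h13)).1
    simp only [h12] at h15
    have : k = 0 := by nlinarith
    omega
  refine ⟨θ, ⟨hθ, fun ψ hψ => ?_⟩, fun α hα e x => ?_, fun e => absurd rfl e, fun _ => ext2 H.sit.ndvd H.sit.inn hi θ⟩
  · rw [h2 θ hθ, h2 ψ hψ, h5, one_mul]
    exact Dvd.intro_left _ rfl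
  · have h7 : compIrr α θ ∈ (F : Set (IrrCharacter X)) := Blocks.Covering.mem_of_sameBlock hP H.hb hθ
      (sameBlock_of_prop hM θ.2 (compIrr α θ).2 fun x hx => by rw [compIrr_apply, compIrr_apply, e x hx, map_one])
    rcases g3 α ⟨hα, stb_of hM H.hb hθ h7⟩ with ⟨z, rfl⟩ | ⟨z, rfl⟩
    · rw [MulAut.conj_apply, isIrr_isClassFunction θ.2]
    · rw [MulAut.mul_apply, MulAut.conj_apply, isIrr_isClassFunction θ.2, ← compIrr_apply γ θ, h6]

theorem boxN2 : BoxN2 := boxN2_of boxDec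

end Cfsg.Agent.OM.Lo
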