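import Cfsg.Agent.OM.Lo.Fix
import Cfsg.Agent.OM.Lo.Dec
import Cfsg.Agent.S4710
import Cfsg.Agent.H592.Defect

/-!
# OM (S4894): defect groups of order nine (helper49)

* `Dec.ndvd_sum`, `Dec.term_le`, `Dec.odd_of` : tools for defect groups of order `p ^ 2`;
* `boxN3_of : BoxDec → BoxN3`, `boxN3`.
-/

set_option autoImplicit false

namespace Cfsg.Agent.OM.Lo

open Cfsg Subgroup Cfsg.Agent.Characters.Core Cfsg.Agent.Blocks.Basic

variable {p : ℕ} {M : Ideal AlgInt} {X : Type} [Group X] [Finite X] {Γ : Subgroup (MulAut X)}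
  {b : Set (IrrCharacter X)} {D : Subgroup X} {l : ℕ} {d : IrrCharacter X → Fin l → ℕ} {φ : Fin l → X → ℂ}

/-- all heights are zero -/
theorem Dec.ndvd_sum (h : Dec p Γ b D d φ) (hM : IsPModular p M) (hb : IsPBlock M b) (hD : IsDefectGroup p M b D)
    (h2 : Nat.card D = p ^ 2) {χ : IrrCharacter X} (hχ : χ ∈ b) : ¬ p ∣ ∑ j, d χ j := fun hd => by
  have := Fact.mk hM.1
  obtain ⟨n, h1, h3, h4⟩ := h.degree hM.1
  have h5 := H592.Defect.factorization_card_defect p hM hb hD
  rw [h2, hM.1.factorization_pow, Finsupp.single_eq_same] at h3 h5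
  have h6 := ((S4710.result p M hM b hb _ h5.symm).2 χ hχ).2 le_rfl
  have h7 := (charDegree_pos χ.2).ne'
  rw [blockDefect] at h5
  rw [blockHeight, h4 χ hχ] at h6
  rw [h4 χ hχ] at h7
  have h8 := (hM.1.dvd_iff_one_le_factorization (right_ne_zero_of_mul h7)).1 hd
  rw [Nat.factorization_mul h1.ne' (right_ne_zero_of_mul h7), Finsupp.add_apply] at h6
  omega

theorem Dec.term_le (h : Dec p Γ b D d φ) {χ : IrrCharacter X} (hχ : χ ∈ b) (i : Fin l) :
    d χ i * ∑ j, d χ j ≤ Nat.card D := by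
  have := Fintype.ofFinite X
  have := finite_irr (G := X)
  rw [← h.row i, finsum_mem_eq_finite_toFinset_sum _ b.toFinite]
  exact Finset.single_le_sum (f := fun χ => d χ i * ∑ j, d χ j) (fun _ _ => Nat.zero_le _)
    (b.toFinite.mem_toFinset.2 hχ)

/-- the number of odd terms of a row sum -/
theorem Dec.odd_of (h : Dec p Γ b D d φ) (ho : Odd (Nat.card D)) (i : Fin l) :
    Odd {χ ∈ b | Odd (d χ i * ∑ j, d χ j)}.ncard := by
  classical
  have := Fintype.ofFinite X
  have := finite_irr (G := X)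
  rw [← h.row i, finsum_mem_eq_finite_toFinset_sum _ b.toFinite, Finset.odd_sum_iff_odd_card_odd] at ho
  rwa [← Set.ncard_coe_finset, Finset.coe_filter, Set.ext fun χ => and_congr_left' b.toFinite.mem_toFinset] at ho

theorem single_of_sum {f : Fin l → ℕ} {i : Fin l} (h1 : ∑ j, f j = 1) (h2 : f i ≠ 0) : f = Pi.single i 1 := by
  rw [← Finset.add_sum_erase _ _ (Finset.mem_univ i)] at h1
  funext j
  by_cases e : j = i
  · rw [e, Pi.single_eq_same]
    omega
  · rw [Pi.single_eq_of_ne e]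
    exact Finset.sum_eq_zero_iff.1 (by omega : ∑ j ∈ Finset.univ.erase i, f j = 0) j (by simpa using e)

/-- **defect groups of order nine** -/
theorem boxN3_of (hD : BoxDec) : BoxN3 := by
  intro M X _ _ Γ b D S _ σ H h4 h9
  obtain ⟨l, d, φ, h⟩ := hD 3 M H.hM X Γ H.sit.inn b D H.hb H.hD H.one
  have h1 := h.dvd.trans h4
  have h2 := Nat.le_of_dvd (by norm_num) h1
  let i : Fin l := ⟨0, Nat.pos_of_dvd_of_pos h1 (by norm_num)⟩
  have h3 := h.odd_of (by rw [h9]; decide) i
  refine h.lift H (Or.inl rfl) h9 (r := 2) h4 i ?_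
  convert h3 using 2
  refine Set.ext fun χ => and_congr_right fun hχ => ⟨fun e => by simp [e], fun ho => ?_⟩
  obtain ⟨h5, h6⟩ := Nat.odd_mul.1 ho
  have h7 := h.ndvd_sum H.hM H.hb H.hD h9 hχ
  have h8 := fun j => (h.term_le hχ j).trans h9.le
  refine single_of_sum ?_ h5.pos.ne'
  by_contra h10
  have h11 : 5 ≤ ∑ j, d χ j := by
    have := Nat.odd_iff.1 h6
    omega
  have h12 := Finset.sum_le_card_nsmul Finset.univ (d χ) 1 fun j _ => by nlinarith [h8 j]
  rw [Finset.card_univ, Fintype.card_fin, smul_eq_mul, mul_one] at h12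
  exact absurd (h11.trans (h12.trans h2)) (by norm_num)

/-- **defect groups of order nine** -/
theorem boxN3 : BoxN3 := boxN3_of boxDec

end Cfsg.Agent.OM.Lo
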