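import Cfsg.Agent.OM.Lo.OvA

/-!
# OM (S4894): the overgroup with a block of rank one (helper43)

* `Og`, `exists_og` : the overgroup;  `Dec.r1`, `Dec.og` : one or two Brauer characters;  `boxOv_of`, `boxOv`.
-/

set_option autoImplicit false
set_option linter.unusedSectionVars false
set_option maxHeartbeats 400000

namespace Cfsg.Agent.OM.Lo

open Cfsg Subgroup Cfsg.Agent.Characters.Core Cfsg.Agent.Blocks.Basic Cfsg.Agent.H649 Cfsg.Agent.Blocks.ExtendedFMT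
open Cfsg.Agent.TO.S1 (cj inv_iff res_of_inv eq_of_moved)

variable {p : ℕ} {M : Ideal AlgInt} {X : Type} [Group X] [Finite X] {Γ : Subgroup (MulAut X)}
  {b : Set (IrrCharacter X)} {D : Subgroup X}

namespace Ovg

/-- the overgroup -/
structure Og (p : ℕ) (M : Ideal AlgInt) (b : Set (IrrCharacter X)) (D : Subgroup X) (n : ℕ) (α : MulAut X) {G : Type}
    [Group G] (ι : X →* G) (B : Set (IrrCharacter G)) (g : G) : Prop where
  inj : Function.Injective ι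
  cnj : ∀ x, ι (α x) = g * ι x * g⁻¹
  gen : ∀ y, ∃ x, y = ι x ∨ y = ι x * g
  blk : IsPBlock M B
  dg : IsDefectGroup p M B (D.map ι)
  r1 : R1 p B
  low : ∀ χ ∈ B, ∃ θ ∈ b, (compIrr α θ = θ ∧ ∀ x, (χ : G → ℂ) (ι x) = (θ : X → ℂ) x) ∨
    (compIrr α θ ≠ θ ∧ ∀ x, (χ : G → ℂ) (ι x) = (θ : X → ℂ) x + (θ : X → ℂ) (α x))
  mov : ∀ θ ∈ b, compIrr α θ ≠ θ → ∃! χ, χ ∈ B ∧ ∀ x, (χ : G → ℂ) (ι x) = (θ : X → ℂ) x + (θ : X → ℂ) (α x)
  fix : ∀ θ ∈ b, compIrr α θ = θ → {χ ∈ B | ∀ x, (χ : G → ℂ) (ι x) = (θ : X → ℂ) x}.ncard = 2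
  dvd : ∀ χ ∈ B, 2 * n ∣ charDegree (χ : G → ℂ)
  sum : ∑ᶠ χ ∈ B, (charDegree (χ : G → ℂ) / (2 * n)) ^ 2 = Nat.card D

theorem exists_og (hM : IsPModular p M) (hp : p ≠ 2) (hb : IsPBlock M b) (hD : IsDefectGroup p M b D) {α : MulAut X} {y : X}
    (e1 : α * α = MulAut.conj y) (e2 : α y = y) (hst : Stb α b) {n : ℕ} (hn : 0 < n)
    (hv : n.factorization p + (Nat.card D).factorization p = (Nat.card X).factorization p)
    (h1 : ∀ θ ∈ b, n ∣ charDegree (θ : X → ℂ)) (h2 : ∀ θ ∈ b, compIrr α θ = θ → 2 * n ∣ charDegree (θ : X → ℂ))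
    (h3 : ∑ᶠ θ ∈ b, charDegree (θ : X → ℂ) ^ 2 = 2 * (n * (n * Nat.card D))) :
    ∃ (G : Type) (_ : Group G) (_ : Finite G) (ι : X →* G) (B : Set (IrrCharacter G)) (g : G), Og p M b D n α ι B g := by
  obtain ⟨G, _, _, ι, g, hι, hg, hc, hy⟩ := exists_two e1 e2
  have hN : ι.range.index = 2 := index_two hg fun z => let ⟨x, hx⟩ := hy z; ⟨ι x, ⟨x, rfl⟩, hx⟩
  have := normal_of_index_eq_two hN
  have := Fintype.ofFinite G
  have := Fintype.ofFinite ι.range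
  have := finite_irr (G := G)
  have := Fintype.ofFinite (IrrCharacter G)
  let e : X ≃* ι.range := MonoidHom.ofInjective hι
  have k1 : ∀ x, MulAut.conjNormal g (e x) = e (α x) := fun x => Subtype.ext (hc x).symm
  have k2 : ∀ θ, cj g (irrMap e θ) = irrMap e (compIrr α θ) := fun θ => Subtype.ext (funext fun z => by
    obtain ⟨x, rfl⟩ := e.surjective z
    change (irrMap e θ : ι.range → ℂ) (MulAut.conjNormal g (e x)) = _
    rw [k1, irrMap_apply', irrMap_apply', compIrr_apply])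
  have k3 : ∀ θ, cj g (irrMap e θ) = irrMap e θ ↔ compIrr α θ = θ := fun θ => by
    rw [k2, (irrMap_injective e).eq_iff]
  have k4 : Nat.card (D.map e.toMonoidHom) = Nat.card D := card_map_of_injective e.injective
  obtain ⟨B, h⟩ := exists_cv hM hp hN hg (isPBlock_blkMap (e := e) hb) (isDefectGroup_blkMap hD)
    (by
      rintro _ ⟨θ, hθ, rfl⟩
      exact ⟨_, hst θ hθ (compIrr α θ) fun _ => rfl, (k2 θ).symm⟩) hn (by rw [k4, hv, Nat.card_congr e.toEquiv])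
    (by
      rintro _ ⟨θ, hθ, rfl⟩
      exact charDegree_irrMap e θ ▸ h1 θ hθ)
    (by
      rintro _ ⟨θ, hθ, rfl⟩ h4
      exact charDegree_irrMap e θ ▸ h2 θ hθ ((k3 θ).1 h4))
    (by
      rw [k4, ← h3, blkMap, finsum_mem_image (irrMap_injective e).injOn]
      simp only [charDegree_irrMap])
  have k5 : ∀ (χ : IrrCharacter G) θ, TO.S1.Ov χ (irrMap e θ) → compIrr α θ ≠ θ →
      ∀ x, (χ : G → ℂ) (ι x) = (θ : X → ℂ) x + (θ : X → ℂ) (α x) := fun χ θ o h4 x => by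
    have h5 := res_of_moved hN hg o (mt (k3 θ).1 h4) (e x)
    rwa [k2, irrMap_apply', irrMap_apply'] at h5
  refine ⟨G, inferInstance, inferInstance, ι, B, g, hι, hc, hy, h.blk, ?_, h.r1, fun χ hχ => ?_, fun θ hθ h4 => ?_,
    fun θ hθ h4 => ?_, h.dvd, k4 ▸ h.sum⟩
  · have h4 := h.dg
    rwa [map_map] at h4
  · obtain ⟨_, ⟨θ, hθ, rfl⟩, o⟩ := (h.mem χ).1 hχ
    refine ⟨θ, hθ, (em _).imp (fun h4 => ⟨h4, fun x => ?_⟩) fun h4 => ⟨h4, k5 χ θ o h4⟩⟩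
    exact (res_of_inv hN o ((inv_iff hN hg _).2 ((k3 θ).2 h4)) (e x)).trans (irrMap_apply' e θ x)
  · obtain ⟨χ, o⟩ := Blocks.Over.exists_over ι.range (irrMap e θ)
    refine ⟨χ, ⟨(h.mem χ).2 ⟨_, ⟨θ, hθ, rfl⟩, o⟩, k5 χ θ o h4⟩, fun ψ hψ => eq_of_moved hN o ?_
      (mt (inv_iff hN hg _).1 (mt (k3 θ).1 h4))⟩
    have h5 : (fun z : ι.range => (ψ : G → ℂ) z) = fun z : ι.range => (χ : G → ℂ) z := funext fun z => by
      obtain ⟨x, rfl⟩ := e.surjective z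
      exact (hψ.2 x).trans (k5 χ θ o h4 x).symm
    exact fun h6 => o (h5 ▸ h6)
  · obtain ⟨χ, χ', h5, -, -, h6⟩ := H41.McLTwo.Cliff.card_ext hN ((inv_iff hN hg _).2 ((k3 θ).2 h4))
    rw [← Set.ncard_pair h5]
    congr 1
    ext ψ
    refine Iff.trans ⟨fun h7 z => ?_, fun h7 => ⟨(h.mem ψ).2 ⟨_, ⟨θ, hθ, rfl⟩, fun h8 => ?_⟩, fun x => ?_⟩⟩ (h6 ψ)
    · obtain ⟨x, rfl⟩ := e.surjective z
      exact (h7.2 x).trans (irrMap_apply' e θ x).symm
    · rw [funext h7, classInner_irr_self (irrMap e θ).2] at h8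
      exact one_ne_zero h8
    · exact (h7 (e x)).trans (irrMap_apply' e θ x)

end Ovg

open Ovg

theorem Dec.r1 {d : IrrCharacter X → Fin 1 → ℕ} {φ : Fin 1 → X → ℂ} (h : Dec p Γ b D d φ) (hp : p.Prime) : R1 p b := by
  have hr : IsPRegular p (1 : X) := by
    rw [IsPRegular, orderOf_one]
    exact hp.not_dvd_one
  intro χ hχ ψ hψ x hx
  rw [h.dec χ hχ x hx, h.dec ψ hψ x hx, h.dec χ hχ 1 hr, h.dec ψ hψ 1 hr]
  simp only [Fin.sum_univ_one]
  ring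

/-- **two Brauer characters** -/
theorem Dec.og {d : IrrCharacter X → Fin 2 → ℕ} {φ : Fin 2 → X → ℂ} (h : Dec p Γ b D d φ) {S : Type} [Group S] {σ : X →* S}
    (H : Hyp p M Γ b D σ) (hp : p ≠ 2) (hi : (Inn X).relIndex Γ ∣ 2) (hz : Hz Γ) :
    ∃ (n : ℕ) (α : MulAut X), 0 < n ∧ α ∈ Γ ∧ Stb α b ∧ (∀ θ ∈ b, charDegree (θ : X → ℂ) = n * (d θ 0 + d θ 1)) ∧
      (∀ θ ∈ b, d (compIrr α θ) 0 = d θ 1 ∧ d (compIrr α θ) 1 = d θ 0) ∧ (∀ θ, compIrr α (compIrr α θ) = θ) ∧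
      ∃ (G : Type) (_ : Group G) (_ : Finite G) (ι : X →* G) (B : Set (IrrCharacter G)) (g : G), Og p M b D n α ι B g := by
  have := Fintype.ofFinite X
  have := finite_irr (G := X)
  obtain ⟨n, hn, hv, h1⟩ := h.degree H.hM.1
  simp only [Fin.sum_univ_two] at h1
  obtain ⟨α, hα, hst, h2⟩ := h.tr 0 1
  obtain ⟨π, h3⟩ := h.perm α hst
  have h4 : π 0 = 1 := by
    by_contra h4
    have h5 : π 0 = 0 := by omega
    have h6 := congrFun (h.ind ![1, -1] fun x hx => by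
      simp [Fin.sum_univ_two, h2 x hx, ← h3 0 x hx, h5]) 0
    simp at h6
  have h5 : π 1 = 0 := by
    have h5 : π 1 ≠ π 0 := π.injective.ne (by decide)
    omega
  have h6 : ∀ θ ∈ b, d (compIrr α θ) 0 = d θ 1 ∧ d (compIrr α θ) 1 = d θ 0 := fun θ hθ => by
    have h6 := h.ind ![(d (compIrr α θ) 0 : ℂ) - d θ 1, (d (compIrr α θ) 1 : ℂ) - d θ 0] fun x hx => by
      have h7 := h.dec _ (hst θ hθ (compIrr α θ) fun _ => rfl) x hx
      rw [compIrr_apply, h.dec θ hθ _ ((DecP.reg_aut α).2 hx), Fin.sum_univ_two, Fin.sum_univ_two, ← h3 0 x hx, ← h3 1 x hx,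
        h4, h5] at h7
      simp only [Fin.sum_univ_two, Matrix.cons_val_zero, Matrix.cons_val_one]
      linear_combination -h7
    exact ⟨by exact_mod_cast sub_eq_zero.1 (congrFun h6 0), by exact_mod_cast sub_eq_zero.1 (congrFun h6 1)⟩
  obtain ⟨c, hc⟩ := hi
  obtain ⟨y, hy⟩ := pow_mem ((Inn X).pow_relIndex_mem hα) c
  rw [← pow_mul, ← hc, sq] at hy
  refine ⟨n, α, hn, hα, hst, h1, h6, fun θ => Subtype.ext (funext fun x => by
    rw [compIrr_apply, compIrr_apply, ← MulAut.mul_apply, ← hy, MulAut.conj_apply, isIrr_isClassFunction θ.2]),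
    exists_og H.hM hp H.hb H.hD hy.symm (hz α hα y hy.symm) hst hn hv (fun θ hθ => h1 θ hθ ▸ Dvd.intro _ rfl)
      (fun θ hθ e => ⟨d θ 0, ?_⟩) ?_⟩
  · have h7 := (h6 θ hθ).1
    rw [e] at h7
    rw [h1 θ hθ, ← h7]
    ring
  · have h7 := h.row 0
    have h8 := h.row 1
    simp only [finsum_mem_eq_finite_toFinset_sum _ b.toFinite, Fin.sum_univ_two] at h7 h8 ⊢
    rw [show 2 * (n * (n * Nat.card D)) = n ^ 2 * (Nat.card D + Nat.card D) by ring]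
    nth_rw 1 [← h7]
    rw [← h8, ← Finset.sum_add_distrib, Finset.mul_sum]
    refine Finset.sum_congr rfl fun θ hθ => ?_
    rw [h1 θ (b.toFinite.mem_toFinset.1 hθ)]
    ring

/-- **the overgroup** -/
theorem boxOv_of (hD : BoxDec) : BoxOv := by
  intro p M X _ _ Γ b D S _ σ H hp hi hz
  obtain ⟨l, d, φ, h⟩ := hD p M H.hM X Γ H.sit.inn b D H.hb H.hD H.one
  rcases (Nat.dvd_prime Nat.prime_two).1 (h.dvd.trans hi) with rfl | rfl
  · exact .inl (h.r1 H.hM.1)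
  obtain ⟨n, α, -, h1, h2, -, -, -, G, _, _, ι, B, g, o⟩ := h.og H hp hi hz
  refine .inr ⟨G, inferInstance, inferInstance, ι, B, g, o.inj, ⟨α, h1, h2, o.cnj⟩,
    ⟨1, one_mem _, ⟨0, by rw [one_pow]; exact one_mem _⟩, fun y => ?_⟩, o.blk, o.dg, o.r1, h.rank, fun χ hχ => ?_,
    fun θ hθ θ' h3 => ?_⟩
  · obtain ⟨x, hx⟩ := o.gen y
    exact ⟨x, 0, by simpa using hx⟩
  · obtain ⟨θ, hθ, h3⟩ := o.low χ hχ
    exact ⟨θ, hθ, h3.imp And.right fun h4 => ⟨compIrr α θ, h2 θ hθ _ fun _ => rfl, h4⟩⟩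
  · obtain rfl : θ' = compIrr α θ := Subtype.ext (funext fun x => h3 x _ (o.cnj x))
    exact ⟨o.mov θ hθ, o.fix θ hθ⟩

theorem boxOv : BoxOv := boxOv_of boxDec

end Cfsg.Agent.OM.Lo
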