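import Cfsg.Agent.OM.Lo.DE
import Cfsg.Agent.OM.Lo.Ov

/-!
# OM (S4894): defect groups of order `49`, two given elements of order three (helper35)

* `boxDE`;  `DE.de1` : rank one;  `boxDE1`.
-/

set_option autoImplicit false
set_option linter.unusedSectionVars false

namespace Cfsg.Agent.OM.Lo

open Cfsg Subgroup Cfsg.Agent.Characters Cfsg.Agent.Characters.Core Cfsg.Agent.Blocks Cfsg.Agent.Blocks.Basic
  Cfsg.Agent.SmallSimple.ThetaSetup Cfsg.Agent.SmallSimple.ThetaOrtho Cfsg.Agent.H644.CentralQuot Cfsg.Agent.H658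
  Cfsg.Agent.H649 Cfsg.Agent.OM.Lo.Desc

theorem boxDE : BoxDE := boxDE_of boxOv

namespace DE

variable [Fact (Nat.Prime 7)] {M : Ideal AlgInt}

/-- the inertial index is divisible by three -/
theorem rank3' (hM : IsPModular 7 M) {L : Type} [Group L] [Finite L] {P : Subgroup L} (hP : Nat.card P = 7)
    {t : L} (ht : t ∈ normalizer (P : Set L)) (t1 : t ∉ centralizer (P : Set L)) (t3 : t ^ 3 = 1)
    (hc : ∀ y ∈ centralizer (P : Set L), ¬ 7 ∣ orderOf y → t * y = y * t) {c : Set (IrrCharacter L)} (hb : IsPBlock M c)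
    (hD : IsDefectGroup 7 M c P) : 2 < blockRank 7 c := by
  have : Fact (Nat.Prime 3) := ⟨Nat.prime_three⟩
  have := Local.isPrime_of_isPModular hM
  have h1 : IsCyclic P := isCyclic_of_prime_card hP
  obtain ⟨b, h2⟩ := exists_root_centralizer hM inferInstance hD hb
  obtain ⟨T, hT⟩ := exists_stabilizer hM P h2.1
  have h3 : t ∈ T := (hT t).2 ⟨ht, fun θ hθ θ' h => by
    have h4 : ∀ x, IsPRegular 7 x → (θ' : _ → ℂ) x = (θ : _ → ℂ) x := fun x hx =>
      h x x (eq_mul_inv_iff_mul_eq.2 (hc x x.2 (by rwa [orderOf_coe])).symm)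
    rw [isPBlock_eq_blockOf h2.1 hθ]
    exact mem_blockOf.2 (sameBlock_of_prop hM θ.2 θ'.2 fun x hx => by
      rw [h4 x hx, h4 1 (by rw [IsPRegular, orderOf_one]; decide)])⟩
  rw [S4695.result 7 M hM P h1 1 le_rfl hP c hb hD b h2 T hT _ rfl]
  obtain ⟨φ, hφ⟩ := exists_phi P hP
  let f := φ.comp (inclusion (show T ≤ normalizer (P : Set L) from fun g h => ((hT g).1 h).1))
  have h4 : orderOf (f ⟨t, h3⟩) = 3 := orderOf_eq_prime
    (by rw [← map_pow, show (⟨t, h3⟩ : T) ^ 3 = 1 from Subtype.ext t3, map_one]) fun h => t1 ((hφ _).1 h)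
  have h5 := h4 ▸ f.range.orderOf_dvd_natCard ⟨_, rfl⟩
  rw [← index_ker, show f.ker = (centralizer (P : Set L)).subgroupOf T from Subgroup.ext fun g => hφ _] at h5
  exact Nat.le_of_dvd (Nat.pos_of_ne_zero index_ne_zero_of_finite) h5

attribute [local instance] Desc.ma

section

variable {G : Type} [Group G] [Fintype G] {u : G} [Fintype (Cu u)] [Fintype (Nu u)] [(Uu u).Normal]

/-- the passage to the normaliser -/
theorem loc1 (hu : orderOf u = 7) {P : Sylow 7 (Cu u ⧸ Uu u)} (hP : Nat.card P = 7) {Y : Subgroup (Cu u ⧸ Uu u)}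
    (hY : IsComp 7 (P : Subgroup _) Y) {t : Cu u}
    (ht : QuotientGroup.mk t ∈ normalizer ((P : Subgroup (Cu u ⧸ Uu u)) : Set (Cu u ⧸ Uu u)))
    (t1 : QuotientGroup.mk t ∉ centralizer ((P : Subgroup (Cu u ⧸ Uu u)) : Set (Cu u ⧸ Uu u))) (t3 : t ^ 3 = 1)
    {r : Nu u} (r1 : (r : G) ∉ Cu u) (r3 : r ^ 3 = 1) (rt : Commute (t : G) r) {v : Cu u} (rv : Commute (v : G) r)
    (hv : (P : Subgroup (Cu u ⧸ Uu u)) ≤ zpowers (QuotientGroup.mk v))
    (hc : ∀ y ∈ Y, ∃ x : Cu u, QuotientGroup.mk x = y ∧ Commute (t : G) x ∧ Commute (r : G) x)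
    {θ : IrrCharacter Y} {A : Set (IrrCharacter (Cu u))} (h1 : A ⊆ fl '' Over P (θ : Y → ℂ)) (h2 : 2 < A.ncard)
    (h3 : ∀ ψ ∈ A, ∀ ψ' ∈ A, ∃ g : Nu u, g • ψ = ψ') : False := by
  have := finite_irr (G := Cu u)
  obtain ⟨φ, hφ⟩ := exists_phi (zpowers u) ((Nat.card_zpowers u).trans hu)
  rw [show centralizer (zpowers u : Set G) = Cu u by rw [zpowers_eq_closure, centralizer_closure]] at hφ
  obtain ⟨ψ, h4, ψ', h5, h6, g, h7, h8⟩ : ∃ ψ ∈ A, ∃ ψ' ∈ A, ψ ≠ ψ' ∧ ∃ g : Nu u, g • ψ = ψ' ∧ φ g ^ 3 = 1 := by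
    obtain ⟨a, ha, b, hb, c, hc, ab, ac, bc⟩ := (Set.two_lt_ncard (s := A)).1 h2
    obtain ⟨g, rfl⟩ := h3 a ha b hb
    obtain ⟨g', rfl⟩ := h3 a ha c hc
    rcases z3 (φ g) (φ g') with h | h | h
    · exact ⟨_, ha, _, hb, ab, g, rfl, h⟩
    · exact ⟨_, ha, _, hc, ac, g', rfl, h⟩
    · exact ⟨_, hb, _, hc, bc, g' * g⁻¹, by rw [mul_smul, inv_smul_smul], by rwa [map_mul, map_inv]⟩
  obtain ⟨ψ, h9, rfl⟩ := h1 h4
  obtain ⟨ψ', -, rfl⟩ := h1 h5
  let Q := (zpowers u).subgroupOf (Nu u)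
  let j : Cu u ⧸ Uu u →* Nu u ⧸ Q := QuotientGroup.map _ Q (inclusion cu_le) fun _ h => h
  let μ : Nu u ⧸ Q →* (ZMod 7)ˣ := QuotientGroup.lift Q φ fun _ h => (hφ _).2 (zp_le h)
  have hj : Function.Injective j := (injective_iff_map_eq_one j).2 fun x h => by
    obtain ⟨x, rfl⟩ := QuotientGroup.mk_surjective x
    exact (QuotientGroup.eq_one_iff _).2 ((QuotientGroup.eq_one_iff (N := Q) _).1 h)
  have hμ : ∀ x, μ (j x) = 1 := fun x => by
    obtain ⟨x, rfl⟩ := QuotientGroup.mk_surjective x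
    exact (hφ _).2 x.2
  let K := ((powMonoidHom 3).comp μ).ker
  have := Fintype.ofFinite K
  have := Fintype.ofFinite (Cu u ⧸ Uu u)
  let ι : Cu u ⧸ Uu u →* K := j.codRestrict K fun x => (congrArg (· ^ 3) (hμ x)).trans (one_pow 3)
  have hι : Function.Injective ι := fun x y h => hj (congrArg Subtype.val h)
  let r' : K := ⟨QuotientGroup.mk r, show φ r ^ 3 = 1 by rw [← map_pow, r3, map_one]⟩
  have hr : ∀ x : Cu u, Commute (x : G) r → Commute (ι (QuotientGroup.mk x)) r' := fun x h =>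
    Subtype.ext (congrArg (QuotientGroup.mk (s := Q)) (Subtype.ext h : inclusion cu_le x * r = r * inclusion cu_le x))
  refine al1 hι (μ := μ.comp K.subtype) (fun k => ⟨fun h => ?_, ?_⟩) (fun k => k.2) hP hY ht t1
    (by rw [← QuotientGroup.mk_pow, t3, QuotientGroup.mk_one]) (fun y h => ?_) (r := r') (fun h => r1 ((hφ r).1 h))
    (Subtype.ext (by rw [coe_pow, ← QuotientGroup.mk_pow, r3]; rfl)) (fun x h => ?_) (fun y h => ?_) (hr t rt)
    θ.2 h9 (fun h => h6 (congrArg fl h)) (s := ⟨QuotientGroup.mk g, h8⟩) fun x x' h => ?_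
  · obtain ⟨k, hk⟩ := k
    obtain ⟨k, rfl⟩ := QuotientGroup.mk_surjective k
    exact ⟨QuotientGroup.mk ⟨k, (hφ k).1 h⟩, rfl⟩
  · rintro ⟨x, rfl⟩
    exact hμ x
  · obtain ⟨x, rfl, h10, -⟩ := hc y h
    exact congrArg QuotientGroup.mk (Subtype.ext h10 : t * x = x * t)
  · obtain ⟨k, rfl⟩ := hv h
    exact map_zpow ι _ k ▸ (hr v rv).zpow_left k
  · obtain ⟨x, rfl, -, h10⟩ := hc y h
    exact hr x h10.symm
  · obtain ⟨x, rfl⟩ := QuotientGroup.mk_surjective x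
    obtain rfl : x' = QuotientGroup.mk (ac u g x) := hι (h.trans rfl)
    exact (congrArg (fun χ : IrrCharacter (Cu u) => (χ : Cu u → ℂ) (ac u g x)) h7).symm.trans (irrMap_apply' _ _ _)

end

/-- **rank one, Sylow defect group, two elements of order three** -/
theorem de1 (hM : IsPModular 7 M) {G : Type} [Group G] [Finite G] {B : Set (IrrCharacter G)} {D : Subgroup G} (hB : IsPBlock M B)
    (hD : IsDefectGroup 7 M B D) (hR : R1 7 B) (hc : Nat.card D = 7 ^ 2) (hn : ¬ IsCyclic D) (hS : ¬ 7 ^ 3 ∣ Nat.card G)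
    {u v t t' : G} (hu : u ∈ D) (u1 : u ≠ 1) (hv : v ∈ D) (v1 : v ≠ 1) (ht : t ∈ normalizer (D : Set G)) (t3 : t ^ 3 = 1)
    (t3' : t' ^ 3 = 1) (tt : Commute t t') (tu : t * u * t⁻¹ = u) (tv : t * v * t⁻¹ = v ^ 2) (tu' : t' * u * t'⁻¹ = u ^ 2)
    (tv' : t' * v * t'⁻¹ = v) (hy : ∀ y ∈ centralizer (D : Set G), ¬ 7 ∣ orderOf y → Commute t y ∧ Commute t' y) : False := by
  have := Fintype.ofFinite G
  have := Fintype.ofFinite (Cu u)
  have := Fintype.ofFinite (Nu u)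
  have := Fintype.ofFinite (Uu u)
  have hab := IsPGroup.isMulCommutative_of_card_eq_prime_sq hc
  have ho : orderOf u = 7 := by
    obtain ⟨k, h1, h2⟩ := (Nat.dvd_prime_pow Fact.out).1 (hc ▸ D.orderOf_dvd_natCard hu)
    obtain rfl | rfl | rfl : k = 0 ∨ k = 1 ∨ k = 2 := by omega
    · exact absurd (orderOf_eq_one_iff.1 h2) u1
    · exact h2
    · exact absurd (isCyclic_of_orderOf_eq_card ⟨u, hu⟩ (by rw [hc, ← h2, ← orderOf_coe])) hn
  obtain ⟨β, U, _, h1, h2, h4, -, h5, -, -, h6⟩ := exists_major_defl hM hB hD hab hu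
  obtain rfl : Uu u = U := h4 ▸ Subgroup.ext fun x => by
    rw [mem_subgroupOf, ← mem_map_iff_mem (subtype_injective _), MonoidHom.map_zpowers]
    rfl
  have h7 := isPBlock_defl hM uu_le h5 h1.1
  have h8 := blockDefect_defl hM uu_le (card_uu.trans (ho.trans (pow_one 7).symm)) h1.1
  rw [h2, ← H592.Defect.factorization_card_defect 7 hM hB hD, hc, Nat.Prime.factorization_pow Fact.out, Finsupp.single_eq_same] at h8
  have h9 := S0908.result 7 M hM _ h7 _ h6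
  rw [show blockDefect 7 (defl (Uu u) β) = 1 by omega, pow_one] at h9
  obtain ⟨P, hP⟩ : ∃ P : Sylow 7 (Cu u ⧸ Uu u), map (QuotientGroup.mk' (Uu u)) (D.subgroupOf (Cu u)) = P :=
    ⟨(H592.Defect.isPGroup_of_isDefectGroup h6).toSylow fun ⟨k, hk⟩ => hS (Dvd.dvd.trans ⟨k, by
      rw [card_eq_card_quotient_mul_card_subgroup (Uu u), ← card_mul_index (map (QuotientGroup.mk' (Uu u)) (D.subgroupOf (Cu u))),
        hk, h9, card_uu, ho]
      ring⟩ (card_subgroup_dvd_card (Cu u))), rfl⟩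
  have hd : ∀ d ∈ D, d ∈ Cu u := fun d hd =>
    mem_centralizer_singleton_iff.2 (congrArg Subtype.val (hab.is_comm.comm ⟨d, hd⟩ ⟨u, hu⟩))
  have hd' : ∀ d (h : d ∈ D), QuotientGroup.mk ⟨d, hd d h⟩ ∈ (P : Subgroup (Cu u ⧸ Uu u)) := fun d h =>
    hP ▸ mem_map_of_mem (QuotientGroup.mk' (Uu u)) (mem_subgroupOf.2 h)
  have h10 : ∀ y ∈ centralizer ((P : Subgroup (Cu u ⧸ Uu u)) : Set (Cu u ⧸ Uu u)), ¬ 7 ∣ orderOf y →
      ∃ x : Cu u, QuotientGroup.mk x = y ∧ Commute t x ∧ Commute t' x := fun y h h' => by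
    obtain ⟨x, h11, rfl⟩ := PRegular.exists_isPRegular_lift _ 7 (Uu u) h'
    exact ⟨x, rfl, hy x (Subgroup.mem_centralizer_iff.2 fun d h0 => congrArg Subtype.val (mem_centralizer_singleton_iff.1
      ((H644.CentralQuot.mem_centralizer_iff uu_le h5 h11 ⟨d, hd d h0⟩).1
        (mem_centralizer_singleton_iff.2 (Subgroup.mem_centralizer_iff.1 h _ (hd' d h0)))))) (by rwa [orderOf_coe])⟩
  let t0 : Cu u := ⟨t, mem_centralizer_singleton_iff.2 (mul_inv_eq_iff_eq_mul.1 tu)⟩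
  let v0 : Cu u := ⟨v, hd v hv⟩
  have h11 : (QuotientGroup.mk v0 : Cu u ⧸ Uu u) ≠ 1 := fun h => by
    rw [comm_of t0.2 (mem_subgroupOf.1 ((QuotientGroup.eq_one_iff _).1 h)), mul_inv_cancel_right, sq, left_eq_mul] at tv
    exact v1 tv
  have h12 : QuotientGroup.mk t0 ∈ normalizer ((P : Subgroup (Cu u ⧸ Uu u)) : Set (Cu u ⧸ Uu u)) :=
    hP ▸ le_normalizer_map (QuotientGroup.mk' (Uu u)) (mem_map_of_mem _ (le_normalizer_comap (Cu u).subtype ht))
  have h13 : QuotientGroup.mk t0 ∉ centralizer ((P : Subgroup (Cu u ⧸ Uu u)) : Set (Cu u ⧸ Uu u)) := fun h => by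
    have h14 := congrArg (QuotientGroup.mk (s := Uu u)) (Subtype.ext tv : t0 * v0 * t0⁻¹ = v0 ^ 2)
    rw [QuotientGroup.mk_mul, QuotientGroup.mk_mul, QuotientGroup.mk_inv, QuotientGroup.mk_pow,
      ← Subgroup.mem_centralizer_iff.1 h _ (hd' v hv), mul_inv_cancel_right, sq, left_eq_mul] at h14
    exact h11 h14
  rw [hP] at h6 h9
  obtain ⟨Y, hY⟩ := exists_isComp P h9
  obtain ⟨θ, hθ⟩ := H608.CycOne.exists_eq_Over hY h9 hM h7 (by omega)
  obtain ⟨A, h15, h16, h17, h18⟩ := cc hM hD hR hc ho h1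
  refine loc1 ho h9 hY h12 h13 (Subtype.ext t3) (r := ⟨t', mem_normalizer_fintype fun w hw => ?_⟩) (fun h => ?_) (Subtype.ext t3') tt
    (v := v0) (mul_inv_eq_iff_eq_mul.1 tv').symm ?_ (fun y h => h10 y (hY.le h) ((hY y).1 h).2) (θ := θ) (fun ψ hψ => ?_)
    (h16 ▸ blockRank_defl hM uu_le h5 h1.1 ▸ rank3' hM h9 h12 h13
      (by rw [← QuotientGroup.mk_pow, show t0 ^ 3 = 1 from Subtype.ext t3, QuotientGroup.mk_one]) (fun y h h' => ?_) h7 h6) h18
  · obtain ⟨k, rfl⟩ := hw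
    show t' * u ^ k * t'⁻¹ ∈ zpowers u
    rw [← conj_zpow, tu']
    exact zpow_mem (pow_mem (mem_zpowers u) 2) k
  · rw [mem_centralizer_singleton_iff.1 h, mul_inv_cancel_right, sq, left_eq_mul] at tu'
    exact u1 tu'
  · refine (Subgroup.eq_of_le_of_card_ge (zpowers_le.2 (hd' v hv)) (le_of_eq ?_)).ge
    rw [Nat.card_zpowers, h9]
    exact (((Fact.out : Nat.Prime 7).eq_one_or_self_of_dvd _ (h9 ▸ (P : Subgroup (Cu u ⧸ Uu u)).orderOf_dvd_natCard (hd' v hv))).resolve_left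
      (mt orderOf_eq_one_iff.1 h11)).symm
  · obtain ⟨η, hη⟩ := Deflate.exists_deflation (Uu u) (ψ : Cu u → ℂ) ψ.2 (by
      rw [Finset.sum_congr rfl fun (z : Uu u) _ => h17 ψ hψ z z.2, Finset.sum_const, Finset.card_univ, nsmul_eq_mul]
      exact mul_ne_zero (by exact_mod_cast Fintype.card_ne_zero) (isIrr_apply_one_ne_zero ψ.2))
    obtain rfl : fl η = ψ := Subtype.ext hη.symm
    exact ⟨η, hθ ▸ h15 hψ, rfl⟩
  · obtain ⟨x, rfl, h14, -⟩ := h10 y h h'
    exact congrArg QuotientGroup.mk (Subtype.ext h14 : t0 * x = x * t0)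

/-- the commutator with an element of order three -/
theorem cube {G : Type} [Group G] {t y : G} (t3 : t ^ 3 = 1) (h : Commute t (y⁻¹ * (t * y * t⁻¹))) :
    (y⁻¹ * (t * y * t⁻¹)) ^ 3 = 1 := by
  generalize hz : y⁻¹ * (t * y * t⁻¹) = z at h
  have h1 : t * y = y * z * t := by rw [← hz]; group
  have h2 : t ^ 3 * y = y * z ^ 3 * t ^ 3 := by
    calc t ^ 3 * y = t * (t * (t * y)) := by simp only [pow_succ, pow_zero, one_mul, mul_assoc]
      _ = y * (z * t) ^ 3 := by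
        simp only [h1, ← mul_assoc t, mul_assoc _ z t, mul_assoc y]
        simp only [pow_succ, pow_zero, one_mul, mul_assoc]
      _ = _ := by rw [h.symm.mul_pow, mul_assoc]
  rwa [t3, one_mul, mul_one, left_eq_mul] at h2

end DE

open DE in
/-- **defect groups of order `49`, two elements of order three** -/
theorem boxDE1 {M : Ideal AlgInt} {X : Type} [Group X] [Finite X] {Γ : Subgroup (MulAut X)} {b : Set (IrrCharacter X)}
    {D : Subgroup X} {S : Type} [Group S] {σ : X →* S} (H : Hyp 7 M Γ b D σ) (hi : (Inn X).relIndex Γ ∣ 2) (hz : Hz Γ)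
    (hc : Nat.card D = 49) (hS : ¬ 7 ^ 3 ∣ Nat.card X) (h3 : ∀ z ∈ centralizer (D : Set X), z ^ 3 = 1 → z ∈ center X)
    {u v t t' : X} (hu : u ∈ D) (u1 : u ≠ 1) (hv : v ∈ D) (v1 : v ≠ 1) (ht : t ∈ normalizer (D : Set X))
    (ht' : t' ∈ normalizer (D : Set X)) (t3 : t ^ 3 = 1)
    (t3' : t' ^ 3 = 1) (tt : Commute t t') (tu : t * u * t⁻¹ = u) (tv : t * v * t⁻¹ = v ^ 2) (tu' : t' * u * t'⁻¹ = u ^ 2)
    (tv' : t' * v * t'⁻¹ = v) (hy : ∀ y ∈ centralizer (D : Set X), ¬ 7 ∣ orderOf y → Commute t y ∧ Commute t' y) : False := by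
  have : Fact (Nat.Prime 7) := ⟨by norm_num⟩
  obtain hR | ⟨G, _, _, ι, B, g, hι, ⟨α, hΓ, -, hα⟩, ⟨c, hc1, ⟨k, z, -, hc3⟩, hG⟩, hB, hD, hR, -⟩ :=
    boxOv 7 M X Γ b D S σ H (by decide) hi hz
  · exact de1 H.hM H.hb H.hD hR hc H.nc hS hu u1 hv v1 ht t3 t3' tt tu tv tu' tv' hy
  have cc : ∀ (y : G) (n : ℕ), Commute y (c ^ n) := fun y n => Commute.pow_right (mem_center_iff.1 hc1 y) n
  have cd : ∀ (a y : G) (n : ℕ), a * c ^ n * y * (a * c ^ n)⁻¹ = a * y * a⁻¹ := fun a y n => by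
    rw [mul_assoc a, ← (cc y n).eq]
    group
  have hN : ι.range.Normal := ⟨by
    rintro _ ⟨y, rfl⟩ w
    obtain ⟨x, n, rfl | rfl⟩ := hG w
    · exact ⟨x * y * x⁻¹, by rw [map_mul, map_mul, map_inv, cd]⟩
    · exact ⟨x * α y * x⁻¹, by rw [map_mul, map_mul, map_inv, hα, mul_assoc (ι x) (c ^ n), ← (cc g n).eq, ← mul_assoc _ g, cd]; group⟩⟩
  let π := QuotientGroup.mk' ι.range
  have h4 : ∀ x, π (ι x) = 1 := fun x => (QuotientGroup.eq_one_iff _).2 ⟨x, rfl⟩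
  have h5 : π c ^ 2 ^ k = 1 := by rw [← map_pow, ← hc3, h4]
  have h6 : ∃ n, π g ^ 2 = π c ^ n := by
    obtain ⟨x, n, h | h⟩ := hG (g * g)
    · exact ⟨n, by rw [sq, ← map_mul, h, map_mul, h4, one_mul, map_pow]⟩
    · exact ⟨n * 2, by rw [mul_right_cancel h, map_mul, h4, one_mul, map_pow, pow_mul]⟩
  have h7 : ∀ y : G, ∃ n, π y ^ 2 = π c ^ n := fun y => by
    obtain ⟨m, hm⟩ := h6
    obtain ⟨x, n, rfl | rfl⟩ := hG y
    · exact ⟨n * 2, by rw [map_mul, h4, one_mul, map_pow, pow_mul]⟩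
    · exact ⟨n * 2 + m, by rw [map_mul, map_mul, h4, one_mul, ((cc g n).map π).symm.mul_pow, hm, map_pow, pow_add, pow_mul]⟩
  have h8 : IsPGroup 2 (G ⧸ ι.range) := fun y => by
    obtain ⟨y, rfl⟩ := QuotientGroup.mk'_surjective _ y
    obtain ⟨n, hn⟩ := h7 y
    exact ⟨k + 1, by rw [pow_succ', pow_mul, hn, ← pow_mul, mul_comm, pow_mul, h5, one_pow]⟩
  have h9 : ¬ 7 ^ 3 ∣ Nat.card G := fun h => by
    obtain ⟨m, hm⟩ := h8.exists_card_eq
    rw [card_eq_card_quotient_mul_card_subgroup ι.range, hm, ← Nat.card_congr (MonoidHom.ofInjective hι).toEquiv] at h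
    exact hS ((Nat.Coprime.pow _ _ (by decide)).dvd_of_dvd_mul_left h)
  have h10 : ∀ x, ι x ∈ centralizer (D.map ι : Set G) ↔ x ∈ centralizer (D : Set X) := fun x => by
    rw [Subgroup.mem_centralizer_iff, Subgroup.mem_centralizer_iff, coe_map, Set.forall_mem_image]
    simp only [← map_mul, hι.eq_iff]
  have h11 : ∀ x ∈ center X, ∀ y, Commute y (ι x) := fun x hx y => by
    have h12 : ∀ w n, Commute (ι w * c ^ n) (ι x) := fun w n =>
      (Commute.map (mem_center_iff.1 hx w) ι).mul_left (cc _ n).symm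
    obtain ⟨w, n, rfl | rfl⟩ := hG y
    · exact h12 w n
    · exact (h12 w n).mul_left (mul_inv_eq_iff_eq_mul.1 ((hα x).symm.trans (congrArg ι (H.sit.fix α hΓ x hx))))
  have h12 : Nat.card (D.map ι) = 7 ^ 2 := (card_map_of_injective hι).trans hc
  have h19 : ¬ 7 ∣ (center (centralizer (D.map ι : Set G))).index := fun e => h9 (by
    have hab := IsPGroup.isMulCommutative_of_card_eq_prime_sq h12
    have h20 := card_dvd_of_le (show (D.map ι).subgroupOf (centralizer (D.map ι : Set G)) ≤ center _ from fun d hd =>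
      mem_center_iff.2 fun w => Subtype.ext (Subgroup.mem_centralizer_iff.1 w.2 d hd).symm)
    rw [Nat.card_congr (subgroupOfEquivOfLe (Subgroup.le_centralizer _)).toEquiv, h12] at h20
    exact (mul_dvd_mul h20 e).trans ((card_mul_index _).dvd.trans (card_subgroup_dvd_card _)))
  have key : ∀ s ∈ normalizer (D : Set X), s ^ 3 = 1 → (∀ y ∈ centralizer (D : Set X), ¬ 7 ∣ orderOf y → Commute s y) →
      ∀ y ∈ centralizer (D.map ι : Set G), ¬ 7 ∣ orderOf y → Commute (ι s) y := fun s hs s3 hy y h h' => by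
    have h17 : ι s * y * (ι s)⁻¹ ∈ centralizer (D.map ι : Set G) :=
      (mem_normalizer_iff.1 (H649.mem_normalizer_centralizer (le_normalizer_map ι (mem_map_of_mem ι hs))) y).1 h
    have h18 := mul_mem (inv_mem h) h17
    obtain ⟨x, hx⟩ : y⁻¹ * (ι s * y * (ι s)⁻¹) ∈ ι.range := (QuotientGroup.eq_one_iff _).1 (by
      show π _ = 1
      rw [map_mul, map_mul, map_mul, map_inv, map_inv, h4, one_mul, inv_one, mul_one, inv_mul_cancel])
    have h20 := reg_mul h19 (a := ⟨y, h⟩⁻¹) (b := ⟨_, h17⟩) (by rwa [orderOf_inv, ← orderOf_coe])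
      (by rwa [← orderOf_coe, coe_mk, ← MulAut.conj_apply, MulEquiv.orderOf_eq])
    rw [← orderOf_coe, coe_mul, coe_inv, ← hx, orderOf_injective ι hι] at h20
    have h21 := (h10 x).1 (hx ▸ h18)
    have h22 := cube (by rw [← map_pow, s3, map_one]) (hx ▸ (hy x h21 h20).map ι : Commute (ι s) (y⁻¹ * (ι s * y * (ι s)⁻¹)))
    rw [← hx] at h22
    obtain ⟨m, hm⟩ := h8 (π y)
    obtain ⟨w, hw⟩ := (QuotientGroup.eq_one_iff _).1 ((map_pow π y _).trans hm)
    have h23 : Commute (ι s) (y ^ 2 ^ m) := hw ▸ (hy w ((h10 w).1 (hw ▸ pow_mem h _)) fun e =>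
      h' ((orderOf_injective ι hι w ▸ e).trans (hw ▸ orderOf_pow_dvd _))).map ι
    have h24 := congrArg (· ^ 2 ^ m) (eq_inv_mul_iff_mul_eq.1 hx)
    simp only [(h11 x (h3 x h21 (hι (by rw [map_pow, h22, map_one]))) y).mul_pow, conj_pow, h23.eq, mul_inv_cancel_right,
      mul_eq_left] at h24
    rw [orderOf_eq_one_iff.1 (Nat.eq_one_of_dvd_coprimes (Nat.Coprime.pow_right m (by decide : Nat.Coprime 3 2))
      (orderOf_dvd_of_pow_eq_one h22) (orderOf_dvd_of_pow_eq_one h24)), eq_inv_mul_iff_mul_eq, mul_one] at hx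
    exact (eq_mul_inv_iff_mul_eq.1 hx).symm
  exact de1 H.hM hB hD hR h12 (fun h => H.nc (isCyclic_of_surjective _ (D.equivMapOfInjective ι hι).symm.surjective)) h9
    (mem_map_of_mem ι hu) (fun h => u1 (hι (h.trans ι.map_one.symm))) (mem_map_of_mem ι hv) (fun h => v1 (hι (h.trans ι.map_one.symm)))
    (le_normalizer_map ι (mem_map_of_mem ι ht)) (by rw [← map_pow, t3, map_one]) (t' := ι t') (by rw [← map_pow, t3', map_one])
    (tt.map ι) (by rw [← map_inv, ← map_mul, ← map_mul, tu]) (by rw [← map_inv, ← map_mul, ← map_mul, tv, map_pow])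
    (by rw [← map_inv, ← map_mul, ← map_mul, tu', map_pow]) (by rw [← map_inv, ← map_mul, ← map_mul, tv']) fun y h h' =>
      ⟨key t ht t3 (fun y a b => (hy y a b).1) y h h', key t' ht' t3' (fun y a b => (hy y a b).2) y h h'⟩

end Cfsg.Agent.OM.Lo
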