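import Cfsg.Agent.OM.Lo.Ov
import Cfsg.Agent.Blocks.PPart

/-!
# OM (S4894): defect groups of order `49`, the passage to the overgroup (helper43)
-/

set_option autoImplicit false
set_option linter.unusedSectionVars false
set_option maxHeartbeats 400000

namespace Cfsg.Agent.OM.Lo.DEb

open Cfsg Subgroup

variable {p : ℕ} [hp : Fact p.Prime] {G : Type} [Group G] [Finite G] {D : Subgroup G}

theorem eq_one (hD : IsPGroup p D) {a : G} (ha : a ∈ D) {n : ℕ} (hn : ¬ p ∣ n) (h : a ^ n = 1) : a = 1 := by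
  obtain ⟨k, hk⟩ := hD ⟨a, ha⟩
  exact orderOf_eq_one_iff.1 (Nat.eq_one_of_dvd_coprimes ((hp.out.coprime_iff_not_dvd.2 hn).pow_left k)
    (orderOf_dvd_of_pow_eq_one (congrArg Subtype.val hk)) (orderOf_dvd_of_pow_eq_one h))

theorem comm (hD : IsPGroup p D) {t y a c : G} (h3 : t ^ 3 = 1) (ht : t ∈ normalizer (D : Set G))
    (hy : y ∈ centralizer (D : Set G)) (hr : ¬ p ∣ orderOf y) (ha : a ∈ D) (hc : c ∈ centralizer (D : Set G))
    (h1 : Commute t c) (h2 : ¬ p ∣ orderOf c) (h4 : c ^ 3 = 1 → c = 1) (e : t * y * t⁻¹ = a * c * y) : Commute t y := by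
  have k1 : MulAut.conj t a ∈ D := (mem_normalizer_iff.1 ht a).1 ha
  have k2 : MulAut.conj t (MulAut.conj t a) ∈ D := (mem_normalizer_iff.1 ht _).1 k1
  have k3 : MulAut.conj t c = c := by rw [MulAut.conj_apply, h1.eq, mul_inv_cancel_right]
  have k4 : MulAut.conj t y = a * c * y := e
  have k5 : MulAut.conj t (MulAut.conj t (MulAut.conj t y)) = y := by
    rw [← MulAut.mul_apply, ← MulAut.mul_apply, ← map_mul, ← map_mul, ← pow_three', h3, map_one, MulAut.one_apply]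
  simp only [k4, map_mul, k3] at k5
  generalize MulAut.conj t (MulAut.conj t a) = a2 at k2 k5
  generalize MulAut.conj t a = a1 at k1 k5
  have k6 : a2 * a1 * a * c ^ 3 = 1 := by
    refine mul_right_cancel (b := y) ?_
    rw [one_mul]
    nth_rw 2 [← k5]
    rw [show a2 * c * (a1 * c * (a * c * y)) = a2 * (c * a1) * (c * a) * c * y by group, ← hc a1 k1, ← hc a ha,
      show a2 * (a1 * c) * (a * c) * c * y = a2 * a1 * (c * a) * c * c * y by group, ← hc a ha, pow_three']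
    simp only [mul_assoc]
  have k7 : c ^ 3 ∈ D := (D.mul_mem_cancel_left (mul_mem (mul_mem k2 k1) ha)).1 (k6 ▸ one_mem D)
  rw [h4 (eq_one hD k7 h2 (by rw [← pow_mul, mul_comm, pow_mul, pow_orderOf_eq_one, one_pow])), mul_one] at e
  have k8 : (a * y) ^ orderOf y = 1 := by rw [← e, conj_pow, pow_orderOf_eq_one, mul_one, mul_inv_cancel]
  rw [Commute.mul_pow (hy a ha), pow_orderOf_eq_one, mul_one] at k8
  rw [eq_one hD ha hr k8, one_mul] at e
  exact mul_inv_eq_iff_eq_mul.1 e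

theorem mem_syl {k : ℕ} (h1 : Nat.card D = p ^ k) (h2 : ¬ p ^ (k + 1) ∣ Nat.card G) {a : G}
    (ha : a ∈ centralizer (D : Set G)) {j : ℕ} (hj : orderOf a = p ^ j) : a ∈ D := by
  have h3 := IsPGroup.to_sup_of_normal_left' (IsPGroup.of_card h1) (IsPGroup.of_card ((Nat.card_zpowers a).trans hj))
    (zpowers_le.2 (centralizer_le_normalizer _ ha))
  obtain ⟨n, hn⟩ := IsPGroup.iff_card.1 h3
  have h4 : n ≤ k := by
    by_contra h4
    exact h2 ((pow_dvd_pow p (by omega)).trans (hn ▸ card_subgroup_dvd_card _))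
  rw [eq_of_le_of_card_ge (le_sup_left : D ≤ D ⊔ zpowers a) (by
    rw [hn, h1]
    exact Nat.pow_le_pow_right hp.out.pos h4)]
  exact mem_sup_right (mem_zpowers a)

end DEb

open Cfsg Subgroup DEb

/-- **defect groups of order `49`** -/
theorem DEb.boxDE_of (h0 : BoxDE0) : BoxDE := by
  intro M X _ _ Γ b D S _ σ H hi hz h49 h3 hC u hu hu1 t ht ho hc hy
  have := Fact.mk H.hM.1
  have := Fact.mk Nat.prime_three
  obtain ⟨l, d, φ, h⟩ := boxDec 7 M H.hM X Γ H.sit.inn b D H.hb H.hD H.one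
  rcases (Nat.dvd_prime Nat.prime_two).1 (h.dvd.trans hi) with rfl | rfl
  · exact h0 M H.hM X b D H.hb H.hD (h.r1 H.hM.1) h49 H.nc hC u hu hu1 t ht ho hc hy
  obtain ⟨n, α, -, -, -, -, -, -, G, _, _, ι, B, g, o⟩ := h.og H (by decide) hi hz
  have k1 : ∀ x, ι x ∈ centralizer (D.map ι : Set G) ↔ x ∈ centralizer (D : Set X) := fun x =>
    ⟨fun e d hd => o.inj (by rw [map_mul, map_mul, e _ ⟨d, hd, rfl⟩]), by
      rintro e _ ⟨d, hd, rfl⟩
      rw [← map_mul, ← map_mul, e d hd]⟩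
  have k2 : ∀ y : G, y ^ 2 ∈ ι.range := fun y => by
    by_cases hg : g ∈ ι.range
    · obtain ⟨x, rfl | rfl⟩ := o.gen y
      · exact pow_mem (MonoidHom.mem_range.2 ⟨x, rfl⟩) 2
      · exact pow_mem (mul_mem (MonoidHom.mem_range.2 ⟨x, rfl⟩) hg) 2
    · exact sq_mem_of_index_two (Ovg.index_two hg fun z => let ⟨x, hx⟩ := o.gen z; ⟨ι x, ⟨x, rfl⟩, hx⟩) y
  have k3 : ∀ c ∈ centralizer (D : Set X), c ^ 3 = 1 → c = 1 := fun c hc e => by
    by_contra h1
    exact hC (orderOf_eq_prime e h1 ▸ orderOf_dvd_natCard _ hc)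
  have k4 : ι t ∈ normalizer (D.map ι : Set G) := le_normalizer_map ι ⟨t, ht, rfl⟩
  have k5 : t ^ 3 = 1 := ho ▸ pow_orderOf_eq_one t
  refine h0 M H.hM G B (D.map ι) o.blk o.dg o.r1 ((card_map_of_injective o.inj).trans h49)
    (fun e => H.nc ((D.equivMapOfInjective ι o.inj).isCyclic.2 e)) (fun e => ?_) (ι u) ⟨u, hu, rfl⟩
    (fun e => hu1 (o.inj (e.trans (map_one ι).symm))) (ι t) k4 ((orderOf_injective ι o.inj t).trans ho) (hc.map ι)
    fun y h1 h2 => ?_
  · obtain ⟨s, hs⟩ := exists_prime_orderOf_dvd_card' 3 e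
    obtain ⟨x, hx⟩ := k2 s
    have h1 : (s : G) ^ 3 = 1 := by rw [← hs, ← orderOf_coe, pow_orderOf_eq_one]
    have h2 := k3 x ((k1 x).1 (hx ▸ pow_mem s.2 2)) (o.inj (by
      rw [map_pow, hx, ← pow_mul, mul_comm, pow_mul, h1, one_pow, map_one]))
    rw [h2, map_one] at hx
    rw [pow_succ, ← hx, one_mul, OneMemClass.coe_eq_one] at h1
    rw [h1, orderOf_one] at hs
    exact absurd hs (by decide)
  · obtain ⟨w, hw⟩ : ι t * y * (ι t)⁻¹ * y⁻¹ ∈ ι.range := by
      obtain ⟨x, rfl | rfl⟩ := o.gen y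
      · exact ⟨t * x * t⁻¹ * x⁻¹, by simp only [map_mul, map_inv]⟩
      · exact ⟨t * x * (α t)⁻¹ * x⁻¹, by
          simp only [map_mul, map_inv, o.cnj]
          group⟩
    have h4 : w ∈ centralizer (D : Set X) := (k1 w).1 (hw ▸ mul_mem (fun d hd => by
      have h5 := h1 _ ((mem_normalizer_iff.1 (inv_mem k4) d).1 hd)
      rw [show d * (ι t * y * (ι t)⁻¹) = ι t * ((ι t)⁻¹ * d * (ι t)⁻¹⁻¹ * y) * (ι t)⁻¹ by group, h5]
      group) (inv_mem h1))
    obtain ⟨a, c, h5, -, ⟨j, h6⟩, h7⟩ := Blocks.PPart.exists_isPPart 7 (⟨w, h4⟩ : centralizer (D : Set X))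
    rw [← orderOf_coe] at h6 h7
    refine comm ((IsPGroup.of_card (p := 7) (n := 2) h49).map ι) (by rw [← map_pow, k5, map_one]) k4 h1 h2
      ⟨a, mem_syl (p := 7) (k := 2) h49 h3 a.2 h6, rfl⟩ ((k1 c).2 c.2) ((hy c c.2 h7).map ι)
      (by rwa [orderOf_injective ι o.inj]) (fun e => ?_) ?_
    · rw [k3 c c.2 (o.inj (by rw [map_pow, e, map_one])), map_one]
    · rw [← map_mul, show (a : X) * c = w from congrArg Subtype.val h5, hw, inv_mul_cancel_right]

end Cfsg.Agent.OM.Lo
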