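import Cfsg.Agent.OM.Lo.Defs
import Cfsg.Agent.H613.RegGram
import Cfsg.Agent.Blocks.ExtendedFMT

/-!
# OM (S4894): the decomposition matrix of an arbitrary block (helper50)

* `Dm`, `exists_dm` : decomposition numbers `d`, Brauer characters `φ`, an integral left inverse `n`;
* `Dm.van` : the projective characters vanish on the singular elements; `Dm.gc` : Gram matrix times Cartan matrix;
* `Dm.conn` : linkage.
-/

set_option autoImplicit false
set_option linter.unusedSectionVars false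

namespace Cfsg.Agent.OM.Lo.DecP

open Cfsg Subgroup IsLocalRing Cfsg.Agent.H657 Cfsg.Agent.H608.BlockRank Cfsg.Agent.H699.IBrLift
  Cfsg.Agent.Characters.Core Cfsg.Agent.Blocks.ExtendedFMT Cfsg.Agent.H613.RegGram ComplexConjugate

variable {X : Type} [Group X]

/-- the decomposition matrix of the block `F` -/
structure Dm (p : ℕ) (F : Finset (IrrCharacter X)) {l : ℕ} (d : IrrCharacter X → Fin l → ℕ) (φ : Fin l → X → ℂ)
    (n : Fin l → IrrCharacter X → ℤ) : Prop where
  dec : ∀ χ ∈ F, ∀ x, IsPRegular p x → (χ : X → ℂ) x = ∑ i, (d χ i : ℂ) * φ i x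
  ind : ∀ c : Fin l → ℂ, (∀ x, IsPRegular p x → ∑ i, c i * φ i x = 0) → c = 0
  comb : ∀ i x, IsPRegular p x → φ i x = ∑ χ ∈ F, (n i χ : ℂ) * (χ : X → ℂ) x
  sing : ∀ i x, ¬ IsPRegular p x → φ i x = 0
  deg : ∀ i, ∃ m : ℕ, 0 < m ∧ φ i 1 = m
  mov : ∀ α : MulAut X, Stb α (F : Set (IrrCharacter X)) → ∀ i, ∃ j, ∀ x, IsPRegular p x → φ j x = φ i (α x)
  stb : ∀ (α : MulAut X) i j, (∀ x, IsPRegular p x → φ j x = φ i (α x)) → Stb α (F : Set (IrrCharacter X))
  orb : ∀ Γ : Subgroup (MulAut X), One p Γ (F : Set (IrrCharacter X)) → ∀ i j, ∃ α ∈ Γ,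
    ∀ x, IsPRegular p x → φ j x = φ i (α x)
  rank : blockRank p (F : Set (IrrCharacter X)) = l

theorem reg_aut {p : ℕ} (α : MulAut X) {x : X} : IsPRegular p (α x) ↔ IsPRegular p x := by
  unfold IsPRegular
  rw [MulEquiv.orderOf_eq]

theorem delta {p : ℕ} {F : Finset (IrrCharacter X)} {l : ℕ} {d : IrrCharacter X → Fin l → ℕ} {φ : Fin l → X → ℂ}
    (dec : ∀ χ ∈ F, ∀ x, IsPRegular p x → (χ : X → ℂ) x = ∑ i, (d χ i : ℂ) * φ i x)
    (ind : ∀ c : Fin l → ℂ, (∀ x, IsPRegular p x → ∑ i, c i * φ i x = 0) → c = 0) {g : IrrCharacter X → ℂ} {i : Fin l}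
    (h : ∀ x, IsPRegular p x → φ i x = ∑ χ ∈ F, g χ * (χ : X → ℂ) x) (j : Fin l) :
    ∑ χ ∈ F, g χ * d χ j = if j = i then 1 else 0 := by
  have h1 := ind (fun j => ∑ χ ∈ F, g χ * d χ j - if j = i then 1 else 0) fun x hx => by
    simp only [sub_mul, Finset.sum_sub_distrib, ite_mul, one_mul, zero_mul, Finset.sum_ite_eq', Finset.mem_univ, if_true]
    rw [h x hx, sub_eq_zero]
    simp only [Finset.sum_mul]
    rw [Finset.sum_comm]
    refine Finset.sum_congr rfl fun χ hχ => ?_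
    rw [dec χ hχ x hx, Finset.mul_sum]
    exact Finset.sum_congr rfl fun k _ => mul_assoc _ _ _
  exact sub_eq_zero.1 (congrFun h1 j)

/-- the action of the automorphisms on the Brauer characters -/
noncomputable def au {V : ValuationSubring ℂ} (α : MulAut X) (i : IBr V X) : IBr V X :=
  infl α.toMonoidHom α.surjective i

theorem phi_au {V : ValuationSubring ℂ} {p : ℕ} (α : MulAut X) (i : IBr V X) {x : X} (hx : IsPRegular p x) :
    phi p (au α i) x = phi p i (α x) := phi_infl _ _ _ hx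

variable [Finite X] {p : ℕ} {M : Ideal AlgInt} {F : Finset (IrrCharacter X)}

theorem stb_of (hM : IsPModular p M) {b : Set (IrrCharacter X)} (hb : IsPBlock M b) {α : MulAut X} {χ : IrrCharacter X}
    (hχ : χ ∈ b) (h : compIrr α χ ∈ b) : Stb α b := fun θ hθ ψ e => by
  have hP := Blocks.Local.isPrime_of_isPModular hM
  have h1 : ψ = compIrr α θ := Subtype.ext (funext e)
  rw [h1]
  exact Blocks.Covering.mem_of_sameBlock hP hb h (sameBlock_compIrr α (Blocks.Covering.sameBlock_of_mem hP hb hχ hθ))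

theorem exists_dm (hM : IsPModular p M) (hb : IsPBlock M (F : Set (IrrCharacter X))) :
    ∃ (l : ℕ) (d : IrrCharacter X → Fin l → ℕ) (φ : Fin l → X → ℂ) (n : Fin l → IrrCharacter X → ℤ), Dm p F d φ n := by
  classical
  have : Fact p.Prime := ⟨hM.1⟩
  obtain ⟨V, hV⟩ := exists_above hM
  have := hV.charP hM
  have hP := Blocks.Local.isPrime_of_isPModular hM
  have := finite_irr (G := X)
  have : Fintype (IrrCharacter X) := Fintype.ofFinite _
  have hU := isUnion_of_isPBlock hb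
  let e : Fin (Nat.card (ibrUnder V (F : Set (IrrCharacter X)))) ≃ ibrUnder V (F : Set (IrrCharacter X)) :=
    (Finite.equivFin _).symm
  choose m idx h1 h2 using fun χ : IrrCharacter X => exists_decomp hM hV χ.2
  choose n hn1 hn2 using fun i => H699.EqDeg.exists_int_comb hM hV hU (e i).2
  let d : IrrCharacter X → Fin _ → ℕ := fun χ i => (Finset.univ.filter fun k => idx χ k = (e i).1).card
  have dec : ∀ χ ∈ F, ∀ x, IsPRegular p x → (χ : X → ℂ) x = ∑ i, (d χ i : ℂ) * phi p (e i).1 x := by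
    intro χ hχ x hx
    let g : Fin (m χ) → Fin _ := fun k => e.symm ⟨idx χ k, χ, hχ, h1 χ k⟩
    have hg : ∀ k i, g k = i ↔ idx χ k = (e i).1 := fun k i => by
      rw [Equiv.symm_apply_eq, Subtype.ext_iff]
    rw [h2 χ x hx, ← Finset.sum_fiberwise Finset.univ g]
    refine Finset.sum_congr rfl fun i _ => ?_
    rw [Finset.sum_congr (Finset.filter_congr fun k _ => hg k i) (g := fun _ => phi p (e i).1 x)
      fun k hk => by rw [(Finset.mem_filter.1 hk).2], Finset.sum_const, nsmul_eq_mul]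
  have ind : ∀ c : Fin _ → ℂ, (∀ x, IsPRegular p x → ∑ i, c i * phi p (e i).1 x = 0) → c = 0 := by
    intro c hc
    have h3 := (linearIndependent_phi (V := V) (G := X) (p := p)).comp (fun i => (e i).1)
      (Subtype.val_injective.comp e.injective)
    funext i
    refine Fintype.linearIndependent_iff.1 h3 c (funext fun x => ?_) i
    rw [Finset.sum_apply]
    by_cases hx : IsPRegular p x
    · exact hc x hx
    · exact Finset.sum_eq_zero fun j _ => by rw [Pi.smul_apply, Function.comp_apply, phi_of_not _ hx, smul_zero]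
  have comb : ∀ i x, IsPRegular p x → phi p (e i).1 x = ∑ χ ∈ F, (n i χ : ℂ) * (χ : X → ℂ) x := by
    intro i x hx
    rw [hn2 i, Finset.sum_apply, ← Finset.sum_subset (Finset.subset_univ F) fun χ _ h => by
      rw [hn1 i χ h, Int.cast_zero, zero_smul, Pi.zero_apply]]
    exact Finset.sum_congr rfl fun χ _ => by rw [Pi.smul_apply, pReg_of hx, smul_eq_mul]
  have cons : ∀ (α : MulAut X) i, ∃ χ ∈ F, Under (au α (e i).1) (compIrr α χ : X → ℂ) := by
    intro α i
    have h3 := delta dec ind (comb i) i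
    rw [if_pos rfl] at h3
    obtain ⟨χ, hχ, h4⟩ := Finset.exists_ne_zero_of_sum_ne_zero (h3.trans_ne one_ne_zero)
    obtain ⟨k, hk⟩ := Finset.card_ne_zero.1 (Nat.cast_ne_zero.1 (right_ne_zero_of_mul h4))
    have h5 : InS p (Set.range (idx (compIrr α χ))) fun x => ∑ k, phi p (au α (idx χ k)) x :=
      inS_range _ 1 fun x hx => by
        rw [one_mul, ← h2 _ x hx, compIrr_apply, h2 χ _ ((reg_aut α).2 hx)]
        exact Finset.sum_congr rfl fun k _ => phi_au _ _ hx
    obtain ⟨k', hk'⟩ := supp hM hV h5 k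
    refine ⟨χ, hχ, ?_⟩
    rw [← (Finset.mem_filter.1 hk).2, ← hk']
    exact h1 _ k'
  refine ⟨_, d, fun i => phi p (e i).1, n, dec, ind, comb, fun i x hx => phi_of_not _ hx,
    fun i => ⟨_, deg_pos _, phi_one _⟩, fun α hα i => ?_, fun α i j h => ?_, fun Γ hΓ i j => ?_,
    blockRank_eq_card hM hV hU⟩
  · obtain ⟨χ, hχ, h3⟩ := cons α i
    refine ⟨e.symm ⟨_, _, hα χ hχ (compIrr α χ) fun _ => rfl, h3⟩, fun x hx => ?_⟩
    rw [Equiv.apply_symm_apply]
    exact phi_au _ _ hx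
  · obtain ⟨χ, hχ, h3⟩ := cons α i
    have h4 : (e j).1 = au α (e i).1 := eq_of_prop_phi hM hV (c := 1) fun x hx => by
      rw [one_mul, phi_au _ _ hx]
      exact h x hx
    obtain ⟨ψ, hψ, h5⟩ := (e j).2
    exact stb_of hM hb hχ (hU _ _ (under_sameBlock hM hV ψ.2 (compIrr α χ).2 h5 (h4 ▸ h3)) hψ)
  · have : Finite (MulAut X) := Finite.of_injective (fun α : MulAut X => (α : X → X)) DFunLike.coe_injective
    have := Fintype.ofFinite Γ
    obtain ⟨θ, hθ, -⟩ := cons 1 i
    have h0 := isIrr_apply_one_ne_zero θ.2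
    have key : ∀ i x, IsPRegular p x → (∑ α : Γ, phi p (au α.1 (e i).1) x) * (θ : X → ℂ) 1 =
        (∑ᶠ α : Γ, (θ : X → ℂ) (α.1 x)) * phi p (e i).1 1 := by
      intro i x hx
      rw [Finset.sum_congr rfl fun α _ => (phi_au _ _ hx).trans (comb i _ ((reg_aut α.1).2 hx)), Finset.sum_comm,
        comb i 1 (reg_one hM.1), Finset.sum_mul, Finset.mul_sum]
      refine Finset.sum_congr rfl fun χ hχ => ?_
      have h3 := hΓ χ hχ θ hθ x hx
      rw [finsum_eq_sum_of_fintype] at h3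
      rw [← Finset.mul_sum, mul_assoc, h3, mul_left_comm]
    have hi := phi_one_ne hM hV (e i).1
    have h5 : InS p (Set.range fun α : Γ => au α.1 (e i).1)
        fun x => ∑ α : Γ, phi p (au α.1 (e j).1) x :=
      inS_range _ (phi p (e j).1 1 / phi p (e i).1 1) fun x hx => by
        refine mul_right_cancel₀ h0 ?_
        rw [key j x hx, mul_assoc, key i x hx]
        field_simp
    obtain ⟨α, hα⟩ := supp hM hV h5 1
    refine ⟨α.1, α.2, fun x hx => ?_⟩
    have h6 := congrArg (fun t => phi p t x) hα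
    simp only [phi_au _ _ hx] at h6
    exact h6.symm

variable {l : ℕ} {d : IrrCharacter X → Fin l → ℕ} {φ : Fin l → X → ℂ} {n : Fin l → IrrCharacter X → ℤ}

theorem Dm.col (h : Dm p F d φ n) (i : Fin l) : ∃ χ ∈ F, d χ i ≠ 0 := by
  have h3 := delta h.dec h.ind (h.comb i) i
  rw [if_pos rfl] at h3
  obtain ⟨χ, hχ, h4⟩ := Finset.exists_ne_zero_of_sum_ne_zero (h3.trans_ne one_ne_zero)
  exact ⟨χ, hχ, Nat.cast_ne_zero.1 (right_ne_zero_of_mul h4)⟩

theorem Dm.inj (h : Dm p F d φ n) {i j : Fin l} (e : ∀ x, IsPRegular p x → φ i x = φ j x) : i = j := by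
  by_contra hne
  have h1 := delta h.dec h.ind (h.comb i) i
  have h2 := delta h.dec h.ind (i := j) (fun x hx => (e x hx).symm.trans (h.comb i x hx)) i
  rw [h1, if_pos rfl, if_neg hne] at h2
  exact one_ne_zero h2

theorem Dm.perm (h : Dm p F d φ n) {α : MulAut X} (hα : Stb α (F : Set (IrrCharacter X))) :
    ∃ π : Equiv.Perm (Fin l), ∀ i x, IsPRegular p x → φ (π i) x = φ i (α x) := by
  choose f hf using h.mov α hα
  have h1 : Function.Injective f := fun i j e => h.inj fun x hx => by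
    have h2 : IsPRegular p (α⁻¹ x) := (reg_aut _).2 hx
    have h3 := (hf i _ h2).symm.trans (e ▸ hf j _ h2)
    simpa using h3
  exact ⟨Equiv.ofBijective f h1.bijective_of_finite, hf⟩

/-- the projective characters vanish on the singular elements -/
theorem Dm.van (h : Dm p F d φ n) (hM : IsPModular p M) (hb : IsPBlock M (F : Set (IrrCharacter X))) (i : Fin l) {y : X}
    (hy : p ∣ orderOf y) : ∑ χ ∈ F, (d χ i : ℂ) * (χ : X → ℂ) y = 0 := by
  have : Fact p.Prime := ⟨hM.1⟩
  have hP := Blocks.Local.isPrime_of_isPModular hM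
  have hR : ∀ g, MemLocalRing M (blockCoeff (F : Set (IrrCharacter X)) g) := fun g =>
    Blocks.OsimaUnion.memLocalRing_blockCoeff_union p hM _ (fun χ hχ ψ h => isUnion_of_isPBlock hb χ ψ h hχ) g
  have h1 := h.ind (fun i => conj (∑ χ ∈ F, (d χ i : ℂ) * (χ : X → ℂ) y)) fun x hx => by
    have h2 := Blocks.Orthogonality.weak_block_orthogonality hM _ hR hx hy
    rw [finsum_mem_coe_finset] at h2
    rw [← h2]
    simp only [map_sum, map_mul, map_natCast, Finset.sum_mul]
    rw [Finset.sum_comm]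
    refine Finset.sum_congr rfl fun χ hχ => ?_
    rw [h.dec χ hχ x hx, Finset.sum_mul]
    exact Finset.sum_congr rfl fun k _ => by ring
  exact (map_eq_zero _).1 (congrFun h1 i)

theorem Dm.int (h : Dm p F d φ n) (hM : IsPModular p M) (hb : IsPBlock M (F : Set (IrrCharacter X))) (i : Fin l)
    (P : Sylow p X) : IsIntegral ℤ ((∑ χ ∈ F, (d χ i : ℂ) * (χ : X → ℂ) 1) / Nat.card P) := by
  have h1 : IsCharacter X (∑ χ ∈ F, d χ i • (χ : X → ℂ)) :=
    isCharacter_sum _ fun χ _ => isCharacter_nsmul _ (isIrr_isCharacter χ.2)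
  have h2 := H699.EqDeg.isIntegral_div_sylow hM.1 h1 (fun y hy => by
    rw [← h.van hM hb i hy, Finset.sum_apply]
    exact Finset.sum_congr rfl fun χ _ => by rw [Pi.smul_apply, nsmul_eq_mul]) P
  rw [Finset.sum_apply] at h2
  simpa only [Pi.smul_apply, nsmul_eq_mul] using h2

/-- linkage -/
theorem Dm.conn (h : Dm p F d φ n) (hM : IsPModular p M) (hb : IsPBlock M (F : Set (IrrCharacter X))) (A : Set (Fin l))
    (hA : A.Nonempty) (hA' : Aᶜ.Nonempty) : ∃ χ ∈ F, ∃ i ∈ A, ∃ j ∉ A, d χ i ≠ 0 ∧ d χ j ≠ 0 := by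
  classical
  have : Fact p.Prime := ⟨hM.1⟩
  have hP := Blocks.Local.isPrime_of_isPModular hM
  by_contra hn
  push Not at hn
  let S : Finset (IrrCharacter X) := F.filter fun χ => ∃ i ∈ A, d χ i ≠ 0
  let A' : Finset (Fin l) := Finset.univ.filter (· ∈ A)
  have h1 : ∀ χ ∈ S, ∀ x, IsPRegular p x → (χ : X → ℂ) x = ∑ i ∈ A', (d χ i : ℂ) * φ i x := by
    intro χ hχ x hx
    obtain ⟨h2, i, hi, h3⟩ := Finset.mem_filter.1 hχ
    rw [h.dec χ h2 x hx]
    refine (Finset.sum_subset (Finset.subset_univ _) fun j _ hj => ?_).symm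
    rw [hn χ h2 i hi j (by simpa [A'] using hj) h3, Nat.cast_zero, zero_mul]
  have h2 : ∀ i ∈ A', ∀ x, ∑ χ ∈ S, (d χ i : ℂ) * (χ : X → ℂ) x = ∑ χ ∈ F, (d χ i : ℂ) * (χ : X → ℂ) x := by
    intro i hi x
    refine Finset.sum_subset (Finset.filter_subset _ _) fun χ hχ h3 => ?_
    have h4 : d χ i = 0 := by
      by_contra h4
      exact h3 (Finset.mem_filter.2 ⟨hχ, i, (Finset.mem_filter.1 hi).2, h4⟩)
    rw [h4, Nat.cast_zero, zero_mul]
  have hr := reg_one (G := X) hM.1
  obtain ⟨P⟩ : Nonempty (Sylow p X) := inferInstance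
  have h3 : ∀ g, MemLocalRing M (blockCoeff (S : Set (IrrCharacter X)) g) := by
    intro g
    unfold blockCoeff
    rw [finsum_mem_coe_finset]
    by_cases hg : p ∣ orderOf g
    · have h4 : ∑ χ ∈ S, (χ : X → ℂ) 1 * conj ((χ : X → ℂ) g) =
          ∑ i ∈ A', φ i 1 * conj (∑ χ ∈ S, (d χ i : ℂ) * (χ : X → ℂ) g) := by
        simp only [map_sum, map_mul, map_natCast, Finset.mul_sum]
        rw [Finset.sum_comm]
        refine Finset.sum_congr rfl fun χ hχ => ?_
        rw [h1 χ hχ 1 hr, Finset.sum_mul]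
        exact Finset.sum_congr rfl fun k _ => by ring
      rw [h4, Finset.sum_eq_zero fun i hi => by rw [h2 i hi, h.van hM hb i hg, map_zero, mul_zero], mul_zero]
      exact Blocks.Local.memLocalRing_zero
    · have hP0 : (Nat.card P : ℂ) ≠ 0 := Nat.cast_ne_zero.2 Nat.card_pos.ne'
      have hr0 : ((P : Subgroup X).index : ℂ) ≠ 0 := Nat.cast_ne_zero.2 Subgroup.FiniteIndex.index_ne_zero
      have h4 : (Nat.card X : ℂ)⁻¹ * ∑ χ ∈ S, (χ : X → ℂ) 1 * conj ((χ : X → ℂ) g) =
          ∑ i ∈ A', ((∑ χ ∈ S, (d χ i : ℂ) * (χ : X → ℂ) 1) / Nat.card P) *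
            (((P : Subgroup X).index : ℂ)⁻¹ * conj (φ i g)) := by
        simp only [Finset.mul_sum, Finset.sum_div, Finset.sum_mul]
        rw [Finset.sum_comm]
        refine Finset.sum_congr rfl fun χ hχ => ?_
        rw [h1 χ hχ g hg, map_sum, Finset.mul_sum, Finset.mul_sum, ← Subgroup.card_mul_index (P : Subgroup X)]
        refine Finset.sum_congr rfl fun k _ => ?_
        rw [map_mul, map_natCast, Nat.cast_mul]
        field_simp
      rw [h4]
      refine Blocks.Local.memLocalRing_sum fun i hi => Blocks.Local.memLocalRing_mul ?_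
        (Blocks.Local.memLocalRing_mul (Blocks.Local.memLocalRing_inv_natCast hM P.not_dvd_index)
          (Blocks.Local.memLocalRing_of_isIntegral ?_))
      · rw [h2 i hi]
        exact Blocks.Local.memLocalRing_of_isIntegral (h.int hM hb i P)
      · rw [h.comb i g hg]
        refine IsIntegral.map (starRingEnd ℂ).toIntAlgHom (IsIntegral.sum _ fun χ _ => IsIntegral.mul ?_
          (Blocks.Central.isIntegral_irr χ.2 g))
        exact isIntegral_algebraMap (R := ℤ) (x := n i χ)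
  obtain ⟨i, hi⟩ := hA
  obtain ⟨j, hj⟩ := hA'
  obtain ⟨χ, hχ, h4⟩ := h.col i
  obtain ⟨ψ, hψ, h5⟩ := h.col j
  have h6 : ψ ∈ S := S0909.result p M hM _ h3 χ (Finset.mem_filter.2 ⟨hχ, i, hi, h4⟩)
    (Blocks.Covering.sameBlock_of_mem hP hb hχ hψ)
  obtain ⟨-, k, hk, h7⟩ := Finset.mem_filter.1 h6
  exact h5 (hn ψ hψ k hk j hj h7)

section rg

variable [Fintype X]

theorem rg_eq (f g : X → ℂ) :
    rg p f g = (Nat.card X : ℂ)⁻¹ * ∑ x, if p ∣ orderOf x then 0 else f x * conj (g x) := by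
  rw [rg_def, Blocks.Blau.pair_def]
  congr 1
  refine Finset.sum_congr rfl fun x _ => ?_
  unfold Blocks.Blau.regPart
  split_ifs
  · exact zero_mul _
  · exact mul_comm _ _

theorem rg_left {ι : Type*} {s : Finset ι} {c : ι → ℂ} {f : X → ℂ} {f' : ι → X → ℂ} (g : X → ℂ)
    (h : ∀ x, IsPRegular p x → f x = ∑ i ∈ s, c i * f' i x) : rg p f g = ∑ i ∈ s, c i * rg p (f' i) g := by
  simp only [rg_eq, Finset.mul_sum]
  rw [Finset.sum_comm]
  refine Finset.sum_congr rfl fun x _ => ?_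
  split_ifs with hx
  · simp
  · rw [h x hx, Finset.sum_mul, Finset.mul_sum]
    exact Finset.sum_congr rfl fun k _ => by ring

theorem rg_right {ι : Type*} {s : Finset ι} {c : ι → ℂ} {g : X → ℂ} {g' : ι → X → ℂ} (f : X → ℂ)
    (h : ∀ x, IsPRegular p x → g x = ∑ i ∈ s, c i * g' i x) : rg p f g = ∑ i ∈ s, conj (c i) * rg p f (g' i) := by
  rw [← conj_rg, rg_left f h, map_sum]
  exact Finset.sum_congr rfl fun k _ => by rw [map_mul, conj_rg]

theorem rg_aut (α : MulAut X) {f g f' g' : X → ℂ} (h : ∀ x, IsPRegular p x → f' x = f (α x))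
    (h' : ∀ x, IsPRegular p x → g' x = g (α x)) : rg p f' g' = rg p f g := by
  rw [rg_eq, rg_eq, ← Equiv.sum_comp α.toEquiv fun x => if p ∣ orderOf x then 0 else f x * conj (g x)]
  congr 1
  refine Finset.sum_congr rfl fun x _ => ?_
  have h1 : orderOf (α.toEquiv x) = orderOf x := MulEquiv.orderOf_eq α x
  rw [h1]
  split_ifs with hx
  · rfl
  · rw [h x hx, h' x hx]
    rfl

/-- Gram matrix times Cartan matrix -/
theorem Dm.gc (h : Dm p F d φ n) (hM : IsPModular p M) (hb : IsPBlock M (F : Set (IrrCharacter X))) (i j : Fin l) :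
    ∑ k, rg p (φ i) (φ k) * ((∑ χ ∈ F, d χ k * d χ j : ℕ) : ℂ) = if j = i then 1 else 0 := by
  classical
  have : Fact p.Prime := ⟨hM.1⟩
  have h1 : ∀ x, IsPRegular p x → φ i x = ∑ ζ ∈ F, rg p (φ i) (ζ : X → ℂ) * (ζ : X → ℂ) x := by
    intro x hx
    simp only [rg_left _ (h.comb i), Finset.sum_mul]
    rw [Finset.sum_comm, h.comb i x hx]
    refine Finset.sum_congr rfl fun χ hχ => ?_
    have h2 := congrFun (regPart_eq_sum_block hM hb hχ) x
    rw [Blocks.Blau.regPart_of_not_dvd hx, Finset.sum_apply] at h2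
    rw [h2, Finset.mul_sum, ← Finset.sum_coe_sort F]
    exact Finset.sum_congr rfl fun k _ => by rw [Pi.smul_apply, smul_eq_mul, mul_assoc]
  rw [← delta h.dec h.ind h1 j]
  simp only [Nat.cast_sum, Nat.cast_mul, Finset.mul_sum]
  rw [Finset.sum_comm]
  refine Finset.sum_congr rfl fun χ hχ => ?_
  rw [rg_right _ (h.dec χ hχ), Finset.sum_mul]
  exact Finset.sum_congr rfl fun k _ => by rw [map_natCast]; ring

theorem Dm.gint (h : Dm p F d φ n) (hM : IsPModular p M) (i k : Fin l) :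
    ∃ z : ℤ, (p : ℂ) ^ blockDefect p (F : Set (IrrCharacter X)) * rg p (φ i) (φ k) = z := by
  have : Fact p.Prime := ⟨hM.1⟩
  choose! z hz using fun χ (hχ : χ ∈ F) ψ => exists_int_rg hM (B := (F : Set (IrrCharacter X))) hχ ψ
  refine ⟨∑ χ ∈ F, n i χ * ∑ ψ ∈ F, n k ψ * z χ ψ, ?_⟩
  rw [rg_left _ (h.comb i), Finset.mul_sum, Int.cast_sum]
  refine Finset.sum_congr rfl fun χ hχ => ?_
  rw [rg_right _ (h.comb k), Int.cast_mul, Int.cast_sum, mul_left_comm, Finset.mul_sum]
  congr 1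
  exact Finset.sum_congr rfl fun ψ _ => by rw [Int.cast_mul, ← hz χ hχ ψ, map_intCast, mul_left_comm]

end rg

end Cfsg.Agent.OM.Lo.DecP
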