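import Cfsg.Agent.OM.Gen.Nil
import Cfsg.Agent.OM.Lo.Defs
import Cfsg.Agent.S0924
import Cfsg.Agent.H644.Trace

/-!
# OM (S4894): the fixed point lemma (helper49)

* `Fix.lift_of_odd` : an odd number of lifts of one class function on the `p`-regular elements gives a good lift;
* `Dec.lift` : the same in terms of the decomposition matrix.
-/

set_option autoImplicit false
set_option linter.unusedSectionVars false

namespace Cfsg.Agent.OM.Lo

open Cfsg Subgroup Cfsg.Agent.H649 Cfsg.Agent.OM.Gen Cfsg.Agent.Characters.Core Cfsg.Agent.Blocks.Basic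

namespace Fix

theorem card_fix {G α : Type*} [Group G] [MulAction G α] [Finite α]
    (h : ∀ g : G, ∃ k : ℕ, ∀ a : α, g ^ 2 ^ k • a = a) :
    Nat.card α ≡ Nat.card (MulAction.fixedPoints G α) [MOD 2] := by
  have h1 : IsPGroup 2 (MulAction.toPermHom G α).range := by
    rintro ⟨_, g, rfl⟩
    obtain ⟨k, hk⟩ := h g
    exact ⟨k, Subtype.ext (by rw [SubmonoidClass.coe_pow, ← map_pow]; exact Equiv.ext hk)⟩
  have h2 := h1.card_modEq_card_fixedPoints α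
  rwa [show MulAction.fixedPoints (MulAction.toPermHom G α).range α = MulAction.fixedPoints G α from
    Set.ext fun a => ⟨fun h g => h ⟨_, g, rfl⟩, fun h ⟨_, g, e⟩ => by subst e; exact h g⟩] at h2

theorem exists_fix {α : Type*} [Finite α] (ho : Odd (Nat.card α)) (f : Function.End α) {n : ℕ} (hf : f ^ 2 ^ n = 1) :
    ∃ a, f a = a := by
  classical
  have := Fintype.ofFinite α
  have h := Equiv.Perm.card_fixedPoints_modEq hf
  rw [← Nat.card_eq_fintype_card] at h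
  obtain ⟨⟨a, ha⟩⟩ := Fintype.card_pos_iff.1 (Odd.pos (Nat.odd_iff.2 ((Eq.symm h).trans (Nat.odd_iff.1 ho))))
  exact ⟨a, ha⟩

variable {p : ℕ} [hp : Fact p.Prime] {M : Ideal AlgInt} {X : Type} [Group X] [Finite X] {b : Set (IrrCharacter X)}
  {D : Subgroup X}

theorem adm_pow {k : ℕ} (h : Adm p X k) (j : ℕ) : Adm p X (k ^ j) := ⟨h.cop.pow_left j, fun x hx => by
  induction j with
  | zero => rw [pow_zero, pow_one]
  | succ j ih => rw [pow_succ, pow_mul, ih, h.reg x hx]⟩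

/-- the Galois action only depends on the exponent modulo `p` -/
theorem pow_congr (hM : IsPModular p M) (hb : IsPBlock M b) (hD : IsDefectGroup p M b D) (he : ∀ x ∈ D, x ^ p = 1)
    {χ : IrrCharacter X} (hχ : χ ∈ b) {k k' : ℕ} (h : Adm p X k) (h' : Adm p X k') (e : k ≡ k' [MOD p]) (g : X) :
    (χ : X → ℂ) (g ^ k) = (χ : X → ℂ) (g ^ k') := by
  have := hM.2.1.isPrime
  obtain ⟨x, y, rfl, hc, ⟨j, hj⟩, hy⟩ := Blocks.PPart.exists_isPPart p g
  by_cases hx : x ^ p = 1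
  · rw [hc.mul_pow, hc.mul_pow, h.reg y hy, h'.reg y hy, pow_eq_pow_of_modEq e hx]
  · have key : ∀ k, Adm p X k → (χ : X → ℂ) ((x * y) ^ k) = 0 := fun k h => by
      refine S0924.result p M hM χ _ (x ^ k) ⟨y, by rw [hc.mul_pow, h.reg y hy], hc.pow_left k, ⟨j, ?_⟩, hy⟩
        fun E hE hk => hx ?_
      · rw [(h.cop.coprime_dvd_right (orderOf_dvd_natCard x)).symm.orderOf_pow, hj]
      · obtain ⟨t, rfl⟩ := H644.exists_conj_of_isDefectGroup hM hb hD (isPBlock_eq_blockOf hb hχ ▸ hE)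
        obtain ⟨z, hz, e⟩ := hk
        have h1 : (x ^ p) ^ k = 1 := by rw [pow_right_comm, ← e, ← map_pow, he z hz, map_one]
        exact orderOf_eq_one_iff.1 (Nat.eq_one_of_dvd_coprimes h.cop (orderOf_dvd_of_pow_eq_one h1)
          (orderOf_dvd_natCard _))
    rw [key k h, key k' h']

/-- the automorphisms which fix `φ` on the `p`-regular elements -/
def stf (p : ℕ) (φ : X → ℂ) : Subgroup (MulAut X) where
  carrier := {α | ∀ x, IsPRegular p x → φ (α x) = φ x}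
  one_mem' := fun _ _ => rfl
  mul_mem' := fun {_ β} h1 h2 x hx => (h1 _ ((isPRegular_map_iff β p x).2 hx)).trans (h2 x hx)
  inv_mem' := fun {α} h x hx => (h _ ((isPRegular_map_iff α.symm p x).2 hx)).symm.trans
    (congrArg φ (α.apply_symm_apply x))

theorem prim (h5 : p = 3 ∨ p = 5) : 2 ^ 2 ^ 2 ≡ 1 [MOD p] ∧ ∀ k, ¬ p ∣ k → ∃ j, k ≡ 2 ^ j [MOD p] := by
  rcases h5 with rfl | rfl
  · refine ⟨by decide, fun k hk => ?_⟩
    obtain h | h : k % 3 = 1 ∨ k % 3 = 2 := by omega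
    exacts [⟨0, h⟩, ⟨1, h⟩]
  · refine ⟨by decide, fun k hk => ?_⟩
    obtain h | h | h | h : k % 5 = 1 ∨ k % 5 = 2 ∨ k % 5 = 4 ∨ k % 5 = 3 := by omega
    exacts [⟨0, h⟩, ⟨1, h⟩, ⟨2, h⟩, ⟨3, h⟩]

/-- **the fixed point lemma** -/
theorem lift_of_odd (hM : IsPModular p M) (hb : IsPBlock M b) (hD : IsDefectGroup p M b D) (h5 : p = 3 ∨ p = 5)
    (hX : p ∣ Nat.card X) (he : ∀ x ∈ D, x ^ p = 1) {Γ : Subgroup (MulAut X)} {r : ℕ}
    (hΓ : (Inn X).relIndex Γ ∣ 2 ^ r) {φ : X → ℂ} {T : Set (IrrCharacter X)}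
    (hT : ∀ χ, χ ∈ T ↔ χ ∈ b ∧ ∀ x, IsPRegular p x → (χ : X → ℂ) x = φ x) (h0 : ∀ χ ∈ T, Mn b χ)
    (ho : Odd T.ncard) : ∃ θ, Lift p Γ b θ := by
  have := Fintype.ofFinite X
  have := finite_irr (G := X)
  have hp' : p.Prime := hp.out
  have h2 : p ≠ 2 := by omega
  obtain ⟨q1, q2⟩ := prim h5
  have mem : ∀ χ ∈ T, ∀ ψ : IrrCharacter X, (∀ x, IsPRegular p x → (ψ : X → ℂ) x = φ x) → ψ ∈ T := fun χ hχ ψ h =>
    (hT ψ).2 ⟨mem_of_reg hM hb ((hT χ).1 hχ).1 fun x hx => (h x hx).trans (((hT χ).1 hχ).2 x hx).symm, h⟩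
  let _ : MulAction ↥(Γ ⊓ stf p φ) T :=
    { smul := fun α χ => ⟨irrMap (α : MulAut X) χ.1, mem _ χ.2 _ fun x hx =>
        (((hT _).1 χ.2).2 _ ((isPRegular_map_iff (α : MulAut X).symm p x).2 hx)).trans ((stf p φ).inv_mem α.2.2 x hx)⟩
      one_smul := fun _ => rfl
      mul_smul := fun _ _ _ => rfl }
  have sm : ∀ (α : ↥(Γ ⊓ stf p φ)) (χ : T) (x : X), ((α • χ).1 : X → ℂ) x = (χ.1 : X → ℂ) ((α : MulAut X).symm x) :=
    fun _ _ _ => rfl
  have h3 := card_fix (G := ↥(Γ ⊓ stf p φ)) (α := T) fun α => ⟨r, fun χ => Subtype.ext (Subtype.ext (funext fun x => by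
    obtain ⟨c, hc⟩ := hΓ
    obtain ⟨y, hy⟩ := pow_mem ((Inn X).pow_relIndex_mem α.2.1) c
    rw [← pow_mul, ← hc] at hy
    rw [sm, SubmonoidClass.coe_pow, ← hy, MulAut.conj_symm_apply]
    simpa using isIrr_isClassFunction χ.1.2 x y⁻¹))⟩
  obtain ⟨n, m, hm, hn⟩ := Nat.exists_eq_pow_mul_and_not_dvd (Nat.card_pos (α := X)).ne' p hp'.ne_one
  obtain ⟨k, k1, k2⟩ := Nat.chineseRemainder ((hp'.coprime_iff_not_dvd.2 hm).pow_left n) 2 1
  have hk : Adm p X k := adm_of hn (hn ▸ Nat.Coprime.mul_right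
    (k1.gcd_eq.trans (((Nat.coprime_primes Nat.prime_two hp').2 h2.symm).pow_right n))
    (Nat.coprime_of_mul_modEq_one 1 (by rwa [mul_one]))) k2
  have k3 : k ≡ 2 [MOD p] := k1.of_dvd (dvd_pow_self p (by
    rintro rfl
    exact hm (by rwa [hn, pow_zero, one_mul] at hX)))
  let f : Function.End (MulAction.fixedPoints ↥(Γ ⊓ stf p φ) T) := fun χ =>
    ⟨⟨hk.pw χ.1.1, mem _ χ.1.2 _ fun x hx => (congrArg (χ.1.1 : X → ℂ) (hk.reg x hx)).trans (((hT _).1 χ.1.2).2 x hx)⟩,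
      fun α => Subtype.ext (Subtype.ext (funext fun x =>
        (congrArg (χ.1.1 : X → ℂ) (map_pow (α : MulAut X).symm x k).symm).trans
          (congrFun (congrArg (fun ψ : T => (ψ.1 : X → ℂ)) (χ.2 α)) (x ^ k))))⟩
  have hf : ∀ j χ x, (((f ^ j) χ).1.1 : X → ℂ) x = (χ.1.1 : X → ℂ) (x ^ k ^ j) := fun j => by
    induction j with
    | zero => exact fun χ x => by rw [pow_zero, pow_zero, pow_one]; rfl
    | succ j ih => exact fun χ x => by rw [pow_succ, pow_succ, pow_mul]; exact ih (f χ) x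
  obtain ⟨θ, hθ⟩ := exists_fix (by
    have h4 := Nat.odd_iff.1 ho
    rw [← Nat.card_coe_set_eq] at h4
    exact Nat.odd_iff.2 ((Eq.symm h3).trans h4)) f (n := 2) (funext fun χ => Subtype.ext (Subtype.ext (Subtype.ext
      (funext fun x => (hf _ χ x).trans ((pow_congr hM hb hD he ((hT _).1 χ.1.2).1 (adm_pow hk _) (adm_pow hk 0)
        ((k3.pow _).trans q1) x).trans (by rw [pow_zero, pow_one]; rfl))))))
  obtain ⟨t1, t2⟩ := (hT _).1 θ.1.2
  refine ⟨θ.1.1, h0 _ θ.1.2, fun α hα h x => ?_, fun _ => ⟨m, hm, H775.S4790.mem_adjoin_of_fixed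
    (Dvd.intro_left _ hn.symm) θ.1.1.2 fun k' h9 h10 g => ?_⟩, fun h => absurd h h2⟩
  · have h4 := congrFun (congrArg (fun ψ : T => (ψ.1 : X → ℂ)) (θ.2 ⟨α, hα, fun y hy =>
      (t2 _ ((isPRegular_map_iff α p y).2 hy)).symm.trans ((h y hy).trans (t2 y hy))⟩)) (α x)
    exact h4.symm.trans (irrMap_apply' α _ x)
  · obtain ⟨j, hj⟩ := q2 k' fun h => hp'.ne_one (Nat.eq_one_of_dvd_coprimes h9 h hX)
    rw [pow_congr hM hb hD he t1 (adm_of hn h9 h10) (adm_pow hk j) (hj.trans (k3.pow j).symm), ← hf,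
      show (f ^ j) θ = θ from Function.iterate_fixed hθ j]

end Fix

variable {p : ℕ} {M : Ideal AlgInt} {X : Type} [Group X] [Finite X] {Γ : Subgroup (MulAut X)}
  {b : Set (IrrCharacter X)} {D : Subgroup X} {l : ℕ} {d : IrrCharacter X → Fin l → ℕ} {φ : Fin l → X → ℂ}

/-- the degrees -/
theorem Dec.degree (h : Dec p Γ b D d φ) (hp : p.Prime) : ∃ n : ℕ, 0 < n ∧
    n.factorization p + (Nat.card D).factorization p = (Nat.card X).factorization p ∧
    ∀ χ ∈ b, charDegree (χ : X → ℂ) = n * ∑ j, d χ j := by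
  obtain ⟨n, h1, h2, h3⟩ := h.deg
  refine ⟨n, h1, h3, fun χ hχ => ODD.Red.charDegree_of ?_⟩
  rw [h.dec χ hχ 1 (by rw [IsPRegular, orderOf_one]; exact hp.not_dvd_one)]
  simp [h2, Finset.mul_sum, mul_comm]

theorem Dec.single_iff (h : Dec p Γ b D d φ) {χ : IrrCharacter X} (hχ : χ ∈ b) (i : Fin l) :
    d χ = Pi.single i 1 ↔ ∀ x, IsPRegular p x → (χ : X → ℂ) x = φ i x := by
  have h1 : ∀ x, ∑ j, ((Pi.single i 1 : Fin l → ℕ) j : ℂ) * φ j x = φ i x := fun x => by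
    rw [Finset.sum_eq_single i (fun j _ hj => by simp [Pi.single_eq_of_ne hj]) (by simp)]
    simp
  refine ⟨fun e x hx => by rw [h.dec χ hχ x hx, e, h1], fun e => funext fun j => ?_⟩
  have h2 := congrFun (h.ind (fun j => (d χ j : ℂ) - ((Pi.single i 1 : Fin l → ℕ) j : ℂ)) fun x hx => by
    simp only [sub_mul, Finset.sum_sub_distrib]
    rw [h1, ← h.dec χ hχ x hx, e x hx, sub_self]) j
  exact_mod_cast sub_eq_zero.1 h2

/-- **an odd number of unit rows** -/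
theorem Dec.lift (h : Dec p Γ b D d φ) {S : Type} [Group S] {σ : X →* S} (H : Hyp p M Γ b D σ) (h5 : p = 3 ∨ p = 5)
    (hD : Nat.card D = p ^ 2) {r : ℕ} (hΓ : (Inn X).relIndex Γ ∣ 2 ^ r) (i : Fin l)
    (ho : Odd {χ ∈ b | d χ = Pi.single i 1}.ncard) : ∃ θ, Lift p Γ b θ := by
  have := Fact.mk H.hM.1
  obtain ⟨n, -, -, hn⟩ := h.degree H.hM.1
  refine Fix.lift_of_odd H.hM H.hb H.hD h5 H.sit.dvd (fun x hx => ?_) hΓ (φ := φ i)
    (fun χ => and_congr_right fun hχ => h.single_iff hχ i) (fun χ hχ => ⟨hχ.1, fun ψ hψ => ?_⟩) ho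
  · obtain ⟨j, h1, h2⟩ := (Nat.dvd_prime_pow H.hM.1).1 (hD ▸ orderOf_dvd_natCard (⟨x, hx⟩ : D))
    have h3 : j ≠ 2 := fun e => H.nc (isCyclic_of_orderOf_eq_card _ (by rw [h2, e, hD]))
    refine orderOf_dvd_iff_pow_eq_one.1 ?_
    rw [← orderOf_mk x hx, h2]
    exact (pow_dvd_pow p (by omega : j ≤ 1)).trans (pow_one p).dvd
  · rw [hn χ hχ.1, hn ψ hψ, hχ.2]
    simp

end Cfsg.Agent.OM.Lo
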