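import Cfsg.Agent.OM.Lo.GA
import Cfsg.Agent.Blocks.ExtendedFMT
import Cfsg.Agent.S0911

/-!
# OM (S4894): `boxG0`, `boxG1`, `boxG2` (helper50)
-/

set_option autoImplicit false
set_option linter.unusedSectionVars false

namespace Cfsg.Agent.OM.Lo

open Cfsg Subgroup ComplexConjugate Cfsg.Agent.OM.Alt Cfsg.Agent.Characters.Core Cfsg.Agent.H382.RIM
  Cfsg.Agent.Blocks Cfsg.Agent.Blocks.Local Cfsg.Agent.Blocks.ConvCentral Cfsg.Agent.Blocks.ExtendedFMT
open Cfsg.Agent.H622.Over (Lies exists_hom)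

namespace G

variable {p : ℕ} {M : Ideal AlgInt} {X : Type} [Group X] [Fintype X] [Fintype (IrrCharacter X)] [Fintype (center X)]
  {Γ : Subgroup (MulAut X)} {b : Set (IrrCharacter X)} {D : Subgroup X} {S : Type} [Group S] {σ : X →* S}
  {c : center X →* ℂˣ} {m : ℕ}

theorem main [DecidablePred (· ∈ b)] (H : Hyp p M Γ b D σ)
    (hc : ∀ χ : IrrCharacter X, Lies (center X) c χ → Ov b (χ : X → ℂ)) (hO : Oth p m b) {Q : Subgroup X} [Fintype Q]
    {x : X} (hQ : IsPGroup p Q) (h : ∀ q ∈ Q, x * q = q * x) (hx : IsPRegular p x) {K : Set X}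
    (hK : ∀ α ∈ Γ, ∀ x ∈ K, α x ∈ K) (hr : ∀ x ∈ K, IsPRegular p x) {θ : IrrCharacter X} (hθ : θ ∈ b) :
    (Nat.card X : ℂ) / (Nat.card Q * Nat.card (center X)) * (∑ n : center X, conj (c n : ℂ) * ind K (x * (n : X)⁻¹) -
        om K (θ : X → ℂ) * ∑ n : center X, conj (c n : ℂ) * ind {1} (x * (n : X)⁻¹)) /
          (p : ℂ) ^ ((Nat.card X).factorization p - m) =
      ∑ χ ∈ (ov (center X) c).filter (· ∉ b), cf Q x (χ : X → ℂ) *
        (charDegree (χ : X → ℂ) / p ^ ((Nat.card X).factorization p - m) : ℕ) *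
          (om K (χ : X → ℂ) - om K (θ : X → ℂ)) := by
  have hp := H.hM.1
  rw [← key hp (fun χ hχ h1 => dvd_of_oth hp ((hO χ (hc χ (mem_ov.1 hχ))).resolve_left h1)) _ _
    (fun χ _ h1 => sub_eq_zero.2 (om_eq H.one hK hr h1 hθ)), mul_sub, mul_left_comm,
    ← phi_ind hp le_rfl H.sit.ndvd c hQ h hx (conj_mem H hK) hr, ← phi_one hp le_rfl H.sit.ndvd c hQ h hx,
    Finset.mul_sum, ← Finset.sum_sub_distrib]
  congr 1
  refine Finset.sum_congr rfl fun χ _ => ?_
  rw [mul_sub, show (χ : X → ℂ) 1 * om K (χ : X → ℂ) = ks K (χ : X → ℂ) from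
    mul_div_cancel₀ _ (isIrr_apply_one_ne_zero χ.2)]
  ring

theorem sum_zero {K : Set X} {x : X} (h : ∀ n ∈ center X, x * n⁻¹ ∉ K) :
    ∑ n : center X, conj (c n : ℂ) * ind K (x * (n : X)⁻¹) = 0 :=
  Finset.sum_eq_zero fun n _ => by rw [ind_not (h n n.2), mul_zero]

theorem exists_sdr {k ι T : Type} [Field k] [Fintype ι] [DecidableEq ι] [Fintype T] (A W : ι → T → k) (u : ι → k)
    (hu : ∀ i, u i ≠ 0) (h : ∀ i j, ∑ t, A i t * W j t = if i = j then u i else 0) :
    ∃ f : ι → T, Function.Injective f ∧ ∀ j, W j (f j) ≠ 0 ∧ ∃ i, A i (f j) ≠ 0 := by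
  have h1 : (Matrix.of fun i j => ∑ t, A i t * W j t).det ≠ 0 := by
    have h2 : (Matrix.of fun i j => ∑ t, A i t * W j t) = Matrix.diagonal u := by
      ext i j
      rw [Matrix.of_apply, h, Matrix.diagonal_apply]
    rw [h2, Matrix.det_diagonal]
    exact Finset.prod_ne_zero_iff.2 fun i _ => hu i
  have h2 : (Matrix.of fun i j => ∑ t, A i t * W j t).det =
      ∑ f : ι → T, (∏ j, W j (f j)) * (Matrix.of fun i j => A i (f j)).det := by
    simp only [Matrix.det_apply', Matrix.of_apply, Finset.prod_univ_sum, Fintype.piFinset_univ, Finset.mul_sum,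
      Finset.prod_mul_distrib]
    rw [Finset.sum_comm]
    exact Finset.sum_congr rfl fun _ _ => Finset.sum_congr rfl fun _ _ => by ring
  obtain ⟨f, -, hf⟩ := Finset.exists_ne_zero_of_sum_ne_zero (h2 ▸ h1)
  refine ⟨f, fun a b e => ?_, fun j => ⟨Finset.prod_ne_zero_iff.1 (left_ne_zero_of_mul hf) j (Finset.mem_univ _), ?_⟩⟩
  · by_contra hne
    exact right_ne_zero_of_mul hf (Matrix.det_zero_of_column_eq hne fun i => by rw [Matrix.of_apply, Matrix.of_apply, e])
  · by_contra hne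
    push Not at hne
    exact right_ne_zero_of_mul hf (Matrix.det_eq_zero_of_column_eq_zero j hne)

omit [Fintype (IrrCharacter X)] [Fintype (center X)] in
/-- a unit value at `K` gives a unit value at a class in `K` -/
theorem exists_unit [M.IsPrime] {K : Set X} (hK : ∀ g, ∀ y ∈ K, g * y * g⁻¹ ∈ K) {χ : X → ℂ} (hχ : IsIrrCharacter X χ)
    (h : ¬ MemLocalIdeal M (om K χ)) : ∃ y ∈ K, ¬ MemLocalIdeal M (centralChar χ y) := by
  obtain ⟨T, hT⟩ := ClassSum.exists_reps (G := X)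
  rw [om_eq_sum, hT _ _ (ind_cls hK)] at h
  obtain ⟨t, -, ht⟩ := exists_not_memLocalIdeal_of_sum h
  rw [ClassSum.finsum_conj_div (isIrr_isClassFunction hχ)] at ht
  by_cases h1 : t ∈ K
  · exact ⟨t, h1, by rwa [ind_of h1, one_mul] at ht⟩
  · rw [ind_not h1, zero_mul] at ht
    exact (ht memLocalIdeal_zero).elim

omit [Fintype (IrrCharacter X)] [Fintype (center X)] in
theorem om_aut {K : Set X} (hK : ∀ α ∈ Γ, ∀ x ∈ K, α x ∈ K) {α : MulAut X} (hα : α ∈ Γ) (χ : X → ℂ) :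
    om K (fun y => χ (α y)) = om K χ := by
  rw [om, om, map_one]
  congr 1
  exact ks_equiv α.toEquiv (fun x => ⟨hK _ hα x, fun h => by simpa using hK _ (inv_mem hα) _ h⟩) χ

end G

open G

theorem boxG0 : BoxG0 := by
  classical
  intro p M X _ _ Γ b D S _ σ H m hO K hK hr χ hχ
  have : Fact p.Prime := ⟨H.hM.1⟩
  have := isPrime_of_isPModular H.hM
  have := finite_irr (G := X)
  have := Fintype.ofFinite X
  have := Fintype.ofFinite (IrrCharacter X)
  obtain ⟨c, -, -, hc⟩ := ctx H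
  obtain ⟨P⟩ : Nonempty (Sylow p X) := inferInstance
  have h1 := main H hc hO (x := 1) P.isPGroup' (fun q _ => by rw [one_mul, mul_one]) (reg_one H.hM.1) hK
    (fun x hx => (hr x hx).1) hχ
  rw [sum_zero fun n hn h => (hr _ h).2 (mul_mem (one_mem _) (inv_mem hn)), sum_single c (K := {1}) rfl
    fun n _ h => by simpa using h, ← Subgroup.card_mul_index (P : Subgroup X), Nat.cast_mul] at h1
  have h2 : MemLocalRing M _ := h1 ▸ memLocalRing_sum fun ψ _ => memLocalRing_mul (memLocalRing_mul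
    (cf_mem (fun q _ => by rw [one_mul, mul_one]) ψ) (memLocalRing_natCast _))
    (memLocalRing_sub (om_mem (conj_mem H hK) ψ.2) (om_mem (conj_mem H hK) χ.2))
  have h3 := memLocalRing_neg (memLocalRing_mul (memLocalRing_mul (memLocalRing_natCast (Nat.card (center X)))
    (memLocalRing_inv_natCast H.hM P.not_dvd_index)) h2)
  have hP0 : (Nat.card P : ℂ) ≠ 0 := Nat.cast_ne_zero.2 Nat.card_pos.ne'
  have hZ0 : (Nat.card (center X) : ℂ) ≠ 0 := Nat.cast_ne_zero.2 Nat.card_pos.ne'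
  have hr0 : ((P : Subgroup X).index : ℂ) ≠ 0 := Nat.cast_ne_zero.2 Subgroup.FiniteIndex.index_ne_zero
  convert h3 using 1
  rw [Subgroup.card_mul_index, om, ← div_div]
  field_simp
  ring

theorem boxG1 : BoxG1 := by
  classical
  intro p M X _ _ Γ b D S _ σ H m hO x hx hxZ hG hd
  have : Fact p.Prime := ⟨H.hM.1⟩
  have := isPrime_of_isPModular H.hM
  have := finite_irr (G := X)
  have := Fintype.ofFinite X
  have := Fintype.ofFinite (IrrCharacter X)
  obtain ⟨c, -, -, hc⟩ := ctx H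
  obtain ⟨θ, hθ⟩ := Basic.isPBlock_nonempty H.hb
  obtain ⟨Q, hQ⟩ := Sylow.exists_subgroup_card_pow_prime p hd
  have h0 : ∀ q ∈ Q.map (centralizer ({x} : Set X)).subtype, x * q = q * x := by
    rintro _ ⟨q, -, rfl⟩
    exact (mem_centralizer_singleton_iff.1 q.2).symm
  have h1 := main H hc hO ((IsPGroup.of_card hQ).map _) h0 hx (orb_inv x) (orb_reg hx) hθ
  rw [sum_zero (K := {1}) fun n hn (h : x * n⁻¹ = 1) => hxZ (mul_inv_eq_one.1 h ▸ hn), sum_single c (orb_self x)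
    fun n hn ⟨α, hα, e⟩ => inv_eq_one.1 (hG α hα _ (inv_mem hn) e), mul_zero, sub_zero, mul_one,
    card_map_of_injective (subtype_injective _), hQ] at h1
  have h2 : MemLocalRing M _ := h1 ▸ memLocalRing_sum fun ψ _ => memLocalRing_mul (memLocalRing_mul
    (cf_mem h0 ψ) (memLocalRing_natCast _))
    (memLocalRing_sub (om_mem (conj_mem H (orb_inv x)) ψ.2) (om_mem (conj_mem H (orb_inv x)) θ.2))
  have h3 : m + 1 ≤ (Nat.card X).factorization p :=
    (H.hM.1.pow_dvd_iff_le_factorization Nat.card_pos.ne').1 (hd.trans (card_subgroup_dvd_card _))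
  refine not_unit H.hM (Nat.card_pos (α := X)).ne' ?_
  have hZ0 : (Nat.card (center X) : ℂ) ≠ 0 := Nat.cast_ne_zero.2 Nat.card_pos.ne'
  have hp0 : (p : ℂ) ≠ 0 := Nat.cast_ne_zero.2 H.hM.1.ne_zero
  convert memLocalIdeal_mul_right (memLocalIdeal_p H.hM)
    (memLocalRing_mul (memLocalRing_natCast (Nat.card (center X))) h2) using 1
  obtain ⟨k, hk⟩ := Nat.exists_eq_add_of_le h3
  rw [hk, show m + 1 + k - m = k + 1 by omega, Nat.cast_pow]
  field_simp
  ring

theorem boxG2 : BoxG2 := by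
  classical
  intro p M X _ _ Γ b D S _ σ H m hO hm ι _ x hx hxm hxx
  have hM := H.hM
  have hp := hM.1
  have : Fact p.Prime := ⟨hp⟩
  have hP := isPrime_of_isPModular hM
  have := finite_irr (G := X)
  have := Fintype.ofFinite X
  have := Fintype.ofFinite ι
  have := Fintype.ofFinite (IrrCharacter X)
  obtain ⟨c, hcb, -, hc⟩ := ctx H
  obtain ⟨θ, hθ⟩ := Basic.isPBlock_nonempty H.hb
  set a := (Nat.card X).factorization p with ha
  have hxZ : ∀ i, x i ∉ center X := fun i h => by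
    have h1 := hxm i
    rw [(centralizer_eq_top_iff_subset (s := {x i})).2 (Set.singleton_subset_iff.2 h), card_top] at h1
    omega
  let P : ∀ i, Sylow p (centralizer ({x i} : Set X)) := fun i => default
  let Q : ι → Subgroup X := fun i => (P i : Subgroup _).map (centralizer ({x i} : Set X)).subtype
  have hQc : ∀ i (R : Sylow p (centralizer ({x i} : Set X))),
      Nat.card ((R : Subgroup _).map (centralizer ({x i} : Set X)).subtype) = p ^ m := fun i R => by
    rw [card_map_of_injective (subtype_injective _), R.card_eq_multiplicity, hxm]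
  have h0 : ∀ i, ∀ q ∈ Q i, x i * q = q * x i := by
    rintro i _ ⟨q, -, rfl⟩
    exact (mem_centralizer_singleton_iff.1 q.2).symm
  have hK := fun j => conj_mem H (orb_inv (Γ := Γ) (x j))
  let F := (ov (center X) c).filter (· ∉ b)
  let s : ι → IrrCharacter X → ℂ := fun i χ => cf (Q i) (x i) (χ : X → ℂ) * (charDegree (χ : X → ℂ) / p ^ (a - m) : ℕ)
  have hs : ∀ i χ, MemLocalRing M (s i χ) := fun i χ => memLocalRing_mul (cf_mem (h0 i) χ) (memLocalRing_natCast _)
  let u : ℂ := (Nat.card X : ℂ) / (p : ℂ) ^ a * (Nat.card (center X) : ℂ)⁻¹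
  have hp0 : (p : ℂ) ≠ 0 := Nat.cast_ne_zero.2 hp.ne_zero
  have hZ0 : (Nat.card (center X) : ℂ) ≠ 0 := Nat.cast_ne_zero.2 Nat.card_pos.ne'
  have hu1 : MemLocalRing M ((Nat.card X : ℂ) / (p : ℂ) ^ a) := by
    rw [← Nat.cast_pow, ← Nat.cast_div (Nat.ordProj_dvd _ p) (Nat.cast_ne_zero.2 (pow_ne_zero _ hp.ne_zero))]
    exact memLocalRing_natCast _
  have hu : redC M u ≠ 0 := fun h => by
    rw [redC_eq_zero_iff (memLocalRing_mul hu1 (memLocalRing_inv_natCast hM H.sit.ndvd))] at h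
    have h1 := memLocalIdeal_mul_right h (memLocalRing_natCast (Nat.card (center X)))
    rw [inv_mul_cancel_right₀ hZ0] at h1
    exact not_unit hM Nat.card_pos.ne' h1
  have hb0 : ∀ j, ∀ θ ∈ b, MemLocalIdeal M (om (orb Γ (x j)) (θ : X → ℂ)) := fun j θ hθ => by
    have h3 := boxG0 p M X Γ b D S σ H m hO _ (orb_inv (x j))
      (fun y hy => ⟨orb_reg (hx j) y hy, orb_not (hxZ j) y hy⟩) θ hθ
    convert memLocalIdeal_mul_right (memLocalIdeal_pow (memLocalIdeal_p hM) (n := a - m) (by omega)) h3 using 1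
    rw [om, ← div_div, mul_div_cancel₀ _ (pow_ne_zero _ hp0)]
  have h1 : ∀ i j, ∑ χ ∈ F, redC M (s i χ) * redC M (om (orb Γ (x j)) (χ : X → ℂ)) = if i = j then redC M u else 0 := by
    intro i j
    have h1 := main H hc hO ((P i).isPGroup'.map _) (h0 i) (hx i) (orb_inv (x j)) (orb_reg (hx j)) hθ
    have h2 : ∑ n : center X, conj (c n : ℂ) * ind (orb Γ (x j)) (x i * (n : X)⁻¹) = if i = j then 1 else 0 := by
      split_ifs with e
      · subst e
        exact sum_single c (orb_self _) fun n hn ⟨α, hα, e⟩ => inv_eq_one.1 (hxx i i α hα _ (inv_mem hn) e).2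
      · exact sum_zero fun n hn ⟨α, hα, e'⟩ => e (hxx j i α hα _ (inv_mem hn) e').1.symm
    rw [sum_zero (K := {1}) fun n hn (h : x i * n⁻¹ = 1) => hxZ i (mul_inv_eq_one.1 h ▸ hn), mul_zero, sub_zero, h2, hQc] at h1
    have h3 := hb0 j θ hθ
    have h4 : redC M (∑ χ ∈ F, s i χ * (om (orb Γ (x j)) (χ : X → ℂ) - om (orb Γ (x j)) (θ : X → ℂ))) =
        ∑ χ ∈ F, redC M (s i χ) * redC M (om (orb Γ (x j)) (χ : X → ℂ)) := by
      rw [redC_sum fun χ _ => memLocalRing_mul (hs i χ) (memLocalRing_sub (om_mem (hK j) χ.2) (om_mem (hK j) θ.2))]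
      refine Finset.sum_congr rfl fun χ _ => ?_
      rw [redC_mul (hs i χ) (memLocalRing_sub (om_mem (hK j) χ.2) (om_mem (hK j) θ.2)),
        redC_sub (om_mem (hK j) χ.2) (om_mem (hK j) θ.2), (redC_eq_zero_iff (om_mem (hK j) θ.2)).2 h3, sub_zero]
    rw [← h4, ← h1]
    split_ifs
    · congr 1
      obtain ⟨k, hk⟩ := Nat.exists_eq_add_of_le hm.le
      simp only [u]
      rw [← ha, hk, Nat.add_sub_cancel_left, Nat.cast_pow]
      field_simp
      ring
    · rw [mul_zero, zero_div, redC_zero]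
  let R : Setoid (IrrCharacter X) :=
    ⟨fun χ ψ => ∃ α ∈ Γ, SameBlock M (compIrr α χ : X → ℂ) ψ, fun χ => ⟨1, one_mem _, Basic.sameBlock_refl _⟩,
      fun {χ ψ} ⟨α, hα, h⟩ => ⟨α⁻¹, inv_mem hα, by
        have h2 := sameBlock_compIrr (α⁻¹ : MulAut X) h
        rw [show compIrr (α⁻¹ : MulAut X) (compIrr α χ) = χ from compIrr_symm_compIrr α χ] at h2
        exact Basic.sameBlock_symm h2⟩,
      fun {χ ψ φ} ⟨α, hα, h⟩ ⟨β, hβ, h'⟩ => ⟨α * β, mul_mem hα hβ, Basic.sameBlock_trans (sameBlock_compIrr β h) h'⟩⟩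
  have hW : ∀ j (χ ψ : IrrCharacter X), R.r χ ψ →
      redC M (om (orb Γ (x j)) (χ : X → ℂ)) = redC M (om (orb Γ (x j)) (ψ : X → ℂ)) := by
    rintro j χ ψ ⟨α, hα, h⟩
    rw [← om_aut (orb_inv (x j)) hα]
    exact (redC_eq_iff (om_mem (hK j) (compIrr α χ).2) (om_mem (hK j) ψ.2)).2 (om_same (hK j) (compIrr α χ).2 ψ.2 h)
  have := Fintype.ofFinite (Quotient R)
  obtain ⟨f, hf, hf'⟩ := exists_sdr (fun i (t : Quotient R) => ∑ χ ∈ F.filter (fun χ => Quotient.mk R χ = t), redC M (s i χ))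
    (fun j t => redC M (om (orb Γ (x j)) (t.out : X → ℂ))) (fun _ => redC M u) (fun _ => hu) fun i j => by
      rw [← h1 i j, ← Finset.sum_fiberwise F (Quotient.mk R)]
      refine Finset.sum_congr rfl fun t _ => ?_
      rw [Finset.sum_mul]
      refine Finset.sum_congr rfl fun χ hχ => ?_
      rw [← (Finset.mem_filter.1 hχ).2, hW j _ χ (Quotient.mk_out χ)]
  have h2 : ∀ j, ∃ ψ : IrrCharacter X, Quotient.mk R ψ = f j ∧ Lies (center X) c ψ ∧ ψ ∉ b ∧
      (charDegree (ψ : X → ℂ)).factorization p + m = a ∧ ¬ MemLocalIdeal M (centralChar (ψ : X → ℂ) (x j)) := by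
    intro j
    obtain ⟨h2, i, h3⟩ := hf' j
    obtain ⟨χ, hχ, h4⟩ := Finset.exists_ne_zero_of_sum_ne_zero h3
    obtain ⟨h5, h6⟩ := Finset.mem_filter.1 hχ
    obtain ⟨h7, h8⟩ := Finset.mem_filter.1 h5
    rw [← h6, hW j _ χ (Quotient.mk_out χ), Ne, redC_eq_zero_iff (om_mem (hK j) χ.2)] at h2
    obtain ⟨_, ⟨α, hα, rfl⟩, h9⟩ := exists_unit (hK j) χ.2 h2
    have h10 : charDegree (compIrr α χ : X → ℂ) = charDegree (χ : X → ℂ) := by
      rw [charDegree, compIrr_apply, map_one, charDegree]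
    have h11 := dvd_of_oth hp ((hO χ (hc χ (mem_ov.1 h7))).resolve_left h8)
    have h12 : (charDegree (χ : X → ℂ)).factorization p + m = a := by
      obtain ⟨w, hw⟩ := h11
      have h12 : ¬ p ∣ w := fun h => h4 ((redC_eq_zero_iff (hs i χ)).2 (memLocalIdeal_mul_left (cf_mem (h0 i) χ) (by
        rw [memLocalIdeal_natCast_iff hM, hw, Nat.mul_div_cancel_left _ (pow_pos hp.pos _)]
        exact h)))
      rw [hw, Nat.factorization_mul (pow_ne_zero _ hp.ne_zero) fun e : w = 0 => h12 (e ▸ dvd_zero p), Finsupp.add_apply,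
        hp.factorization_pow, Finsupp.single_eq_same, Nat.factorization_eq_zero_of_not_dvd h12]
      omega
    refine ⟨compIrr α χ, h6 ▸ (Quotient.sound (s := R) (a := χ) ⟨α, hα, Basic.sameBlock_refl _⟩).symm, fun y n => ?_,
      fun h => h2 ?_,
      h10 ▸ h12, ?_⟩
    · rw [compIrr_apply, compIrr_apply, map_mul, H.sit.fix α hα n n.2, mem_ov.1 h7]
    · rw [← om_aut (orb_inv (x j)) hα]
      exact hb0 j _ h
    · rwa [show centralChar (compIrr α χ : X → ℂ) (x j) = _ from Covering.centralChar_comp_equiv α (χ : X → ℂ) (x j)]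
  choose ψ h3 h4 h5 h6 h7 using h2
  refine ⟨ψ, fun i => ⟨hc _ (h4 i), h5 i, h6 i, ?_⟩, fun i j α hα h => hf ?_⟩
  · obtain ⟨E, hE, h8⟩ := BZ.T.exists_dg hM (ψ i) (h6 i).le
    obtain ⟨g, hg, P', rfl⟩ := hE
    obtain ⟨t, R', h9⟩ := (S0911.result p M hM _ (Basic.isPBlock_blockOf (ψ i)) g hg P' (x i)).2
      ⟨ψ i, Basic.mem_blockOf_self _, h7 i⟩
    refine ⟨R', ?_⟩
    rw [← eq_of_le_of_card_ge h9 (by
      rw [hQc, card_map_of_injective (MulAut.conj t).injective]
      exact Nat.le_of_dvd Nat.card_pos h8)]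
    exact Basic.isDefectGroup_conj ⟨g, hg, P', rfl⟩ t
  · rw [← h3, ← h3]
    exact Quotient.sound ⟨α, hα, h⟩

end Cfsg.Agent.OM.Lo
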