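import Cfsg.Agent.OM.Xc.Defs
import Cfsg.Agent.BZ.T.Crit
import Cfsg.Agent.H382.RIM.Tool
import Cfsg.Agent.Blocks.AvgIntegral
import Cfsg.Agent.Blocks.ClassSum
import Cfsg.Agent.Blocks.BlockIdem

/-!
# OM (S4894): class functions attached to `x` and a `p`-subgroup `Q` of `C(x)` (helper50)

* `cf Q x χ` : the conjugate of the mean of `χ` over `x Q`;  `phi_eq`, `phi_ind` : the values of `∑ cf χ • χ`;
* `om K χ` : the central character at the sum of `K`;  `ctx`, `om_eq`, `key`.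
-/

set_option autoImplicit false
set_option linter.unusedSectionVars false

namespace Cfsg.Agent.OM.Lo.G

open Cfsg Subgroup ComplexConjugate Cfsg.Agent.OM.Alt Cfsg.Agent.Characters.Core Cfsg.Agent.H382.RIM
  Cfsg.Agent.Blocks Cfsg.Agent.Blocks.Local Cfsg.Agent.Blocks.ConvCentral
open Cfsg.Agent.H622.Over (Lies exists_hom)

variable {p : ℕ} {M : Ideal AlgInt}

section phi

variable {Y : Type} [Group Y]

open Classical in
/-- the indicator function -/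
noncomputable def ind (K : Set Y) : Y → ℂ := fun y => if y ∈ K then 1 else 0

omit [Group Y] in
theorem ind_of {K : Set Y} {y : Y} (h : y ∈ K) : ind K y = 1 := if_pos h

omit [Group Y] in
theorem ind_not {K : Set Y} {y : Y} (h : y ∉ K) : ind K y = 0 := if_neg h

omit [Group Y] in
theorem ind_mem [M.IsPrime] (K : Set Y) (y : Y) : MemLocalRing M (ind K y) := by
  by_cases h : y ∈ K
  · rw [ind_of h]
    exact memLocalRing_one
  · rw [ind_not h]
    exact memLocalRing_zero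

theorem ind_cls {K : Set Y} (hK : ∀ g, ∀ y ∈ K, g * y * g⁻¹ ∈ K) : IsClassFunction Y (ind K) := fun y g => by
  by_cases h : y ∈ K
  · rw [ind_of h, ind_of (hK g y h)]
  · rw [ind_not h, ind_not fun h' => h (by simpa [mul_assoc] using hK g⁻¹ _ h')]

/-- the central character at the sum of `K` -/
noncomputable def om (K : Set Y) (χ : Y → ℂ) : ℂ := ks K χ / χ 1

variable [Fintype Y]

theorem lin_ind (K : Set Y) (χ : Y → ℂ) : lin χ (ind K) = ks K χ := by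
  classical
  rw [lin_def, ks_eq]
  refine Finset.sum_congr rfl fun y _ => ?_
  split_ifs with h
  · rw [ind_of h, one_mul]
  · rw [ind_not h, zero_mul]

theorem om_eq_sum (K : Set Y) (χ : Y → ℂ) : om K χ = ∑ g, ind K g * (χ g / χ 1) := by
  rw [om, ← lin_ind, lin_def, Finset.sum_div]
  exact Finset.sum_congr rfl fun _ _ => mul_div_assoc _ _ _

theorem om_mem [M.IsPrime] {K : Set Y} (hK : ∀ g, ∀ y ∈ K, g * y * g⁻¹ ∈ K) {χ : Y → ℂ} (hχ : IsIrrCharacter Y χ) :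
    MemLocalRing M (om K χ) := by
  rw [om_eq_sum]
  exact ClassSum.memLocalRing_sum (isIrr_isClassFunction hχ)
    (fun g => memLocalRing_of_isIntegral (isIntegral_centralChar hχ g)) (ind_cls hK) (ind_mem K)

theorem om_same [M.IsPrime] {K : Set Y} (hK : ∀ g, ∀ y ∈ K, g * y * g⁻¹ ∈ K) {χ ψ : Y → ℂ} (hχ : IsIrrCharacter Y χ)
    (hψ : IsIrrCharacter Y ψ) (h : SameBlock M χ ψ) : MemLocalIdeal M (om K χ - om K ψ) := by
  rw [om_eq_sum, om_eq_sum]
  exact ClassSum.memLocalIdeal_of_sameBlock (isIrr_isClassFunction hχ) (isIrr_isClassFunction hψ) h (ind_cls hK)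
    (ind_mem K)

theorem cls_sum [∀ a b : Y, Decidable (IsConj a b)] {F : Y → ℂ} (hF : IsClassFunction Y F) (g : Y) :
    ∑ y, F y * (if IsConj y g then (Nat.card (centralizer ({g} : Set Y)) : ℂ) else 0) = Nat.card Y * F g := by
  have h1 : ∀ y, F y * (if IsConj y g then (Nat.card (centralizer ({g} : Set Y)) : ℂ) else 0) =
      if IsConj g y then F g * Nat.card (centralizer ({g} : Set Y)) else 0 := fun y => by
    by_cases h : IsConj g y
    · obtain ⟨t, rfl⟩ := isConj_iff.1 h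
      rw [if_pos h, if_pos h.symm, hF]
    · rw [if_neg h, if_neg fun h' => h h'.symm, mul_zero]
  have h2 : (Finset.univ.filter fun y => IsConj g y).card = (centralizer ({g} : Set Y)).index := by
    rw [← Induced.ncard_conj_eq_index, ← Set.ncard_coe_finset]
    congr 1
    ext y
    simp only [Finset.coe_filter, Finset.mem_univ, true_and]
  rw [Finset.sum_congr rfl fun y _ => h1 y, ← Finset.sum_filter, Finset.sum_const, h2, nsmul_eq_mul,
    ← Subgroup.index_mul_card (centralizer ({g} : Set Y)), Nat.cast_mul]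
  ring

variable [Fintype (IrrCharacter Y)] {N : Subgroup Y} [Fintype N]

theorem four (hN : N ≤ center Y) (c : N →* ℂˣ) {a : Y → ℂ} (ha : IsClassFunction Y a) (g : Y) :
    ∑ χ ∈ ov N c, conj ((χ : Y → ℂ) g) * lin (χ : Y → ℂ) a =
      (Nat.card Y : ℂ) / Nat.card N * ∑ n : N, conj (c n : ℂ) * a (g * (n : Y)⁻¹) := by
  classical
  have h1 : ∀ n : N, ∑ y, a y * (if IsConj (y * n) g then (Nat.card (centralizer ({g} : Set Y)) : ℂ) else 0) =
      Nat.card Y * a (g * (n : Y)⁻¹) := fun n => by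
    have h2 := cls_sum (F := fun y => a (y * (n : Y)⁻¹)) (fun y t => by
      change a (t * y * t⁻¹ * (n : Y)⁻¹) = a (y * (n : Y)⁻¹)
      rw [← ha (y * (n : Y)⁻¹) t, mul_assoc _ t⁻¹, mem_center_iff.1 (inv_mem (hN n.2)) t⁻¹]
      simp only [mul_assoc]) g
    rw [← Equiv.sum_comp (Equiv.mulRight (n : Y))] at h2
    rw [← h2]
    exact Finset.sum_congr rfl fun y _ => by rw [Equiv.coe_mulRight, mul_inv_cancel_right]
  simp only [lin_def, Finset.mul_sum]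
  rw [Finset.sum_comm, Finset.sum_congr rfl fun y _ => show _ = a y * ∑ χ ∈ ov N c, (χ : Y → ℂ) y * conj ((χ : Y → ℂ) g) by
    rw [Finset.mul_sum]
    exact Finset.sum_congr rfl fun _ _ => by ring]
  simp only [sum_over hN c, Finset.mul_sum]
  rw [Finset.sum_comm]
  refine Finset.sum_congr rfl fun n _ => ?_
  rw [show (Nat.card Y : ℂ) / Nat.card N * (conj (c n : ℂ) * a (g * (n : Y)⁻¹)) =
    (Nat.card N : ℂ)⁻¹ * conj (c n : ℂ) * (Nat.card Y * a (g * (n : Y)⁻¹)) by ring, ← h1, Finset.mul_sum]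
  exact Finset.sum_congr rfl fun _ _ => by ring

/-- the conjugate of the mean over `x Q` -/
noncomputable def cf (Q : Subgroup Y) [Fintype Q] (x : Y) (χ : Y → ℂ) : ℂ :=
  conj ((Nat.card Q : ℂ)⁻¹ * ∑ q : Q, χ (x * q))

variable {Q : Subgroup Y} [Fintype Q] {x : Y}

theorem cf_mem [M.IsPrime] (h : ∀ q ∈ Q, x * q = q * x) (χ : IrrCharacter Y) : MemLocalRing M (cf Q x (χ : Y → ℂ)) :=
  memLocalRing_of_isIntegral ((AvgIntegral.isIntegral_avg (isIrr_isCharacter χ.2) Q x h).map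
    (starRingEnd ℂ).toIntAlgHom)

theorem phi_eq (hN : N ≤ center Y) (c : N →* ℂˣ) {a : Y → ℂ} (ha : IsClassFunction Y a) :
    ∑ χ ∈ ov N c, cf Q x (χ : Y → ℂ) * lin (χ : Y → ℂ) a = (Nat.card Y : ℂ) / (Nat.card Q * Nat.card N) *
      ∑ q : Q, ∑ n : N, conj (c n : ℂ) * a (x * q * (n : Y)⁻¹) := by
  simp only [cf, map_mul, map_sum, map_inv₀, map_natCast, Finset.mul_sum _ _ (Nat.card Q : ℂ)⁻¹, Finset.sum_mul,
    mul_assoc (Nat.card Q : ℂ)⁻¹]
  rw [Finset.sum_comm, Finset.mul_sum]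
  refine Finset.sum_congr rfl fun q _ => ?_
  rw [← Finset.mul_sum, four hN c ha]
  ring

theorem phi_ind (hp : p.Prime) (hN : N ≤ center Y) (hN' : ¬ p ∣ Nat.card N) (c : N →* ℂˣ) (hQ : IsPGroup p Q)
    (h : ∀ q ∈ Q, x * q = q * x) (hx : IsPRegular p x) {K : Set Y} (hK : ∀ g, ∀ y ∈ K, g * y * g⁻¹ ∈ K)
    (hr : ∀ y ∈ K, IsPRegular p y) :
    ∑ χ ∈ ov N c, cf Q x (χ : Y → ℂ) * ks K (χ : Y → ℂ) = (Nat.card Y : ℂ) / (Nat.card Q * Nat.card N) *
      ∑ n : N, conj (c n : ℂ) * ind K (x * (n : Y)⁻¹) := by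
  simp only [← lin_ind]
  rw [phi_eq hN c (ind_cls hK), Finset.sum_eq_single 1 (fun q _ hq => Finset.sum_eq_zero fun n _ => ?_) (by simp)]
  · simp only [OneMemClass.coe_one, mul_one]
  rw [ind_not fun h1 => ?_, mul_zero]
  obtain ⟨k, hk⟩ := hQ q
  have h2 := AvgIntegral.dvd_orderOf_mul hp (h q q.2) hx (fun e => hq (Subtype.ext e)) (congrArg Subtype.val hk)
  have h3 : Commute (x * q * (n : Y)⁻¹) n := mem_center_iff.1 (hN n.2) _
  have h4 := h3.orderOf_mul_dvd_mul_orderOf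
  rw [inv_mul_cancel_right] at h4
  exact (hp.dvd_mul.1 (h2.trans h4)).elim (hr _ h1) fun h5 => hN' (h5.trans (orderOf_dvd_natCard N n.2))

theorem phi_one (hp : p.Prime) (hN : N ≤ center Y) (hN' : ¬ p ∣ Nat.card N) (c : N →* ℂˣ) (hQ : IsPGroup p Q)
    (h : ∀ q ∈ Q, x * q = q * x) (hx : IsPRegular p x) :
    ∑ χ ∈ ov N c, cf Q x (χ : Y → ℂ) * (χ : Y → ℂ) 1 = (Nat.card Y : ℂ) / (Nat.card Q * Nat.card N) *
      ∑ n : N, conj (c n : ℂ) * ind {1} (x * (n : Y)⁻¹) := by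
  rw [← phi_ind hp hN hN' c hQ h hx (K := {1}) (fun g y hy => by rw [hy, mul_one, mul_inv_cancel]; rfl)
    fun y hy => by rw [hy]; exact reg_one hp]
  exact Finset.sum_congr rfl fun χ _ => by rw [ks, finsum_mem_singleton]

theorem phi_one_zero (hp : p.Prime) (hN : N ≤ center Y) (hN' : ¬ p ∣ Nat.card N) (c : N →* ℂˣ) (hQ : IsPGroup p Q)
    (h : ∀ q ∈ Q, x * q = q * x) (hx : IsPRegular p x) (hx' : x ∉ N) :
    ∑ χ ∈ ov N c, cf Q x (χ : Y → ℂ) * (χ : Y → ℂ) 1 = 0 := by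
  rw [phi_one hp hN hN' c hQ h hx, Finset.sum_eq_zero fun n _ => ?_, mul_zero]
  rw [ind_not fun e => hx' ?_, mul_zero]
  rw [mul_inv_eq_one.1 e]
  exact n.2

theorem sum_single (c : N →* ℂˣ) {K : Set Y} (hx : x ∈ K) (h : ∀ n ∈ N, x * n⁻¹ ∈ K → n = 1) :
    ∑ n : N, conj (c n : ℂ) * ind K (x * (n : Y)⁻¹) = 1 := by
  rw [Finset.sum_eq_single 1 (fun n _ hn => ?_) (by simp)]
  · simp [ind_of hx]
  · rw [ind_not fun e => hn (Subtype.ext (h n n.2 e)), mul_zero]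

end phi

theorem dvd_of_oth (hp : p.Prime) {a m n : ℕ} (h : p ^ a ∣ p ^ m * n) : p ^ (a - m) ∣ n := by
  rcases le_total a m with h1 | h1
  · rw [Nat.sub_eq_zero_of_le h1, pow_zero]
    exact one_dvd n
  · rw [← Nat.add_sub_cancel' h1, pow_add] at h
    exact Nat.dvd_of_mul_dvd_mul_left (pow_pos hp.pos m) h

theorem not_unit (hM : IsPModular p M) {n : ℕ} (hn : n ≠ 0) :
    ¬ MemLocalIdeal M ((n : ℂ) / (p : ℂ) ^ n.factorization p) := by
  have h0 : (p : ℂ) ^ n.factorization p ≠ 0 := pow_ne_zero _ (Nat.cast_ne_zero.2 hM.1.ne_zero)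
  rw [← Nat.cast_pow, ← Nat.cast_div (Nat.ordProj_dvd n p) (by rwa [Nat.cast_pow]), memLocalIdeal_natCast_iff hM]
  exact Nat.not_dvd_ordCompl hM.1 hn

section hyp

variable {X : Type} [Group X] [Finite X] {Γ : Subgroup (MulAut X)} {b : Set (IrrCharacter X)} {D : Subgroup X}
  {S : Type} [Group S] {σ : X →* S}

theorem ce (H : Hyp p M Γ b D σ) : BZ.T.Ce p σ := ⟨H.surj, H.ker.le, H.ker ▸ H.sit.ndvd⟩

theorem ctx (H : Hyp p M Γ b D σ) : ∃ c : center X →* ℂˣ, (∀ θ ∈ b, ∀ z : center X,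
    (θ : X → ℂ) z = (θ : X → ℂ) 1 * c z) ∧ (∀ θ ∈ b, Lies (center X) c (θ : X → ℂ)) ∧
    ∀ χ : IrrCharacter X, Lies (center X) c χ → Ov b (χ : X → ℂ) := by
  have : Fact p.Prime := ⟨H.hM.1⟩
  have := isPrime_of_isPModular H.hM
  obtain ⟨θ, hθ⟩ := Basic.isPBlock_nonempty H.hb
  obtain ⟨c, hc⟩ := exists_hom (le_refl (center X)) θ.2
  have h1 : ∀ χ ∈ b, ∀ z : center X, (χ : X → ℂ) z / (χ : X → ℂ) 1 = c z := fun χ hχ z => by
    have e := hc 1 z
    rw [one_mul] at e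
    rw [(ce H).ov H.hM χ.2 θ.2 (Covering.sameBlock_of_mem this H.hb hχ hθ) z (H.ker.ge z.2), e,
      mul_div_cancel_left₀ _ (isIrr_apply_one_ne_zero θ.2)]
  have h2 : ∀ χ ∈ b, ∀ z : center X, (χ : X → ℂ) z = (χ : X → ℂ) 1 * c z := fun χ hχ z => by
    rw [← h1 χ hχ z, mul_div_cancel₀ _ (isIrr_apply_one_ne_zero χ.2)]
  refine ⟨c, h2, fun χ hχ x z => ?_, fun χ hχ ψ hψ z hz => ?_⟩
  · rw [BZ.T.cen_mul χ.2 z.2, h1 χ hχ, mul_comm]
  · have e := hχ 1 ⟨z, hz⟩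
    rw [one_mul] at e
    rw [e, h2 ψ hψ ⟨z, hz⟩]
    ring

theorem conj_mem (H : Hyp p M Γ b D σ) {K : Set X} (hK : ∀ α ∈ Γ, ∀ x ∈ K, α x ∈ K) (g : X) :
    ∀ y ∈ K, g * y * g⁻¹ ∈ K := hK _ (H.sit.inn g)

theorem om_eq (h : One p Γ b) {K : Set X} (hK : ∀ α ∈ Γ, ∀ x ∈ K, α x ∈ K) (hr : ∀ x ∈ K, IsPRegular p x)
    {θ θ' : IrrCharacter X} (hθ : θ ∈ b) (hθ' : θ' ∈ b) : om K (θ : X → ℂ) = om K (θ' : X → ℂ) := by
  classical
  have := Fintype.ofFinite X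
  have : Finite (MulAut X) := Finite.of_injective (fun α : MulAut X => (α : X → X)) DFunLike.coe_injective
  have := Fintype.ofFinite Γ
  have key : ∀ φ : X → ℂ, ks K (fun x => ∑ᶠ α : Γ, φ (α.1 x)) = Fintype.card Γ * ks K φ := by
    intro φ
    have h1 : ∀ α : Γ, ks K φ = ∑ x, if x ∈ K then φ (α.1 x) else 0 := fun α => by
      rw [← ks_eq]
      exact (ks_equiv α.1.toEquiv (fun x => ⟨hK _ α.2 x, fun h => by simpa using hK _ α⁻¹.2 _ h⟩) φ).symm
    rw [← Finset.card_univ, ← nsmul_eq_mul, ← Finset.sum_const, Finset.sum_congr rfl fun α _ => h1 α, Finset.sum_comm,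
      ks_eq]
    refine Finset.sum_congr rfl fun x _ => ?_
    rw [finsum_eq_sum_of_fintype]
    split_ifs <;> simp
  have h0 : (Fintype.card Γ : ℂ) ≠ 0 := Nat.cast_ne_zero.2 Fintype.card_ne_zero
  rw [om, om, div_eq_div_iff (isIrr_apply_one_ne_zero θ.2) (isIrr_apply_one_ne_zero θ'.2)]
  refine mul_left_cancel₀ h0 ?_
  rw [← mul_assoc, ← mul_assoc, ← key, ← key, ks_eq, ks_eq, Finset.sum_mul, Finset.sum_mul]
  refine Finset.sum_congr rfl fun x _ => ?_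
  split_ifs with hx
  · exact h θ hθ θ' hθ' x (hr x hx)
  · simp

/-- the `Γ`-orbit -/
def orb (Γ : Subgroup (MulAut X)) (x : X) : Set X := {y | ∃ α ∈ Γ, α x = y}

theorem orb_inv (x : X) : ∀ α ∈ Γ, ∀ y ∈ orb Γ x, α y ∈ orb Γ x := by
  rintro α hα _ ⟨β, hβ, rfl⟩
  exact ⟨α * β, mul_mem hα hβ, rfl⟩

theorem orb_reg {x : X} (hx : IsPRegular p x) : ∀ y ∈ orb Γ x, IsPRegular p y := by
  rintro _ ⟨β, -, rfl⟩ h
  exact hx (MulEquiv.orderOf_eq β x ▸ h)

theorem orb_self (x : X) : x ∈ orb Γ x := ⟨1, one_mem _, rfl⟩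

theorem orb_not {x : X} (hx : x ∉ center X) : ∀ y ∈ orb Γ x, y ∉ center X := by
  rintro _ ⟨β, -, rfl⟩ h
  refine hx (mem_center_iff.2 fun g => β.injective ?_)
  rw [map_mul, map_mul, mem_center_iff.1 h]

end hyp

/-- the splitting into a part with constant central character and the rest -/
theorem key {Y : Type} [Group Y] (hp : p.Prime) {O : Finset (IrrCharacter Y)} {b : Set (IrrCharacter Y)}
    [DecidablePred (· ∈ b)] {k : ℕ} (h : ∀ χ ∈ O, χ ∉ b → p ^ k ∣ charDegree (χ : Y → ℂ)) (f g : IrrCharacter Y → ℂ)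
    (hg : ∀ χ ∈ O, χ ∈ b → g χ = 0) :
    (∑ χ ∈ O, f χ * ((χ : Y → ℂ) 1 * g χ)) / (p : ℂ) ^ k =
      ∑ χ ∈ O.filter (· ∉ b), f χ * (charDegree (χ : Y → ℂ) / p ^ k : ℕ) * g χ := by
  rw [Finset.sum_filter, Finset.sum_div]
  refine Finset.sum_congr rfl fun χ hχ => ?_
  split_ifs with h1
  · rw [hg χ hχ h1, mul_zero, mul_zero, zero_div]
  · rw [Nat.cast_div (h χ hχ h1) (Nat.cast_ne_zero.2 (pow_ne_zero _ hp.ne_zero)), Basic.irr_one_eq_charDegree χ.2,
      Nat.cast_pow]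
    ring

end Cfsg.Agent.OM.Lo.G
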