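import Cfsg.Agent.OM.Lo.GA
import Cfsg.Agent.Blocks.MinMax
import Cfsg.Agent.BZ.T.Loc
import Cfsg.Agent.S0927
import Cfsg.Agent.H648.HeightForm

/-!
# OM (S4894): `boxLoc`, `boxCon` (helper50)
-/

set_option autoImplicit false
set_option linter.unusedSectionVars false

namespace Cfsg.Agent.OM.Lo

open Cfsg Subgroup ComplexConjugate Cfsg.Agent.OM.Alt Cfsg.Agent.Characters.Core Cfsg.Agent.H382.RIM
  Cfsg.Agent.Blocks Cfsg.Agent.Blocks.Local Cfsg.Agent.Blocks.ConvCentral Cfsg.Agent.Blocks.MinMax Cfsg.Agent.OM.Lo.G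
  Cfsg.Agent.BHZ.Spor
open Cfsg.Agent.H622.Over (Lies exists_hom)

namespace Loc

variable {p : ℕ} [hp : Fact p.Prime] {M : Ideal AlgInt} [hP : M.IsPrime] {X : Type} [Group X] [Fintype X]

theorem conv_right {f w : X → ℂ} (hf : ∀ g, MemLocalRing M (f g)) (hw : ∀ g, MemLocalIdeal M (w g)) (g : X) :
    MemLocalIdeal M (conv f w g) := memLocalIdeal_sum fun _ _ => memLocalIdeal_mul_left (hf _) (hw _)

theorem conv_left {f w : X → ℂ} (hf : ∀ g, MemLocalIdeal M (f g)) (hw : ∀ g, MemLocalRing M (w g)) (g : X) :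
    MemLocalIdeal M (conv f w g) := memLocalIdeal_sum fun _ _ => memLocalIdeal_mul_right (hf _) (hw _)

/-- the truncation to `C(u)` is multiplicative modulo the local ideal -/
theorem trunc (hM : IsPModular p M) {u : X} (hu : ∃ k, orderOf u = p ^ k) {C : Subgroup X}
    (hC : C = centralizer ({u} : Set X)) [Fintype C]
    {f w : X → ℂ} (hfR : ∀ g, MemLocalRing M (f g)) (hwR : ∀ g, MemLocalRing M (w g)) (hf : IsClassFunction X f)
    (hw : IsClassFunction X w) (y : C) : MemLocalIdeal M (conv (fun x : C => f x) (fun x => w x) y - conv f w y) := by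
  classical
  subst hC
  obtain ⟨k, hk⟩ := hu
  let F : X → localRing M := fun x => ⟨f x * w (x⁻¹ * y), memLocalRing_mul (hfR x) (hwR _)⟩
  have hF : ∀ v ∈ zpowers u, ∀ x : X, F (v * x * v⁻¹) = F x := by
    intro v hv x
    apply Subtype.ext
    change f (v * x * v⁻¹) * w ((v * x * v⁻¹)⁻¹ * y) = f x * w (x⁻¹ * y)
    have h1 : Commute (y : X) v :=
      (commute_of_mem_zpowers (show Commute u y from (mem_centralizer_singleton_iff.1 y.2).symm) hv).symm
    have h2 : (v * x * v⁻¹)⁻¹ * y = v * (x⁻¹ * y) * v⁻¹ := by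
      calc (v * x * v⁻¹)⁻¹ * y = v * x⁻¹ * (v⁻¹ * y) := by group
        _ = v * x⁻¹ * (y * v⁻¹) := by rw [h1.inv_right.eq]
        _ = v * (x⁻¹ * y) * v⁻¹ := by group
    rw [hf, h2, hw]
  obtain ⟨a, ha⟩ := OrbitSum.sum_eq_sum_centralizer_add_smul (p := p) (zpowers u)
    (isPGroup_zpowers (hk ▸ pow_orderOf_eq_one u)) F hF
  have h4 : conv f w y = ((∑ x, F x : localRing M) : ℂ) := by
    rw [conv_apply]
    push_cast
    rfl
  have h5 : conv (fun x : centralizer ({u} : Set X) => f x) (fun x => w x) y =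
      ∑ x ∈ Finset.univ.filter (· ∈ centralizer (zpowers u : Set X)), (F x : ℂ) := by
    rw [conv_apply, Finset.sum_subtype (p := (· ∈ centralizer ({u} : Set X))) _ fun x => by
      rw [Finset.mem_filter, zpowers_eq_closure, centralizer_closure, and_iff_right (Finset.mem_univ _)]]
    rfl
  rw [h4, ha, h5]
  push_cast
  rw [sub_add_cancel_left, nsmul_eq_mul]
  exact memLocalIdeal_neg (memLocalIdeal_mul_right (memLocalIdeal_p hM) a.2)

/-- the local element `β (K ∩ C) - ω β` lies in the local ideal -/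
theorem loc_elt (hM : IsPModular p M) {b : Set (IrrCharacter X)} (hb : IsPBlock M b) {u : X}
    (hu : ∃ k, orderOf u = p ^ k) {C : Subgroup X} (hC : C = centralizer ({u} : Set X)) [Fintype C] {K : Set X}
    (hK : ∀ g, ∀ y ∈ K, g * y * g⁻¹ ∈ K) {ω : ℂ} (hω : ∀ θ ∈ b, om K (θ : X → ℂ) = ω)
    {S : Set (IrrCharacter C)} [DecidablePred (· ∈ S)] (hS : ∀ ψ, ψ ∈ S ↔ IsInducedBlock M C (blockOf M (ψ : C → ℂ)) b) :
    ∃ a : C → ℂ, IsClassFunction _ a ∧ (∀ y, MemLocalIdeal M (a y)) ∧ ∀ ψ : IrrCharacter C, lin (ψ : C → ℂ) a =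
        (ψ : C → ℂ) 1 * ((if ψ ∈ S then 1 else 0) * (om (Subtype.val ⁻¹' K) (ψ : C → ℂ) - ω)) := by
  classical
  obtain ⟨θ, hθ⟩ := Basic.isPBlock_nonempty hb
  have hωR : MemLocalRing M ω := hω θ hθ ▸ om_mem hK θ.2
  have hbR : ∀ g, MemLocalRing M (blockCoeff b g) := fun g => S0913.result p M hM b hb g
  have hbc := isClassFunction_blockCoeff b
  have hβR : ∀ g, MemLocalRing M (blockCoeff S g) := fun g =>
    OsimaUnion.memLocalRing_blockCoeff_union p hM S (fun χ hχ ψ h => by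
      rw [hS] at hχ ⊢
      rwa [← Basic.blockOf_eq_of_sameBlock h]) g
  have hβc := isClassFunction_blockCoeff S
  let e : C → ℂ := fun y => blockCoeff b y
  let k : C → ℂ := fun y => ind K y
  have hec : IsClassFunction C e := fun y t => hbc y t
  have hkc : IsClassFunction C k := fun y t => ind_cls hK y t
  have heR : ∀ y, MemLocalRing M (e y) := fun y => hbR y
  have hkR : ∀ y, MemLocalRing M (k y) := fun y => ind_mem K y
  have h0 : conv (blockCoeff b) (ind K) = ω • blockCoeff b :=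
    eq_of_omega (isClassFunction_conv hbc (ind_cls hK)) (isClassFunction_smul hbc ω) fun χ hχ => by
      rw [omega_conv hχ hbc, omega_smul, omega_blockCoeff b ⟨χ, hχ⟩]
      split_ifs with h
      · rw [one_mul, mul_one, omega_def, lin_ind]
        exact hω _ h
      · rw [zero_mul, mul_zero]
  have h1 : ∀ y, MemLocalIdeal M ((conv e e - e) y) := fun y => by
    have h1 := trunc hM hu hC hbR hbR hbc hbc y
    rwa [BlockIdem.conv_blockCoeff_self] at h1
  have h2 : ∀ y, MemLocalIdeal M ((conv e k - ω • e) y) := fun y => by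
    have h2 := trunc hM hu hC hbR (ind_mem K) hbc (ind_cls hK) y
    rwa [h0] at h2
  let z : C → ℂ := blockCoeff S - conv (blockCoeff S) e
  have hzc : IsClassFunction C z := isClassFunction_sub hβc (isClassFunction_conv hβc hec)
  have hz : ∀ ψ : IrrCharacter C, omega (ψ : C → ℂ) z = (if ψ ∈ S then 1 else 0) * (1 - omega (ψ : C → ℂ) e) :=
    fun ψ => by rw [omega_sub, omega_conv ψ.2 hβc, omega_blockCoeff, mul_one_sub]
  have h3 : ∀ y, MemLocalIdeal M (z y) := by
    refine BlockIdem.memLocalIdeal_of_idem hM hzc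
      (fun g => memLocalRing_sub (hβR g) (memLocalRing_conv hβR heR g)) (fun g => ?_) fun ψ => ?_
    · have h3 : conv z z - z = conv (blockCoeff S) (conv e e - e) :=
        eq_of_omega (isClassFunction_sub (isClassFunction_conv hzc hzc) hzc)
          (isClassFunction_conv hβc (isClassFunction_sub (isClassFunction_conv hec hec) hec)) fun χ hχ => by
          rw [omega_sub, omega_conv hχ hzc, hz ⟨χ, hχ⟩, omega_conv hχ hβc, omega_blockCoeff S ⟨χ, hχ⟩, omega_sub,
            omega_conv hχ hec]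
          split_ifs <;> ring
      rw [← Pi.sub_apply, h3]
      exact conv_right hβR h1 g
    · rw [← omega_def, hz]
      split_ifs with h
      · have h4 := ClassSum.memLocalIdeal_of_induced C (isIrr_isClassFunction θ.2)
          (((hS ψ).1 h).2.2 ψ (Basic.mem_blockOf_self ψ) θ hθ) hbc hbR
        have h5 := omega_blockCoeff b θ
        rw [if_pos hθ, omega_def, lin_def, Finset.sum_div] at h5
        simp only [mul_div_assoc] at h5
        rw [h5] at h4
        rw [one_mul, omega_def, lin_def, Finset.sum_div]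
        simp only [mul_div_assoc]
        exact memLocalIdeal_sub_comm h4
      · rw [zero_mul]
        exact memLocalIdeal_zero
  refine ⟨conv z k - ω • z + conv (blockCoeff S) (conv e k - ω • e),
    isClassFunction_add (isClassFunction_sub (isClassFunction_conv hzc hkc) (isClassFunction_smul hzc ω))
      (isClassFunction_conv hβc (isClassFunction_sub (isClassFunction_conv hec hkc) (isClassFunction_smul hec ω))),
    fun y => memLocalIdeal_add (memLocalIdeal_sub (conv_left h3 hkR y) (memLocalIdeal_mul_left hωR (h3 y)))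
      (conv_right hβR h2 y), fun ψ => ?_⟩
  have h4 : omega (ψ : C → ℂ) k = om (Subtype.val ⁻¹' K) (ψ : C → ℂ) := by
    rw [omega_def, om, ← lin_ind]
    rfl
  rw [← mul_div_cancel₀ (lin _ _) (isIrr_apply_one_ne_zero ψ.2), ← omega_def, omega_add, omega_sub, omega_smul,
    omega_conv ψ.2 hzc, omega_conv ψ.2 hβc, hz, omega_sub, omega_smul, omega_conv ψ.2 hec, omega_blockCoeff, h4]
  ring

theorem root_eq (hM : IsPModular p M) {a b : ℂ} {n : ℕ} (hn : ¬ p ∣ n) (ha : a ^ n = 1) (hb : b ^ n = 1)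
    (h : MemLocalIdeal M (a - b)) : a = b := by
  have h0 : n ≠ 0 := fun e => hn (e ▸ dvd_zero p)
  have hb0 : b ≠ 0 := fun e => by simp [e, h0] at hb
  have h4 : MemLocalRing M b⁻¹ := memLocalRing_of_isIntegral
    (IsIntegral.of_pow (Nat.pos_of_ne_zero h0) (by rw [inv_pow, hb, inv_one]; exact isIntegral_one))
  have h5 := H700.PrinCrit.eq_one_of_sub_mem hM (z := a * b⁻¹) hn (by rw [mul_pow, inv_pow, ha, hb, inv_one, mul_one])
    (by
      have h6 := memLocalIdeal_mul_right h h4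
      rwa [sub_mul, mul_inv_cancel₀ hb0] at h6)
  exact (mul_inv_eq_one₀ hb0).1 h5

end Loc

theorem loc {p : ℕ} {M : Ideal AlgInt} {X : Type} [Group X] [Finite X] {Γ : Subgroup (MulAut X)}
    {b : Set (IrrCharacter X)} {D : Subgroup X} {S : Type} [Group S] {σ : X →* S} (H : Hyp p M Γ b D σ) {u : X} {m : ℕ}
    (hu : ∃ k, orderOf u = p ^ k) {C : Subgroup X} (hC : C = centralizer ({u} : Set X))
    (hO : ∀ ψ : IrrCharacter C,
      (∀ θ ∈ b, ∀ z : C, (z : X) ∈ center X → (ψ : C → ℂ) z * (θ : X → ℂ) 1 = (θ : X → ℂ) z * (ψ : C → ℂ) 1) →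
      IsInducedBlock M C (blockOf M (ψ : C → ℂ)) b ∨ p ^ (Nat.card C).factorization p ∣ p ^ m * charDegree (ψ : C → ℂ))
    {x : X} (hux : Commute u x) (hx : IsPRegular p x) (hxZ : x ∉ center X) (hG : Gd Γ x) :
    ¬ p ^ (m + 1) ∣ Nat.card (centralizer ({u, x} : Set X)) := by
  classical
  intro hd
  have hM := H.hM
  have hp := hM.1
  have : Fact p.Prime := ⟨hp⟩
  have hP := isPrime_of_isPModular hM
  have := Fintype.ofFinite X
  obtain ⟨c, hcb, -, -⟩ := ctx H
  obtain ⟨θ, hθ⟩ := Basic.isPBlock_nonempty H.hb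
  have hK := conj_mem H (orb_inv (Γ := Γ) x)
  obtain ⟨T, hT⟩ : ∃ T : Set (IrrCharacter C), ∀ ψ, ψ ∈ T ↔ IsInducedBlock M C (blockOf M (ψ : C → ℂ)) b :=
    ⟨{ψ | _}, fun _ => Iff.rfl⟩
  obtain ⟨ω, hω⟩ : ∃ ω, om (orb Γ x) (θ : X → ℂ) = ω := ⟨_, rfl⟩
  obtain ⟨a, ha1, ha2, ha3⟩ := Loc.loc_elt hM H.hb hu hC hK
    (fun θ' h => (om_eq H.one (orb_inv x) (orb_reg hx) h hθ).trans hω) hT
  have hle : centralizer ({u, x} : Set X) ≤ C :=
    hC ▸ centralizer_le (Set.singleton_subset_iff.2 (Set.mem_insert _ _))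
  obtain ⟨Q₀, hQ⟩ := Sylow.exists_subgroup_card_pow_prime p hd
  have h3 : m + 1 ≤ (Nat.card C).factorization p :=
    (hp.pow_dvd_iff_le_factorization Nat.card_pos.ne').1 (hd.trans (card_dvd_of_le hle))
  have hx' : x ∈ C := hC ▸ mem_centralizer_singleton_iff.2 hux.symm
  have h0 : ∀ q ∈ Q₀.map (inclusion hle), (⟨x, hx'⟩ : C) * q = q * ⟨x, hx'⟩ := by
    rintro _ ⟨q, -, rfl⟩
    exact Subtype.ext (mem_centralizer_iff.1 q.2 x (by simp))
  have hQ' : Nat.card (Q₀.map (inclusion hle)) = p ^ (m + 1) := by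
    rw [card_map_of_injective (inclusion_injective hle), hQ]
  generalize Q₀.map (inclusion hle) = Q at h0 hQ'
  have := finite_irr (G := C)
  have := Fintype.ofFinite (IrrCharacter C)
  let N : Subgroup C := (center X).subgroupOf C
  let c' : N →* ℂˣ := c.comp ((C.subtype.comp N.subtype).codRestrict _ fun n => n.2)
  have hN : N ≤ center C := fun n hn => mem_center_iff.2 fun g => Subtype.ext (mem_center_iff.1 hn g)
  have hN' : ¬ p ∣ Nat.card N := fun h => H.sit.ndvd (h.trans (card_dvd_of_injective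
    ((C.subtype.comp N.subtype).codRestrict (center X) fun n => n.2) fun a b e =>
      Subtype.ext (Subtype.ext (congrArg (fun t : center X => (t : X)) e))))
  have hxr : IsPRegular p (⟨x, hx'⟩ : C) := fun h => hx (by rwa [← orderOf_coe] at h)
  have hK' : ∀ g : C, ∀ y ∈ (Subtype.val ⁻¹' orb Γ x : Set C), g * y * g⁻¹ ∈ (Subtype.val ⁻¹' orb Γ x : Set C) :=
    fun g y hy => hK g y hy
  have e1 := phi_ind hp hN hN' c' (IsPGroup.of_card hQ') h0 hxr hK' fun y hy h =>
    orb_reg hx _ hy (by rwa [orderOf_coe])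
  rw [sum_single c' (K := Subtype.val ⁻¹' orb Γ x) (orb_self x) fun n hn ⟨α, hα, e⟩ =>
    Subtype.ext (inv_eq_one.1 (hG α hα _ (inv_mem hn) e))] at e1
  have e2 := phi_one_zero hp hN hN' c' (IsPGroup.of_card hQ') h0 hxr hxZ
  have e3 := phi_eq (Q := Q) (x := ⟨x, hx'⟩) hN c' ha1
  have e4 := key hp (O := ov N c') (b := T)
    (k := (Nat.card C).factorization p - m)
    (fun ψ hψ h => dvd_of_oth hp ((hO ψ fun θ' hθ' z hz => by
      have e := mem_ov.1 hψ 1 ⟨z, hz⟩
      rw [one_mul] at e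
      rw [e, hcb θ' hθ' ⟨z, hz⟩]
      change _ * (c ⟨z, hz⟩ : ℂ) * _ = _
      ring).resolve_left fun h' => h ((hT ψ).2 h'))) (fun ψ => cf Q ⟨x, hx'⟩ (ψ : C → ℂ))
    (fun ψ => (1 - if ψ ∈ T then 1 else 0) *
      (om (Subtype.val ⁻¹' orb Γ x) (ψ : C → ℂ) - ω)) fun ψ _ h => by rw [if_pos h, sub_self, zero_mul]
  have h4 := (congrArg (MemLocalRing M) e4).mpr (memLocalRing_sum fun ψ _ => memLocalRing_mul (memLocalRing_mul
    (cf_mem h0 ψ) (memLocalRing_natCast _)) (memLocalRing_mul (memLocalRing_sub memLocalRing_one (by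
      split_ifs
      exacts [memLocalRing_one, memLocalRing_zero])) (memLocalRing_sub (om_mem hK' ψ.2) (hω ▸ om_mem hK θ.2))))
  have h5 : MemLocalIdeal M (∑ q : Q, ∑ n : N, conj (c' n : ℂ) * a (⟨x, hx'⟩ * q * (n : C)⁻¹)) :=
    memLocalIdeal_sum fun q _ => memLocalIdeal_sum fun n _ => memLocalIdeal_mul_left (memLocalRing_of_isIntegral
      (IsIntegral.map (starRingEnd ℂ).toIntAlgHom (IsIntegral.of_pow (orderOf_pos n) (by
        rw [← Units.val_pow_eq_pow_val, ← map_pow, pow_orderOf_eq_one, map_one, Units.val_one]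
        exact isIntegral_one)))) (ha2 _)
  generalize (∑ q : Q, ∑ n : N, conj (c' n : ℂ) * a (⟨x, hx'⟩ * q * (n : C)⁻¹)) = π at e3 h5
  have e5 : ∑ ψ ∈ ov N c', cf Q ⟨x, hx'⟩ (ψ : C → ℂ) * ((ψ : C → ℂ) 1 *
      ((1 - if ψ ∈ T then 1 else 0) *
        (om (Subtype.val ⁻¹' orb Γ x) (ψ : C → ℂ) - ω))) = (Nat.card C : ℂ) / (Nat.card Q * Nat.card N) * (1 - π) := by
    have e6 : (Nat.card C : ℂ) / (Nat.card Q * Nat.card N) * (1 - π) = (Nat.card C : ℂ) / (Nat.card Q * Nat.card N) * 1 -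
        ω * 0 - (Nat.card C : ℂ) / (Nat.card Q * Nat.card N) * π := by ring
    rw [e6, ← e1, ← e3]
    nth_rw 2 [← e2]
    rw [Finset.mul_sum, ← Finset.sum_sub_distrib, ← Finset.sum_sub_distrib]
    refine Finset.sum_congr rfl fun ψ _ => ?_
    rw [ha3, ← mul_div_cancel₀ (ks _ _) (isIrr_apply_one_ne_zero ψ.2), ← om]
    ring
  rw [e5, hQ'] at h4
  refine not_unit hM (Nat.card_pos (α := C)).ne' ?_
  have hZ0 : (Nat.card N : ℂ) ≠ 0 := Nat.cast_ne_zero.2 Nat.card_pos.ne'
  have hp0 : (p : ℂ) ≠ 0 := Nat.cast_ne_zero.2 hp.ne_zero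
  have hu1 : MemLocalRing M ((Nat.card C : ℂ) / (p : ℂ) ^ (Nat.card C).factorization p) := by
    rw [← Nat.cast_pow, ← Nat.cast_div (Nat.ordProj_dvd _ p) (Nat.cast_ne_zero.2 (pow_ne_zero _ hp.ne_zero))]
    exact memLocalRing_natCast _
  convert memLocalIdeal_add (memLocalIdeal_mul_right (memLocalIdeal_p hM)
    (memLocalRing_mul (memLocalRing_natCast (Nat.card N)) h4)) (memLocalIdeal_mul_left hu1 h5) using 1
  obtain ⟨k, hk⟩ := Nat.exists_eq_add_of_le h3
  rw [hk, show m + 1 + k - m = k + 1 by omega, Nat.cast_pow]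
  field_simp
  ring

theorem boxLoc : BoxLoc := fun _ _ _ _ _ _ _ _ _ _ _ H _ _ hu hO _ hux hx hxZ hG => loc H hu rfl hO hux hx hxZ hG

theorem boxCon : BoxCon := by
  intro p M X _ _ Γ b D S _ σ H u hu hu1 hC x hux hx hxZ hG
  have hM := H.hM
  have hp : Fact p.Prime := ⟨hM.1⟩
  have hP := isPrime_of_isPModular hM
  have := Finite.of_surjective σ H.surj
  have Cx := ce H
  obtain ⟨j, hj'⟩ : ∃ j, u ^ p ^ j = 1 := (H.pg ⟨u, hu⟩).imp fun _ e => congrArg Subtype.val e
  obtain ⟨j', -, hj⟩ := (Nat.dvd_prime_pow hM.1).1 (orderOf_dvd_of_pow_eq_one hj')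
  -- a block of `C(u)` which induces `b`
  obtain ⟨β, hβ, hind⟩ : ∃ β : Set (IrrCharacter (centralizer ({u} : Set X))), IsPBlock M β ∧
      IsInducedBlock M (centralizer ({u} : Set X)) β b := by
    obtain ⟨g, hg, P, rfl⟩ := H.hD
    obtain ⟨w, hw, rfl⟩ := hu
    obtain ⟨χ, hχ, h0⟩ := H648.HeightForm.exists_height_zero (p := p) H.hb
    rw [Basic.isPBlock_eq_blockOf H.hb hχ]
    exact BZ.T.exists_ind hM χ ⟨j', hj⟩ ⟨g, mem_centralizer_singleton_iff.2 (mem_centralizer_singleton_iff.1 w.2).symm⟩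
      (by rw [← orderOf_coe]; exact H614.Spin.isPRegular_of_isDefectClass hM H.hb hg)
      (ne_zero_of_not_memLocalIdeal ((S0927.result p M hM b H.hb g hg P w hw).1 χ hχ h0))
  obtain ⟨U, hU, hn, hr⟩ := hC
  have hj2 : σ u ^ p ^ j = 1 := by rw [← map_pow, hj', map_one]
  obtain ⟨R, hR, hRm⟩ := exists_plift (p := p) Cx.cen (hU.to_inf_left (K := centralizer {σ u}))
  have h1 : ∀ r ∈ R, Commute u r := fun r hr => by
    have h4 : Commute (σ u) (σ r) := (mem_centralizer_singleton_iff.1 ((hRm r).1 hr).1.2).symm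
    exact commute_of_pows Cx.cen h4 (comm_pow_order_left Cx.cen h4 hj2) (pow_orderOf_eq_one _)
      (cop_of_reg (Cx.reg (map_comm_eq_one h4)) j)
  have h2 : ∀ c, Commute u c → ∀ r ∈ R, c * r * c⁻¹ ∈ R := fun c hc r hr => by
    obtain ⟨⟨h4, h5⟩, k, hk⟩ := (hRm r).1 hr
    refine (hRm _).2 ⟨?_, k, by rw [conj_pow, hk, mul_one, mul_inv_cancel]⟩
    rw [map_mul, map_mul, map_inv]
    have h6 : σ c ∈ centralizer {σ u} := mem_centralizer_singleton_iff.2 (hc.map σ).symm
    exact ⟨hn _ (hc.map σ) _ h4, Subgroup.mul_mem _ (Subgroup.mul_mem _ h6 h5) (Subgroup.inv_mem _ h6)⟩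
  have h3 : ∀ g : S, Commute (σ u) g → (∀ r ∈ R, Commute (σ r) g) → ¬ p ∣ orderOf g → g = 1 := fun g h6 h4 h5 => by
    refine hr g (fun v hv => ?_) h5
    refine mem_centralizer_iff.1 (S0028.result p (zpowers (σ u)) (zpowers g) U (isPGroup_zpowers hj2) (by
        rw [Nat.card_zpowers]
        exact (hp.out.coprime_iff_not_dvd.2 h5).symm) hU
      (fun d hd => mem_centralizer_iff.2 fun w hw => commute_of_mem_zpowers (commute_of_mem_zpowers h6 hd).symm hw)
      (zpowers_le.2 (mem_normalizer_fintype (hn _ (Commute.refl _)))) (zpowers_le.2 (mem_normalizer_fintype (hn g h6)))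
      (fun v hv => mem_centralizer_iff.2 fun w hw => commute_of_mem_zpowers (Commute.symm ?_) hw) (mem_zpowers g)) v hv
    obtain ⟨k, hk⟩ := pelt_of_mem hU hv.1
    obtain ⟨a, rfl, ha⟩ := exists_p_lift Cx.surj hk
    exact h4 a ((hRm a).2 ⟨⟨hv.1, mem_centralizer_singleton_iff.2
      (mem_centralizer_iff.1 hv.2 _ (mem_zpowers _)).symm⟩, ha⟩)
  refine boxLoc p M X Γ b D S σ H u 0 ⟨j', hj⟩ (fun ψ hψ => Or.inl ?_) x hux hx hxZ hG ?_
  · let C := centralizer ({u} : Set X)
    let τ := (σ.comp C.subtype).rangeRestrict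
    have hτ : ∀ z ∈ τ.ker, (z : X) ∈ center X := fun z hz => H.ker.le (congrArg Subtype.val (MonoidHom.mem_ker.1 hz))
    have Cτ : BZ.T.Ce p τ := ⟨MonoidHom.rangeRestrict_surjective _,
      fun z hz => mem_center_iff.2 fun g => Subtype.ext (mem_center_iff.1 (hτ z hz) g),
      fun h => H.sit.ndvd (h.trans (card_dvd_of_injective ((C.subtype.comp τ.ker.subtype).codRestrict (center X)
        fun n => hτ _ n.2) fun a b e => Subtype.ext (Subtype.ext (congrArg (fun t : center X => (t : X)) e))))⟩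
    have h4 : RegTriv p ((R.subgroupOf C).map τ) := by
      rintro ⟨_, g, rfl⟩ h4 h5
      refine Subtype.ext (h3 _ (Commute.map (mem_centralizer_singleton_iff.1 g.2).symm σ) (fun r hr' => ?_)
        (by rwa [← orderOf_coe] at h5))
      exact congrArg Subtype.val (h4 _ ⟨⟨r, mem_centralizer_singleton_iff.2 (h1 r hr').symm⟩, hr', rfl⟩).eq
    have h5 : ∀ φ : IrrCharacter C, BZ.T.Top p M (φ : C → ℂ) := fun φ => by
      obtain ⟨E, hE⟩ := H400.BlockDefect.exists_defectGroup hM (Basic.isPBlock_blockOf φ)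
      exact Cτ.top_of_rt hM hE (h4.mono (map_mono ((Lib.Cores.le_pCore (N := R.subgroupOf C)
        ⟨fun a ha c => h2 c (mem_centralizer_singleton_iff.1 c.2).symm _ ha⟩ hR.comap_subtype).trans
        (S0912.result p M hM _ (Basic.isPBlock_blockOf φ) E hE))))
    obtain ⟨ξ, hξ⟩ := Basic.isPBlock_nonempty hβ
    obtain ⟨θ, hθ⟩ := Basic.isPBlock_nonempty H.hb
    have h6 : BZ.T.Ov τ (ξ : C → ℂ) ψ := fun z hz => by
      have h7 := hind.2.2 ξ hξ θ hθ z
      have h8 : {h : C | IsConj (z : X) (h : X)} = {z} := by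
        ext h
        rw [Set.mem_singleton_iff, Set.mem_ofPred, isConj_iff]
        refine ⟨fun ⟨g, e⟩ => Subtype.ext ?_, fun e => ⟨1, by rw [e, one_mul, inv_one, mul_one]⟩⟩
        rw [← e, mem_center_iff.1 (hτ z hz) g, mul_inv_cancel_right]
      rw [inducedCentralChar, h8, finsum_mem_singleton, BZ.T.omega_cen _ (hτ z hz)] at h7
      rw [Loc.root_eq hM (Cτ.reg hz) (BZ.T.cen_root ξ.2 (Cτ.cen hz))
        (orderOf_coe z ▸ BZ.T.cen_root θ.2 (hτ z hz)) h7,
        div_eq_div_iff (isIrr_apply_one_ne_zero θ.2) (isIrr_apply_one_ne_zero ψ.2), hψ θ hθ z (hτ z hz)]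
    rw [← Basic.blockOf_eq_of_sameBlock (Cτ.same hM ⟨_, hR.comap_subtype.map τ, h4⟩ (h5 ξ) (h5 ψ) h6),
      ← Basic.isPBlock_eq_blockOf hβ hξ]
    exact hind
  · have h4 : u ∈ centralizer ({u, x} : Set X) := mem_centralizer_iff.2 fun g hg => by
      rcases hg with rfl | rfl
      exacts [rfl, hux.symm]
    rw [zero_add, pow_one]
    refine Dvd.dvd.trans ?_ (orderOf_dvd_natCard _ h4)
    rw [hj]
    refine dvd_pow_self p fun e => hu1 ?_
    rw [e, pow_zero] at hj
    exact orderOf_eq_one_iff.1 hj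

end Cfsg.Agent.OM.Lo
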