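import Cfsg.Agent.OM.Lo.Desc
import Cfsg.Agent.KM.Tor.Cnt3
import Cfsg.Agent.TO.CyB
import Cfsg.Agent.H645.Watanabe
import Cfsg.Agent.S4648
import Cfsg.Agent.S4608

/-!
# OM (S4894): blocks of rank one with a non-cyclic defect group of order `25` (helper57)

* `N5a.rank_st`, `N5a.count` : the ranks of the subsections and the number of characters, defect groups of order `p ^ 2`;
* `N5a.sq_dvd` : the consequence of the descent;  `boxN5a`.
-/

set_option autoImplicit false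
set_option linter.unusedSectionVars false

namespace Cfsg.Agent.OM.Lo

open Cfsg Subgroup MulAction Cfsg.Agent.TO Cfsg.Agent.TO.Cn Cfsg.Agent.KM.Tor Cfsg.Agent.H649 Cfsg.Agent.Blocks
  Cfsg.Agent.Characters.Core Cfsg.Agent.H644.CentralQuot Cfsg.Agent.H652.DoubleCount

namespace N5a

variable {p : ℕ} [hp : Fact p.Prime] {M : Ideal AlgInt} {G : Type} [Group G] [Fintype G] {b : Set (IrrCharacter G)}
  {D : Subgroup G} {θ : G → ℂ} {z : G}

theorem rank_of (hb : b.Nonempty) (h : R1 p b) : blockRank p b = 1 := by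
  obtain ⟨χ, hχ⟩ := hb
  have h1 : IsPRegular p (1 : G) := by rw [IsPRegular, orderOf_one]; exact hp.out.not_dvd_one
  rw [blockRank, show Submodule.span ℂ (_ '' b) = Submodule.span ℂ {pRegularPart p (χ : G → ℂ)} from
    le_antisymm (Submodule.span_le.2 ?_) (Submodule.span_mono (Set.singleton_subset_iff.2 ⟨χ, hχ, rfl⟩))]
  · exact finrank_span_singleton fun e => isIrr_apply_one_ne_zero χ.2 ((if_pos h1).symm.trans (congrFun e 1))
  rintro _ ⟨ψ, hψ, rfl⟩
  refine Submodule.mem_span_singleton.2 ⟨(ψ : G → ℂ) 1 / (χ : G → ℂ) 1, funext fun x => ?_⟩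
  by_cases hx : IsPRegular p x
  · refine (congrArg (_ * ·) (if_pos hx)).trans (Eq.trans ?_ (if_pos hx).symm)
    rw [div_mul_eq_mul_div, mul_comm, h χ hχ ψ hψ x hx, mul_div_cancel_right₀ _ (isIrr_apply_one_ne_zero χ.2)]
  · exact (congrArg (_ * ·) (if_neg hx)).trans ((mul_zero _).trans (if_neg hx).symm)

theorem loc (h : Can p M b D θ) (hz : z ∈ D) {H : Subgroup G} (hH : H = Ce (zpowers z)) :
    ∃ c : Set (IrrCharacter H), IsInducedBlock M H c b ∧ Can p M c (D.subgroupOf H) (fun x => θ x) ∧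
      blockRank p (bP p M ⟨D, Can.root M D θ⟩ z).2 = blockRank p c := by
  subst hH
  have := h.prime
  have hQ := zpowers_le.2 hz
  have hDQ : D ≤ Ce (zpowers z) := fun d hd => mem_centralizer_iff.2 fun q hq => h.comm q (hQ hq) d hd
  obtain ⟨f, ⟨f1, f2⟩, -⟩ := S4655.result p M h.hM D _ _ h.hmax.1.1 hQ
  have f3 := (S4658.result p M h.hM D _ _ f h.hmax.1.1 ⟨h.pg.to_le hQ, f1⟩ f2 b h.hb).1 h.hmax.1
  obtain ⟨k, k1, k2⟩ := exists_locIdx_eq h.hM h.hmax.1.1 hDQ f2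
  refine ⟨f, (isBrauerPairOf_iff_isInducedBlock h.hM h.hb f3.1.1 f1).1 f3, (Can.of_tst h.hM k1
    (H644.isDefectGroup_of_isMaximalBrauerPair h.hM (isMaximal_local h.hM h.hmax hDQ f2 k1))
    (fun d hd => (mem_Ce_sub hDQ d).2 (h.ab hd)) ?_ (fun d hd => h.triv d hd) fun g hg => ?_).1, ?_⟩
  · rw [← locIdx_test, k2]
    exact h.tst
  · exact h.zero _ fun h1 => hg ((mem_Ce_sub hDQ g).2 h1)
  · rw [bP_eq h.hM (a := ⟨D, Can.root M D θ⟩) h.hmax.1.1 hz (b := ⟨zpowers z, f⟩) rfl f2]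

theorem in_sub {H : Subgroup G} (hD : D ≤ H) (h0 : ∀ g, g ∉ H → θ g = 0) (t : H) :
    t ∈ In (D.subgroupOf H) (fun y => θ y) ↔ (t : G) ∈ In D θ := by
  have h1 : ∀ y : G, t * y * (t : G)⁻¹ ∈ H → y ∈ H := fun y hy => by
    simpa [mul_assoc] using mul_mem (mul_mem (inv_mem t.2) hy) t.2
  refine ⟨fun h => mem_In.2 ⟨fun y => ⟨fun hy => ((mem_In.1 h).1 ⟨y, h1 y (hD hy)⟩).1 hy, fun hy => ((mem_In.1 h).1 ⟨y, hD hy⟩).2 hy⟩,
    fun g => ?_⟩, fun h => mem_In.2 ⟨fun y => (mem_In.1 h).1 y, fun g => (mem_In.1 h).2 g⟩⟩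
  by_cases hg : g ∈ H
  · exact (mem_In.1 h).2 ⟨g, hg⟩
  · rw [h0 g hg, h0 _ fun e => hg (h1 g e)]

variable {c : Set (IrrCharacter (Cu z))}

/-- the rank of a subsection -/
theorem rank_st (h : Can p M b D θ) (hc : Nat.card D = p ^ 2) (hz : z ∈ D) (ho : orderOf z = p)
    (k : Can p M c (D.subgroupOf (Cu z)) fun y => θ y) : blockRank p c = st D θ z ∧ st D θ z ∣ p - 1 := by
  have := Desc.uu_normal (u := z)
  have := Fintype.ofFinite (Cu z)
  have h1 : D ≤ Cu z := h.ab.trans (Ce_le_Cu hz)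
  have h2 : IsPGroup p (Desc.Uu z) := IsPGroup.of_card (Desc.card_uu.trans (ho.trans (pow_one p).symm))
  obtain ⟨θ', k', e⟩ := Cy.quot_can k (boxCAN1 _ p M c _ _ k) Desc.uu_le h2
  have h3 : Nat.card ((D.subgroupOf (Cu z)).map (QuotientGroup.mk' (Desc.Uu z))) = p ^ 1 := by
    have h4 := relIndex_mul_relIndex ⊥ (Desc.Uu z) (D.subgroupOf (Cu z)) bot_le fun y hy => zpowers_le.2 hz hy
    rw [relIndex_bot_left, relIndex_bot_left, Desc.card_uu, ho, Nat.card_congr (subgroupOfEquivOfLe h1).toEquiv, hc,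
      ← QuotientGroup.ker_mk' (Desc.Uu z), relIndex_ker, sq] at h4
    rw [pow_one]
    exact Nat.eq_of_mul_eq_mul_left hp.out.pos h4
  have h4 : (Ce (D.subgroupOf (Cu z))).relIndex (In (D.subgroupOf (Cu z)) fun y => θ y) = st D θ z := by
    rw [show Ce (D.subgroupOf (Cu z)) = (Ce D).subgroupOf (Cu z) from Subgroup.ext (mem_Ce_sub h1),
      show (In (D.subgroupOf (Cu z)) fun y => θ y) = (In D θ ⊓ Cu z).subgroupOf (Cu z) from Subgroup.ext fun t =>
        (in_sub h1 (fun g hg => h.zero g fun e => hg (Ce_le_Cu hz e)) t).trans (and_iff_left t.2).symm,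
      relIndex_subgroupOf inf_le_right]
    rfl
  have h5 : IsCyclic ((D.subgroupOf (Cu z)).map (QuotientGroup.mk' (Desc.Uu z))) := isCyclic_of_prime_card (h3.trans (pow_one p))
  exact ⟨(blockRank_defl h.hM Desc.uu_le h2 k.hb).symm.trans
      (S4695.result p M h.hM _ h5 1 le_rfl h3 _ k'.hb k'.hD _ k'.ind _ (Cy.mem_In_iff k') _ (e.trans h4)),
    (S4696.result p M h.hM _ h5 1 le_rfl h3 _ k'.hb k'.hD _ k'.ind _ (Cy.mem_In_iff k') _ (e.trans h4)).1⟩

/-- the stabiliser of the local block -/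
theorem fus (h : Can p M b D θ) (hz : z ∈ D) (k : Can p M c (D.subgroupOf (Cu z)) fun y => θ y) (g : Desc.Nu z)
    (e : blkMap (Desc.ac z g) c = c) : ∃ s ∈ Cu z, s * g ∈ In D θ := by
  obtain ⟨s, h1, h2⟩ := k.conj (e ▸ k.map (Desc.ac z g))
  have h3 : ∀ y : Cu z, ((s * Desc.ac z g y * s⁻¹ : Cu z) : G) = s * g * y * ((s : G) * g)⁻¹ := fun y => by
    rw [coe_mul, coe_mul, Desc.ac_coe, coe_inv]; group
  have h4 : D ≤ Cu z := h.ab.trans (Ce_le_Cu hz)
  have h5 := mem_normalizer_iff.1 (Desc.nu_le (mul_mem (Desc.cu_le s.2) g.2))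
  have h6 : ∀ y : Cu z, (s : G) * g * y * ((s : G) * g)⁻¹ ∈ D ↔ (y : G) ∈ D := fun y => by
    rw [← h3, ← mem_subgroupOf, h1, mem_map_equiv, MulEquiv.symm_apply_apply, mem_subgroupOf]
  refine ⟨s, s.2, mem_In.2 ⟨fun y => ⟨fun hy => (h6 ⟨y, (h5 y).2 (h4 hy)⟩).1 hy, fun hy => (h6 ⟨y, h4 hy⟩).2 hy⟩, fun y => ?_⟩⟩
  by_cases hy : y ∈ Cu z
  · have h8 := h2 (Desc.ac z g ⟨y, hy⟩)
    rwa [h3, MulEquiv.symm_apply_apply] at h8
  · rw [h.zero _ fun e => hy (Ce_le_Cu hz e), h.zero _ fun e => hy ((h5 y).2 (Ce_le_Cu hz e))]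

attribute [local instance] Desc.ma

/-- **the consequence of the descent** -/
theorem sq_dvd (h : Can p M b D θ) (hR : R1 p b) (hc : Nat.card D = p ^ 2) (hz : z ∈ D) (ho : orderOf z = p) :
    st D θ z ∣ p - 1 ∧ ∃ n, st D θ z ≤ n ∧ n ∣ p - 1 ∧ st D θ z * n ∣ (Ce D).relIndex (In D θ) := by
  have := h.prime
  have := Fintype.ofFinite (Cu z)
  have := Fintype.ofFinite (Desc.Nu z)
  have := Desc.uu_normal (u := z)
  have := finite_irr (G := Cu z)
  obtain ⟨c, hi, k⟩ := h.loc hz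
  obtain ⟨h1, h2⟩ := rank_st h hc hz ho k
  obtain ⟨A, h3, h4, -, h5⟩ := Desc.cc h.hM h.hD hR hc ho hi
  rw [h1] at h4
  obtain ⟨ψ, hψ⟩ := Set.nonempty_of_ncard_ne_zero (h4.trans_ne (st_pos D θ z).ne')
  have h6 : ∀ g : Desc.Nu z, (g : G) ∈ Cu z → ∀ ξ : IrrCharacter (Cu z), g • ξ = ξ := fun g hg ξ =>
    inv_smul_eq_iff.1 (Subtype.ext ((Desc.ma_inv g ξ).symm.trans (funext fun y => Basic.irr_conj ξ.2 y ⟨g, hg⟩))) |>.symm
  set N := (In D θ ⊓ Desc.Nu z).subgroupOf (Desc.Nu z)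
  have h7 : ((Cu z).subgroupOf (Desc.Nu z)).relIndex N = (Cu z).relIndex (In D θ ⊓ Desc.Nu z) := relIndex_subgroupOf inf_le_right
  refine ⟨h2, (Cu z).relIndex (In D θ ⊓ Desc.Nu z), ?_, ?_, ?_⟩
  · rw [← h4, ← h7]
    refine (Set.ncard_le_ncard (t := orbit N ψ) fun ψ' hψ' => ?_).trans ?_
    · obtain ⟨g, rfl⟩ := h5 ψ hψ ψ' hψ'
      obtain ⟨s, h8, h9⟩ := fus h hz k g (Basic.isPBlock_eq_of_mem (isPBlock_blkMap k.hb) k.hb ⟨ψ, h3 hψ, rfl⟩ (h3 hψ'))
      exact ⟨⟨⟨s, Desc.cu_le h8⟩ * g, h9, mul_mem (Desc.cu_le h8) g.2⟩, (mul_smul _ g ψ).trans (h6 _ h8 _)⟩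
    · rw [← index_stabilizer]
      exact Nat.le_of_dvd (Nat.pos_of_ne_zero index_ne_zero_of_finite) (index_dvd_of_le fun g hg => h6 g hg ψ)
  · have := normal_subgroupOf_of_le_normalizer (Desc.nu_le (u := z))
    obtain ⟨e, h8, h9⟩ := H904.SylOne.card_nc (P := zpowers z) ((Nat.card_zpowers z).trans ho)
    rw [show centralizer (zpowers z : Set G) = Cu z from (Cu_eq z).symm, ← card_mul_relIndex (Desc.cu_le (u := z))] at h9
    rw [← h7]
    exact (relIndex_dvd_index_of_normal _ _).trans (Nat.eq_of_mul_eq_mul_left Nat.card_pos h9 ▸ h8 :)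
  · rw [← inf_relIndex_right (Cu z), inf_left_comm, inf_of_le_left (Desc.cu_le (u := z)), st,
      relIndex_mul_relIndex _ _ _ (le_inf (Ce_le_In h) (Ce_le_Cu hz)) (inf_le_inf_left _ Desc.cu_le)]
    exact Dvd.intro _ (relIndex_mul_relIndex _ _ _ (le_inf (Ce_le_In h) ((Ce_le_Cu hz).trans Desc.cu_le)) inf_le_left)

variable [Fintype D] [DecidableEq D]

/-- **the number of characters** -/
theorem count (h : Can p M b D θ) (hc : Nat.card D = p ^ 2) (ho : ∀ z ∈ D, z ≠ 1 → orderOf z = p) :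
    (Ce D).relIndex (In D θ) * Nat.card b =
      (Ce D).relIndex (In D θ) * blockRank p b + ∑ z ∈ Finset.univ.erase (1 : D), st D θ z * st D θ z := by
  have := h.prime
  have h1 := H645.TraceForm.card_eq h.hM (a := ⟨D, Can.root M D θ⟩) h.hmax
    (H645.FusCount.ctrl_of_abelian h.hM (a := ⟨D, Can.root M D θ⟩) h.hmax h.comm)
  rw [show H645.FusCount.stab ⟨D, Can.root M D θ⟩ = In D θ from
      Subgroup.ext fun x => (conjIdx_eq_iff h.he x).trans (h.mem_In_iff x).symm,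
    eq_inv_mul_iff_mul_eq₀ card_ne_zero_complex, ← Finset.add_sum_erase _ _ (Finset.mem_univ (1 : D)),
    H645.Watanabe.rank_eq h.hM (a := ⟨D, Can.root M D θ⟩) h.hmax h.comm (1 : D).2 fun t _ => by simp,
    Finset.sum_congr rfl fun (z : D) hz => by
      obtain ⟨c, -, k, e⟩ := loc h z.2 (Cu_eq (z : G))
      rw [e, (rank_st h hc z.2 (ho z z.2 fun e => Finset.ne_of_mem_erase hz (Subtype.ext e)) k).1, ← st_mul h z.2,
        Nat.cast_mul, mul_assoc], ← Finset.mul_sum,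
    show In D θ ⊓ centralizer {((1 : D) : G)} = In D θ from
      inf_of_le_left fun x _ => mem_centralizer_singleton_iff.2 (by simp), ← card_mul_relIndex (Ce_le_In h), Nat.cast_mul,
    mul_assoc, mul_assoc, ← mul_add] at h1
  exact_mod_cast mul_left_cancel₀ card_ne_zero_complex h1

/-- sums over the orbits -/
theorem dvd_sum (h : Can p M b D θ) (F : ℕ → ℕ) :
    (Ce D).relIndex (In D θ) ∣ ∑ z ∈ Finset.univ.erase (1 : D), st D θ z * F (st D θ z) := by
  classical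
  let := act D θ
  have := Fintype.ofFinite (orbitRel.Quotient (In D θ) D)
  rw [← Finset.sum_fiberwise (g := fun z : D => (Quotient.mk'' z : orbitRel.Quotient (In D θ) D))]
  refine Finset.dvd_sum fun ω _ => ?_
  induction ω using Quotient.inductionOn' with | h x => ?_
  have h1 : ∀ z : D, (Quotient.mk'' z : orbitRel.Quotient (In D θ) D) = Quotient.mk'' x ↔ z ∈ orbit (In D θ) x := fun z =>
    Quotient.eq''.trans orbitRel_apply
  have h2 := orb_st h x
  have h3 : 0 < Nat.card (orbit (In D θ) x) := Nat.card_pos_iff.2 ⟨⟨⟨x, mem_orbit_self x⟩⟩, inferInstance⟩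
  have h4 : ∀ z ∈ orbit (In D θ) x, z = 1 ↔ x = 1 := by
    rintro _ ⟨t, rfl⟩
    exact EmbeddingLike.map_eq_one_iff (f := D.normalizerMonoidHom _)
  by_cases hx : x = 1
  · rw [Finset.sum_eq_zero fun z hz => (Finset.ne_of_mem_erase (Finset.mem_filter.1 hz).1
      ((h4 z ((h1 z).1 (Finset.mem_filter.1 hz).2)).2 hx)).elim]
    exact dvd_zero _
  rw [Finset.sum_congr (s₂ := Finset.univ.filter (· ∈ orbit (In D θ) x)) (g := fun _ => st D θ x * F (st D θ x))
    (Finset.ext fun z => by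
      rw [Finset.mem_filter, Finset.mem_filter, h1, Finset.mem_erase]
      exact and_congr_left fun hz => and_iff_right (mt (h4 z hz).1 hx))
    fun z hz => by rw [Nat.eq_of_mul_eq_mul_left h3 (show _ * st D θ z = _ * st D θ x by
      rw [h2, ← orb_st h z, (orbit_eq_iff.2 (Finset.mem_filter.1 hz).2 :)])],
    Finset.sum_const, smul_eq_mul, ← h2, ← Fintype.card_subtype, ← Nat.card_eq_fintype_card, ← mul_assoc]
  exact dvd_mul_right _ _

theorem arith {ι : Type} (T : Finset ι) (e : ι → ℕ) {m k : ℕ} (hT : T.card = 24) (hk : k % 3 = 2)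
    (h1 : ∀ i ∈ T, e i ∣ 4 ∧ ∃ n, e i ≤ n ∧ n ∣ 4 ∧ e i * n ∣ m) (h2 : m * k = m * 1 + ∑ i ∈ T, e i * e i)
    (h3 : ∀ F : ℕ → ℕ, m ∣ ∑ i ∈ T, e i * F (e i)) : k ≤ 5 := by
  have h4 : ∀ x : ℕ, x ∣ 4 → x = 1 ∨ x = 2 ∨ x = 4 := fun x hx => by
    have := Nat.le_of_dvd (by norm_num) hx
    interval_cases x <;> omega
  obtain ⟨W, hW⟩ := h3 fun x => 4 / x
  obtain ⟨V, hV⟩ := h3 fun x => (x + 2 * (4 / x)) / 3
  rw [Finset.sum_congr rfl fun i hi => Nat.mul_div_cancel' (h1 i hi).1, Finset.sum_const, hT, smul_eq_mul] at hW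
  have h5 : 3 * ∑ i ∈ T, e i * ((e i + 2 * (4 / e i)) / 3) = ∑ i ∈ T, e i * e i + ∑ _i ∈ T, 8 := by
    rw [Finset.mul_sum, ← Finset.sum_add_distrib]
    exact Finset.sum_congr rfl fun i hi => by rcases h4 _ (h1 i hi).1 with h | h | h <;> rw [h] <;> rfl
  rw [hV, Finset.sum_const, hT, smul_eq_mul] at h5
  have h6 : 0 < m := Nat.pos_of_ne_zero (by rintro rfl; omega)
  have h7 : 3 * V + 1 = k + 2 * W := Nat.eq_of_mul_eq_mul_left h6 (by
    rw [mul_add, mul_add, mul_left_comm, h5, mul_left_comm, ← hW, h2]; ring)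
  have h8 : m = 96 ∨ m = 24 ∨ m = 6 := by
    have h9 : W ≤ 96 := Nat.le_of_dvd (by norm_num) (Dvd.intro_left m hW.symm)
    have h10 : W % 3 = 1 := by omega
    interval_cases W <;> omega
  have h9 : 6 * ∑ i ∈ T, e i * e i ≤ ∑ _i ∈ T, m := by
    rw [Finset.mul_sum]
    refine Finset.sum_le_sum fun i hi => ?_
    obtain ⟨h9, n, h10, h11, h12⟩ := h1 i hi
    rcases h4 _ h9 with h | h | h <;> rcases h4 _ h11 with rfl | rfl | rfl <;> rw [h] at h10 h12 ⊢ <;> omega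
  rw [Finset.sum_const, hT, smul_eq_mul] at h9
  rcases h8 with rfl | rfl | rfl <;> omega

end N5a

open N5a

/-- **rank one, defect groups of order `25`** -/
theorem boxN5a : BoxN5a := fun M hM G _ _ B D hB hD hR hc hn n h1 h2 h3 => by
  classical
  have : Fact (Nat.Prime 5) := ⟨hM.1⟩
  have := hM.2.1.isPrime
  have := Fintype.ofFinite G
  have := Fintype.ofFinite D
  have := finite_irr (G := G)
  replace hc : Nat.card D = 5 ^ 2 := hc
  obtain ⟨θ, h⟩ := boxCAN0 G 5 M B D hM hB hD fun x hx y hy =>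
    congrArg Subtype.val ((IsPGroup.isMulCommutative_of_card_eq_prime_sq hc).is_comm.comm ⟨y, hy⟩ ⟨x, hx⟩)
  have ho : ∀ z ∈ D, z ≠ 1 → orderOf z = 5 := fun z hz e => by
    obtain ⟨i, h4, h5⟩ := (Nat.dvd_prime_pow hM.1).1 (hc ▸ orderOf_dvd_natCard (⟨z, hz⟩ : D))
    interval_cases i
    · exact (e (congrArg Subtype.val (orderOf_eq_one_iff.1 h5))).elim
    · exact (orderOf_coe (⟨z, hz⟩ : D)).trans h5
    · exact (hn (isCyclic_of_orderOf_eq_card _ (h5.trans hc.symm))).elim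
  have hr := rank_of (Basic.isPBlock_nonempty hB) hR
  have h4 : Nat.card B % 3 = 2 := by
    rw [finsum_mem_eq_finite_toFinset_sum _ B.toFinite] at h2
    have h5 : ∑ χ ∈ B.toFinite.toFinset, ((charDegree (χ : G → ℂ) / n) ^ 2 + if charDegree (χ : G → ℂ) = 3 * n then 1 else 0) ≡
        ∑ _χ ∈ B.toFinite.toFinset, 1 [MOD 3] := Nat.ModEq.sum fun χ hχ => by
      have h6 := h2 ▸ Finset.single_le_sum (f := fun χ : IrrCharacter G => (charDegree (χ : G → ℂ) / n) ^ 2)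
        (fun _ _ => Nat.zero_le _) hχ
      have h7 := Basic.charDegree_pos χ.2
      obtain ⟨d, hd⟩ := h1 χ (B.toFinite.mem_toFinset.1 hχ)
      have h8 : 0 < n := Nat.pos_of_ne_zero (by rintro rfl; omega)
      beta_reduce at h6
      rw [hd, Nat.mul_div_cancel_left _ h8] at h6 ⊢
      have h9 : d ≤ 5 := by nlinarith
      rw [hd] at h7
      interval_cases d <;> split_ifs <;> first | decide | omega
    rw [Finset.sum_add_distrib, h2, ← Finset.card_filter, ← Finset.card_eq_sum_ones, ← Set.ncard_eq_toFinset_card,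
      ← Set.ncard_coe_finset, Finset.coe_filter] at h5
    simp only [Set.Finite.mem_toFinset, h3] at h5
    exact (Nat.card_coe_set_eq B).symm ▸ h5.symm
  have h5 := arith (Finset.univ.erase (1 : D)) (fun z => st D θ z)
    (by rw [Finset.card_erase_of_mem (Finset.mem_univ _), Finset.card_univ, ← Nat.card_eq_fintype_card, hc]; rfl) h4
    (fun z hz => sq_dvd h hR hc z.2 (ho z z.2 fun e => Finset.ne_of_mem_erase hz (Subtype.ext e))) (hr ▸ count h hc ho) (dvd_sum h)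
  rcases h5.lt_or_eq with h6 | h6
  · have h7 := (S4648.result 5 M hM B hB D hD (by rintro rfl; simp at hc) hr (by omega)).2.2
    omega
  · have h7 := S4608.result 5 M hM B hB D hD hr h6
    omega

theorem boxN5a_of (_ : BoxDesc) : BoxN5a := boxN5a

end Cfsg.Agent.OM.Lo
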