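import Cfsg.Agent.OM.Lo.Ov
import Cfsg.Agent.OM.Lo.N5a

/-!
# OM (S4894): defect groups of order `25` (helper43)
-/

set_option autoImplicit false
set_option linter.unusedSectionVars false
set_option maxHeartbeats 400000

namespace Cfsg.Agent.OM.Lo

open Cfsg Subgroup Cfsg.Agent.Characters.Core Cfsg.Agent.Blocks.Basic Cfsg.Agent.Blocks.ExtendedFMT

variable {M : Ideal AlgInt} {X : Type} [Group X] [Finite X] {Γ : Subgroup (MulAut X)} {b : Set (IrrCharacter X)}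
  {D : Subgroup X}

namespace N5

theorem three (hA : BoxN5a) (hM : IsPModular 5 M) (hb : IsPBlock M b) (hD : IsDefectGroup 5 M b D) (h1 : R1 5 b)
    (h2 : Nat.card D = 25) (h3 : ¬ IsCyclic D) {n : ℕ} (hn : 0 < n) (h4 : ∀ χ ∈ b, n ∣ charDegree (χ : X → ℂ))
    (h5 : ∑ᶠ χ ∈ b, (charDegree (χ : X → ℂ) / n) ^ 2 = 25) :
    {χ ∈ b | charDegree (χ : X → ℂ) = 3 * n}.ncard = 0 ∨ {χ ∈ b | charDegree (χ : X → ℂ) = 3 * n}.ncard = 2 := by
  classical
  have := finite_irr (G := X)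
  have h6 := hA M hM X b D hb hD h1 h2 h3 n h4 h5
  lift b to Finset (IrrCharacter X) using b.toFinite with F
  have h7 := (Finset.card_nsmul_le_sum (F.filter fun χ : IrrCharacter X => charDegree (χ : X → ℂ) = 3 * n)
    (fun χ => (charDegree (χ : X → ℂ) / n) ^ 2) 9 fun χ hχ => by
      rw [(Finset.mem_filter.1 hχ).2, Nat.mul_div_cancel _ hn]
      decide).trans
    (Finset.sum_le_sum_of_subset (Finset.filter_subset _ F))
  rw [← finsum_mem_coe_finset, h5, smul_eq_mul, ← Set.ncard_coe_finset, Finset.coe_filter] at h7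
  change {χ ∈ (F : Set (IrrCharacter X)) | charDegree (χ : X → ℂ) = 3 * n}.ncard * 9 ≤ 25 at h7
  omega

theorem lift5 {l : ℕ} {d : IrrCharacter X → Fin l → ℕ} {φ : Fin l → X → ℂ} (h : Dec 5 Γ b D d φ) {S : Type} [Group S]
    {σ : X →* S} (H : Hyp 5 M Γ b D σ) (hi : (Inn X).relIndex Γ ∣ 2) (h2 : Nat.card D = 25) (i : Fin l)
    (he : Even {χ ∈ b | Odd (d χ i) ∧ ∑ j, d χ j = 3}.ncard) : ∃ θ, Lift 5 Γ b θ := by
  have := finite_irr (G := X)
  have h1 := Nat.le_of_dvd two_pos (h.dvd.trans hi)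
  have h3 := h.odd_of (by rw [h2]; decide) i
  refine h.lift H (.inr rfl) h2 (r := 1) hi i ?_
  have h4 : {χ ∈ b | Odd (d χ i * ∑ j, d χ j)} =
      {χ ∈ b | d χ = Pi.single i 1} ∪ {χ ∈ b | Odd (d χ i) ∧ ∑ j, d χ j = 3} := by
    ext χ
    refine ⟨fun ⟨hχ, ho⟩ => ?_, ?_⟩
    · obtain ⟨h5, h6⟩ := Nat.odd_mul.1 ho
      have h7 := h.ndvd_sum H.hM H.hb H.hD h2 hχ
      have h8 := fun j => (h.term_le hχ j).trans h2.le
      have h9 : ∑ j, d χ j < 7 := by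
        by_contra h9
        have h12 := Finset.sum_le_card_nsmul Finset.univ (fun j => d χ j) 3 fun j _ => by nlinarith [h8 j]
        rw [Finset.card_univ, Fintype.card_fin, smul_eq_mul] at h12
        omega
      have h10 := Nat.odd_iff.1 h6
      rcases (by omega : ∑ j, d χ j = 1 ∨ ∑ j, d χ j = 3) with h11 | h11
      · exact .inl ⟨hχ, single_of_sum h11 h5.pos.ne'⟩
      · exact .inr ⟨hχ, h5, h11⟩
    · rintro (⟨hχ, e⟩ | ⟨hχ, h5, e⟩)
      · exact ⟨hχ, by simp [e]⟩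
      · exact ⟨hχ, h5.mul (e ▸ by decide)⟩
  rw [h4, Set.ncard_union_eq (Set.disjoint_left.2 fun χ h5 h6 => by
    have h7 := h6.2.2
    rw [h5.2] at h7
    simp at h7)] at h3
  exact (Nat.odd_add.1 h3).2 he

theorem eq_or {θ θ' ψ ψ' : IrrCharacter X} (h : ∀ x, (θ : X → ℂ) x + (θ' : X → ℂ) x = (ψ : X → ℂ) x + (ψ' : X → ℂ) x)
    (h1 : θ' ≠ θ) : ψ = θ ∨ ψ' = θ := by
  have := Fintype.ofFinite X
  by_contra h2
  push Not at h2
  have h3 := congrArg (classInner · (θ : X → ℂ)) (show (θ : X → ℂ) + θ' = ψ + ψ' from funext h)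
  simp only [classInner_add_left, classInner_irr_self θ.2, classInner_irr_ne θ'.2 θ.2 fun e => h1 (Subtype.ext e),
    classInner_irr_ne ψ.2 θ.2 fun e => h2.1 (Subtype.ext e), classInner_irr_ne ψ'.2 θ.2 fun e => h2.2 (Subtype.ext e),
    add_zero] at h3
  exact one_ne_zero h3

end N5

open N5

/-- **defect groups of order `25`** -/
theorem boxN5_of (hD : BoxDec) (hA : BoxN5a) : BoxN5 := by
  intro M X _ _ Γ b D S _ σ H hi hz h2
  have := finite_irr (G := X)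
  obtain ⟨l, d, φ, h⟩ := hD 5 M H.hM X Γ H.sit.inn b D H.hb H.hD H.one
  rcases (Nat.dvd_prime Nat.prime_two).1 (h.dvd.trans hi) with rfl | rfl
  · obtain ⟨n, hn, -, h1⟩ := h.degree H.hM.1
    have h3 := h.row 0
    simp only [Fin.sum_univ_one] at h1 h3
    refine lift5 h H hi h2 0 ?_
    have h4 := three hA H.hM H.hb H.hD (h.r1 H.hM.1) h2 H.nc hn (fun χ hχ => h1 χ hχ ▸ Dvd.intro _ rfl)
      ((finsum_mem_congr rfl fun χ hχ => by rw [h1 χ hχ, Nat.mul_div_cancel_left _ hn, sq]).trans (h3.trans h2))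
    have h5 : {χ ∈ b | Odd (d χ 0) ∧ ∑ j, d χ j = 3} = {χ ∈ b | charDegree (χ : X → ℂ) = 3 * n} :=
      Set.ext fun χ => and_congr_right fun hχ => by
        rw [Fin.sum_univ_one, h1 χ hχ, mul_comm 3, Nat.mul_right_inj hn.ne']
        exact ⟨And.right, fun e => ⟨e ▸ by decide, e⟩⟩
    rw [h5]
    rcases h4 with e | e <;> rw [e] <;> decide
  obtain ⟨n, α, hn, -, h1, h3, h4, h5, G, _, _, ι, B, g, o⟩ := h.og H (by decide) hi hz
  have := finite_irr (G := G)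
  have := Fintype.ofFinite X
  have h6 : Nat.card (D.map ι) = 25 := (card_map_of_injective o.inj).trans h2
  have h7 := three hA H.hM o.blk o.dg o.r1 h6 (fun e => H.nc ((D.equivMapOfInjective ι o.inj).isCyclic.2 e))
    (by positivity) o.dvd (o.sum.trans h2)
  refine lift5 h H hi h2 0 ?_
  simp only [Fin.sum_univ_two]
  generalize hT : {χ ∈ B | charDegree (χ : G → ℂ) = 3 * (2 * n)} = T at h7
  generalize hE : {χ ∈ b | Odd (d χ 0) ∧ d χ 0 + d χ 1 = 3} = E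
  have mT : ∀ χ, χ ∈ T ↔ χ ∈ B ∧ charDegree (χ : G → ℂ) = 3 * (2 * n) := fun χ => hT ▸ Iff.rfl
  have mE : ∀ χ, χ ∈ E ↔ χ ∈ b ∧ Odd (d χ 0) ∧ d χ 0 + d χ 1 = 3 := fun χ => hE ▸ Iff.rfl
  have k0 : ∀ θ ∈ E, compIrr α θ ∉ E := fun θ hθ e => by
    obtain ⟨h8, h9, h10⟩ := (mE θ).1 hθ
    have h11 := ((mE _).1 e).2.1
    rw [(h4 θ h8).1, Nat.odd_iff] at h11
    rw [Nat.odd_iff] at h9
    omega
  have k1 : ∀ θ ∈ E, compIrr α θ ≠ θ := fun θ hθ e => k0 θ hθ (e.symm ▸ hθ)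
  have k2 : ∀ (χ : IrrCharacter G) (θ : IrrCharacter X),
      (∀ x, (χ : G → ℂ) (ι x) = (θ : X → ℂ) x + (θ : X → ℂ) (α x)) →
      charDegree (χ : G → ℂ) = 2 * charDegree (θ : X → ℂ) := fun χ θ e => by
    have h8 := e 1
    rw [map_one, map_one, irr_one_eq_charDegree χ.2, irr_one_eq_charDegree θ.2, ← two_mul] at h8
    exact_mod_cast h8
  have := Blocks.Local.isPrime_of_isPModular H.hM
  have : Nonempty (IrrCharacter G) := ⟨(isPBlock_nonempty o.blk).some⟩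
  choose! f f1 f2 using o.mov
  have k3 : ∀ θ ∈ E, f θ ∈ T := fun θ hθ => by
    obtain ⟨h8, -, h10⟩ := (mE θ).1 hθ
    refine (mT _).2 ⟨(f1 θ h8 (k1 θ hθ)).1, ?_⟩
    rw [k2 _ θ (f1 θ h8 (k1 θ hθ)).2, h3 θ h8, h10]
    ring
  have k4 := Set.ncard_le_ncard_of_injOn f k3 fun θ hθ ψ hψ e => by
    refine ((eq_or (θ' := compIrr α θ) (ψ := ψ) (ψ' := compIrr α ψ) (fun x => ?_) (k1 θ hθ)).resolve_right
      fun e' => k0 ψ hψ (e' ▸ hθ)).symm
    exact ((f1 θ ((mE θ).1 hθ).1 (k1 θ hθ)).2 x).symm.trans (e ▸ (f1 ψ ((mE ψ).1 hψ).1 (k1 ψ hψ)).2 x)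
  by_contra h8
  rw [Nat.not_even_iff_odd, Nat.odd_iff] at h8
  obtain ⟨θ, rfl⟩ := Set.ncard_eq_one.1 (by omega : E.ncard = 1)
  have hθ := Set.mem_singleton θ
  have h9 : T.ncard = 2 := by omega
  obtain ⟨χ, hχ, h10⟩ := Set.exists_ne_of_one_lt_ncard (h9 ▸ one_lt_two) (f θ)
  obtain ⟨h11, h12⟩ := (mT χ).1 hχ
  have h13 := ((mE θ).1 hθ).1
  obtain ⟨ψ, hψ, ⟨e, h14⟩ | ⟨e, h14⟩⟩ := o.low χ h11
  · have h15 : {χ ∈ B | ∀ x, (χ : G → ℂ) (ι x) = (ψ : X → ℂ) x} = T :=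
      Set.eq_of_subset_of_ncard_le (fun η hη => (mT η).2 ⟨hη.1, by
        rw [← h12, charDegree, charDegree, ← map_one ι, hη.2, h14]⟩) ((o.fix ψ hψ e).trans h9.symm).ge
    have h16 := (h15 ▸ k3 θ hθ : f θ ∈ {χ ∈ B | ∀ x, (χ : G → ℂ) (ι x) = (ψ : X → ℂ) x}).2
    have h17 : (ψ : X → ℂ) = θ + compIrr α θ := funext fun x => (h16 x).symm.trans ((f1 θ h13 (k1 θ hθ)).2 x)
    have h18 : ψ ≠ θ := fun e' => k1 θ hθ (e' ▸ e)
    have h19 := classInner_irr_ne ψ.2 θ.2 fun e' => h18 (Subtype.ext e')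
    rw [h17, classInner_add_left, classInner_irr_self θ.2,
      classInner_irr_ne (compIrr α θ).2 θ.2 fun e' => k1 θ hθ (Subtype.ext e'), add_zero] at h19
    exact one_ne_zero h19
  · have h15 := k2 χ ψ h14
    rw [h12, h3 ψ hψ] at h15
    have h16 : d ψ 0 + d ψ 1 = 3 := Nat.eq_of_mul_eq_mul_left (by positivity : 0 < 2 * n) (by linarith)
    refine h10 (f2 θ h13 (k1 θ hθ) χ ⟨h11, fun x => ?_⟩)
    by_cases h17 : Odd (d ψ 0)
    · rw [← show ψ = θ from (mE ψ).2 ⟨hψ, h17, h16⟩]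
      exact h14 x
    · rw [← show compIrr α ψ = θ from (mE _).2 ⟨h1 ψ hψ _ fun _ => rfl, by
        rw [(h4 ψ hψ).1, Nat.odd_iff]
        rw [Nat.odd_iff] at h17
        omega, by rw [(h4 ψ hψ).1, (h4 ψ hψ).2, add_comm, h16]⟩, h14, add_comm]
      exact congrArg (_ + ·) (congrFun (congrArg Subtype.val (h5 ψ)) x).symm

theorem boxN5 : BoxN5 := boxN5_of boxDec boxN5a

end Cfsg.Agent.OM.Lo
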