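import Cfsg.Agent.OM.Lo.N3
import Cfsg.Agent.TO.S1B

/-!
# OM (S4894): the block over a stable block of a subgroup of index two (helper43)

* `exists_two` : a cyclic extension of degree two;  `low` : a lower bound for the sum of the squares of the degrees;
* `Cv`, `exists_cv` : one block of rank one lies over `b`.
-/

set_option autoImplicit false
set_option linter.unusedSectionVars false
set_option maxHeartbeats 400000

namespace Cfsg.Agent.OM.Lo.Ovg

open Cfsg Subgroup Cfsg.Agent.Characters.Core Cfsg.Agent.Blocks.Basic Cfsg.Agent.OM.Lo.DecP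
open Cfsg.Agent.TO.S1 (cj cj_cases inv_iff ov_cj res_of_inv eq_of_moved deg_of_moved)
open scoped ComplexConjugate

section two

variable {X : Type} [Group X] {α : MulAut X} {y : X}

variable (α y) in
/-- the multiplication -/
def mul2 : X ⊕ X → X ⊕ X → X ⊕ X :=
  Sum.elim (fun a => Sum.elim (fun b => .inl (a * b)) fun b => .inr (a * b))
    fun a => Sum.elim (fun b => .inr (a * α b)) fun b => .inl (a * α b * y)

/-- the extension -/
@[reducible] def grp (h1 : ∀ x, α (α x) = y * x * y⁻¹) (h2 : α y = y) : Group (X ⊕ X) :=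
  @Group.ofLeftAxioms _ ⟨mul2 α y⟩ ⟨Sum.elim (fun a => .inl a⁻¹) fun a => .inr (y⁻¹ * (α a)⁻¹)⟩ ⟨.inl 1⟩
    (by
      rintro (a | a) (b | b) (c | c)
      · exact congrArg Sum.inl (mul_assoc a b c)
      · exact congrArg Sum.inr (mul_assoc a b c)
      · exact congrArg Sum.inr (mul_assoc a b (α c))
      · exact congrArg Sum.inl (show a * b * α c * y = a * (b * α c * y) by simp only [mul_assoc])
      · exact congrArg Sum.inr (show a * α b * α c = a * α (b * c) by rw [map_mul, mul_assoc])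
      · exact congrArg Sum.inl (show a * α b * α c * y = a * α (b * c) * y by rw [map_mul, mul_assoc a])
      · exact congrArg Sum.inl (show a * α b * y * c = a * α (b * α c) * y by rw [map_mul, h1]; group)
      · exact congrArg Sum.inr (show a * α b * y * c = a * α (b * α c * y) by rw [map_mul, map_mul, h1, h2]; group))
    (by
      rintro (a | a)
      · exact congrArg Sum.inl (one_mul a)
      · exact congrArg Sum.inr (one_mul a))
    (by
      rintro (a | a)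
      · exact congrArg Sum.inl (inv_mul_cancel a)
      · exact congrArg Sum.inl (show y⁻¹ * (α a)⁻¹ * α a * y = 1 by group))

theorem exists_two [Finite X] (h1 : α * α = MulAut.conj y) (h2 : α y = y) :
    ∃ (G : Type) (_ : Group G) (_ : Finite G) (ι : X →* G) (g : G), Function.Injective ι ∧ g ∉ ι.range ∧
      (∀ x, ι (α x) = g * ι x * g⁻¹) ∧ ∀ z : G, ∃ x, z = ι x ∨ z = ι x * g := by
  let _ := grp (α := α) (y := y) (fun x => DFunLike.congr_fun h1 x) h2
  refine ⟨X ⊕ X, inferInstance, inferInstance, MonoidHom.mk' Sum.inl fun _ _ => rfl, .inr 1, Sum.inl_injective, ?_,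
    fun x => eq_mul_inv_of_mul_eq (congrArg Sum.inr (show α x * 1 = 1 * α x by rw [mul_one, one_mul])), ?_⟩
  · rintro ⟨x, hx⟩
    exact Sum.inl_ne_inr hx
  · rintro (a | a)
    · exact ⟨a, .inl rfl⟩
    · exact ⟨a, .inr (congrArg Sum.inr (mul_one a).symm)⟩

theorem index_two {G : Type} [Group G] {N : Subgroup G} {g : G} (hg : g ∉ N) (h : ∀ z : G, ∃ x ∈ N, z = x ∨ z = x * g) :
    N.index = 2 := index_eq_two_iff.2 ⟨g⁻¹, fun z => by
  obtain ⟨x, hx, rfl | rfl⟩ := h z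
  · exact .inr ⟨hx, fun e => hg (by simpa using (N.mul_mem_cancel_left hx).1 e)⟩
  · exact .inl ⟨by simpa using hx, fun e => hg ((N.mul_mem_cancel_left hx).1 e)⟩⟩

end two

variable {p : ℕ} {M : Ideal AlgInt} {G : Type} [Group G]

/-- the sum of the squares of the degrees -/
theorem low [Finite G] (hM : IsPModular p M) {F : Finset (IrrCharacter G)} (hb : IsPBlock M (F : Set (IrrCharacter G)))
    {m k : ℕ} (hm : ∀ χ ∈ F, m ∣ charDegree (χ : G → ℂ)) (hk : ∀ c, p ^ (Nat.card G).factorization p ∣ m * c → k ∣ c) :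
    m * (m * k) ≤ ∑ χ ∈ F, charDegree (χ : G → ℂ) ^ 2 ∧
      (∑ χ ∈ F, charDegree (χ : G → ℂ) ^ 2 < 2 * (m * (m * k)) → R1 p (F : Set (IrrCharacter G))) := by
  have := Fact.mk hM.1
  have := Blocks.Local.isPrime_of_isPModular hM
  obtain ⟨l, d, φ, n, h⟩ := exists_dm hM hb
  have hr : IsPRegular p (1 : G) := by
    rw [IsPRegular, orderOf_one]
    exact hM.1.not_dvd_one
  choose u hu hu1 using h.deg
  have h1 : ∀ χ ∈ F, charDegree (χ : G → ℂ) = ∑ j, d χ j * u j := fun χ hχ => by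
    have h2 := h.dec χ hχ 1 hr
    simp only [hu1] at h2
    rw [irr_one_eq_charDegree χ.2] at h2
    exact_mod_cast h2
  have h2 : ∀ j, m ≤ u j := fun j => Nat.le_of_dvd (hu j) (by
    have h4 := h.comb j 1 hr
    rw [hu1] at h4
    have h5 : ((u j : ℤ) : ℂ) = ((∑ χ ∈ F, n j χ * charDegree (χ : G → ℂ) : ℤ) : ℂ) := by
      rw [Int.cast_natCast, h4, Int.cast_sum]
      exact Finset.sum_congr rfl fun χ _ => by rw [irr_one_eq_charDegree χ.2, Int.cast_mul, Int.cast_natCast]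
    rw [← Int.natCast_dvd_natCast, Int.cast_injective h5]
    exact Finset.dvd_sum fun χ hχ => (Int.natCast_dvd_natCast.2 (hm χ hχ)).mul_left _)
  have h3 : ∀ j, m * k ≤ ∑ χ ∈ F, d χ j * charDegree (χ : G → ℂ) := fun j => by
    obtain ⟨P⟩ : Nonempty (Sylow p G) := inferInstance
    have h4 := h.int hM hb j P
    have h5 : ∑ χ ∈ F, (d χ j : ℂ) * (χ : G → ℂ) 1 = (∑ χ ∈ F, d χ j * charDegree (χ : G → ℂ) : ℕ) := by
      rw [Nat.cast_sum]
      exact Finset.sum_congr rfl fun χ _ => by rw [irr_one_eq_charDegree χ.2, Nat.cast_mul]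
    rw [h5] at h4
    have h6 := Characters.DegreeBounds.nat_dvd_of_isIntegral_div Nat.card_pos.ne' h4
    obtain ⟨χ, hχ, h7⟩ := h.col j
    have h8 : 0 < ∑ χ ∈ F, d χ j * charDegree (χ : G → ℂ) :=
      Finset.sum_pos' (fun _ _ => Nat.zero_le _) ⟨χ, hχ, Nat.mul_pos (Nat.pos_of_ne_zero h7) (charDegree_pos χ.2)⟩
    obtain ⟨c, hc⟩ : m ∣ ∑ χ ∈ F, d χ j * charDegree (χ : G → ℂ) := Finset.dvd_sum fun χ hχ => (hm χ hχ).mul_left _
    rw [P.card_eq_multiplicity, hc] at h6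
    rw [hc] at h8 ⊢
    exact Nat.mul_le_mul_left _ (Nat.le_of_dvd (Nat.pos_of_mul_pos_left h8) (hk c h6))
  have h4 : l * (m * (m * k)) ≤ ∑ χ ∈ F, charDegree (χ : G → ℂ) ^ 2 := by
    have h5 : ∑ χ ∈ F, charDegree (χ : G → ℂ) ^ 2 = ∑ j, u j * ∑ χ ∈ F, d χ j * charDegree (χ : G → ℂ) := by
      simp only [Finset.mul_sum]
      rw [Finset.sum_comm]
      refine Finset.sum_congr rfl fun χ hχ => ?_
      rw [sq]
      nth_rw 1 [h1 χ hχ]
      rw [Finset.sum_mul]
      exact Finset.sum_congr rfl fun j _ => by ring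
    have h6 := Finset.card_nsmul_le_sum Finset.univ (fun j => u j * ∑ χ ∈ F, d χ j * charDegree (χ : G → ℂ)) _
      fun j _ => Nat.mul_le_mul (h2 j) (h3 j)
    rwa [Finset.card_univ, Fintype.card_fin, smul_eq_mul, ← h5] at h6
  have h5 : l ≠ 0 := by
    rintro rfl
    obtain ⟨χ, hχ⟩ := isPBlock_nonempty hb
    exact (charDegree_pos χ.2).ne' (by rw [h1 χ hχ, Fintype.sum_empty])
  refine ⟨(Nat.le_mul_of_pos_left _ (Nat.pos_of_ne_zero h5)).trans h4, fun h6 => ?_⟩
  obtain rfl : l = 1 := by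
    have := Nat.lt_of_mul_lt_mul_right (h4.trans_lt h6)
    omega
  intro χ hχ ψ hψ x hx
  rw [h.dec χ hχ x hx, h.dec ψ hψ x hx, h.dec χ hχ 1 hr, h.dec ψ hψ 1 hr]
  simp only [Fin.sum_univ_one]
  ring

variable [Fintype G] {N : Subgroup G} [N.Normal] [Fintype N]

theorem res_of_moved (hN : N.index = 2) {t : G} (ht : t ∉ N) {χ : IrrCharacter G} {θ : IrrCharacter N}
    (h : TO.S1.Ov χ θ) (hθ : cj t θ ≠ θ) (n : N) : (χ : G → ℂ) n = (θ : N → ℂ) n + (cj t θ : N → ℂ) n := by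
  have h1 := mt (inv_iff hN ht θ).1 hθ
  rcases H348.PPD.Dich.dich N hN θ.2 with ⟨ψ, h2, h3⟩ | ⟨ψ, h2, -, h3⟩
  · exact absurd (H41.McLTwo.Cliff.inv_of_ext (χ := ⟨ψ, h2⟩) h3) h1
  · have h4 : TO.S1.Ov ⟨ψ, h2⟩ θ := by
      have h5 : (fun n : N => ψ n) = (θ : N → ℂ) + (cj t θ : N → ℂ) := funext (h3 t ht).1
      change classInner (fun n : N => ψ n) _ ≠ 0
      rw [h5, classInner_add_left, classInner_irr_self θ.2, classInner_irr_ne (cj t θ).2 θ.2 fun e => hθ (Subtype.ext e),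
        add_zero]
      exact one_ne_zero
    rw [eq_of_moved hN h4 h h1]
    exact (h3 t ht).1 n

theorem sum_sq (B : Finset (IrrCharacter G)) :
    (Nat.card G : ℂ) * blockCoeff (B : Set (IrrCharacter G)) 1 = (∑ χ ∈ B, charDegree (χ : G → ℂ) ^ 2 : ℕ) := by
  rw [blockCoeff, mul_inv_cancel_left₀ (Nat.cast_ne_zero.2 Nat.card_pos.ne'), finsum_mem_coe_finset, Nat.cast_sum]
  exact Finset.sum_congr rfl fun χ _ => by rw [irr_one_eq_charDegree χ.2, map_natCast, Nat.cast_pow, sq]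

/-- the block `B` over `b` -/
structure Cv (p : ℕ) (M : Ideal AlgInt) (b : Set (IrrCharacter N)) (D : Subgroup N) (n : ℕ) (B : Set (IrrCharacter G)) :
    Prop where
  blk : IsPBlock M B
  dg : IsDefectGroup p M B (D.map N.subtype)
  r1 : R1 p B
  mem : ∀ χ, χ ∈ B ↔ ∃ θ ∈ b, TO.S1.Ov χ θ
  dvd : ∀ χ ∈ B, 2 * n ∣ charDegree (χ : G → ℂ)
  sum : ∑ᶠ χ ∈ B, (charDegree (χ : G → ℂ) / (2 * n)) ^ 2 = Nat.card D

theorem exists_cv (hM : IsPModular p M) (hp : p ≠ 2) (hN : N.index = 2) {t : G} (ht : t ∉ N) {b : Set (IrrCharacter N)}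
    (hb : IsPBlock M b) {D : Subgroup N} (hD : IsDefectGroup p M b D) (hst : ∀ θ ∈ b, cj t θ ∈ b) {n : ℕ} (hn : 0 < n)
    (hv : n.factorization p + (Nat.card D).factorization p = (Nat.card N).factorization p)
    (h1 : ∀ θ ∈ b, n ∣ charDegree (θ : N → ℂ)) (h2 : ∀ θ ∈ b, cj t θ = θ → 2 * n ∣ charDegree (θ : N → ℂ))
    (h3 : ∑ᶠ θ ∈ b, charDegree (θ : N → ℂ) ^ 2 = 2 * (n * (n * Nat.card D))) : ∃ B, Cv p M b D n B := by
  classical
  have := Fact.mk hM.1
  have hP := Blocks.Local.isPrime_of_isPModular hM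
  have := finite_irr (G := G)
  have := finite_irr (G := N)
  have hcj : ∀ g, ∀ θ ∈ b, cj g θ ∈ b := fun g θ h => (cj_cases hN ht g θ).elim (fun e => e.symm ▸ h) fun e => e.symm ▸ hst θ h
  have h2p : ¬ p ∣ 2 := fun e => hp ((Nat.prime_dvd_prime_iff_eq hM.1 Nat.prime_two).1 e)
  obtain ⟨θ₀, h0⟩ := isPBlock_nonempty hb
  obtain ⟨χ₀, o0⟩ := Blocks.Over.exists_over N θ₀
  have cl : ∀ χ : IrrCharacter G, ∀ θ ∈ b, TO.S1.Ov χ θ → ∀ χ' ∈ blockOf M (χ : G → ℂ), ∀ ψ, TO.S1.Ov χ' ψ → ψ ∈ b :=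
    fun χ θ hθ o χ' hχ' ψ o' => by
      obtain ⟨g, θ', h4, h5⟩ := S0964.result p M hM N _ (isPBlock_blockOf χ) b hb χ (mem_blockOf_self χ) θ hθ o χ' hχ' ψ o'
      exact (Subtype.ext (funext h5) : ψ = cj g θ') ▸ hcj g θ' h4
  have hU := Blocks.Fong.blockCoeff_lyingOver N b hcj
    (fun χ ⟨θ, hθ, o⟩ ψ o' => cl χ θ hθ o χ (mem_blockOf_self χ) ψ o') 1
  have hB := isPBlock_blockOf (M := M) χ₀
  have hχ₀ := mem_blockOf_self (M := M) χ₀
  have hBU : blockOf M (χ₀ : G → ℂ) ⊆ Blocks.Fong.lyingOver N b := fun χ hχ =>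
    let ⟨ψ, o⟩ := Blocks.Fong.exists_constituent N χ
    ⟨ψ, cl χ₀ θ₀ h0 o0 χ hχ ψ o, o⟩
  have hmem := Blocks.Fong.mem_lyingOver N b
  generalize blockOf M (χ₀ : G → ℂ) = B at hB hχ₀ hBU
  generalize Blocks.Fong.lyingOver N b = U at hU hBU hmem
  lift B to Finset (IrrCharacter G) using B.toFinite with F
  lift U to Finset (IrrCharacter G) using U.toFinite with U
  lift b to Finset (IrrCharacter N) using b.toFinite with b
  have hdv : ∀ χ ∈ U, 2 * n ∣ charDegree (χ : G → ℂ) := fun χ hχ => by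
    obtain ⟨θ, hθ, o⟩ := (hmem χ).1 hχ
    by_cases e : cj t θ = θ
    · rw [H41.McLTwo.Cliff.charDegree_of (res_of_inv hN o ((inv_iff hN ht θ).2 e) 1)]
      exact h2 θ hθ e
    · rw [deg_of_moved hN o (mt (inv_iff hN ht θ).1 e)]
      exact Nat.mul_dvd_mul_left 2 (h1 θ hθ)
  have hG : Nat.card G = Nat.card N * 2 := by rw [← hN, card_mul_index]
  have hS : ∑ χ ∈ U, charDegree (χ : G → ℂ) ^ 2 = 2 * n * (2 * n * Nat.card D) := by
    rw [dif_pos (one_mem N)] at hU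
    have h4 := sum_sq U
    have h5 := sum_sq b
    rw [finsum_mem_coe_finset] at h3
    rw [hU, hG, Nat.cast_mul, mul_right_comm, show (⟨1, one_mem N⟩ : N) = 1 from rfl, h5, h3, ← Nat.cast_mul] at h4
    rw [← Nat.cast_injective h4]
    ring
  obtain ⟨k, hk⟩ := IsPGroup.iff_card.1 (H592.Defect.isPGroup_of_isDefectGroup hD)
  obtain ⟨h4, h5⟩ := low hM hB (m := 2 * n) (k := Nat.card D) (fun χ hχ => hdv χ (hBU hχ)) fun c hc => by
    rcases eq_or_ne c 0 with rfl | hc0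
    · exact dvd_zero _
    rw [hM.1.pow_dvd_iff_le_factorization (by positivity), hG, Nat.factorization_mul (by positivity) hc0,
      Nat.factorization_mul two_ne_zero hn.ne', Nat.factorization_mul Nat.card_pos.ne' two_ne_zero] at hc
    rw [hk, hM.1.factorization_pow, Finsupp.single_eq_same] at hv
    simp only [Finsupp.add_apply] at hc
    rw [hk, hM.1.pow_dvd_iff_le_factorization hc0]
    omega
  have hpos : 0 < 2 * n * (2 * n * Nat.card D) := by
    have := Nat.card_pos (α := D)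
    positivity
  obtain rfl : F = U := Finset.Subset.antisymm hBU fun χ hχ => by
    by_contra h6
    exact (h4.trans_lt (Finset.sum_lt_sum_of_subset hBU hχ h6 (pow_pos (charDegree_pos χ.2) 2)
      fun _ _ _ => Nat.zero_le _)).ne' hS
  obtain ⟨P, h6, h7⟩ := S4438.result p M hM N _ hb (D.map N.subtype) (map_subtype_le D)
    (by rw [subgroupOf, comap_map_eq_self_of_injective N.subtype_injective]; exact hD) _ hB ⟨χ₀, hχ₀, θ₀, h0, o0⟩
  have h8 : P ≤ N := fun x hx => by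
    obtain ⟨j, hj⟩ := H592.Defect.isPGroup_of_isDefectGroup h6 ⟨x, hx⟩
    by_contra h9
    obtain ⟨i, hi⟩ := (hM.1.odd_of_ne_two hp).pow (n := j)
    have h10 : x ^ p ^ j = 1 := congrArg Subtype.val hj
    rw [hi, pow_succ, pow_mul] at h10
    exact h9 ((N.mul_mem_cancel_left (pow_mem (sq_mem_of_index_two hN x) i)).1 (h10 ▸ one_mem N))
  rw [inf_eq_left.2 h8] at h7
  refine ⟨_, hB, h7 ▸ h6, h5 (by omega), hmem, hdv, Nat.eq_of_mul_eq_mul_left (by positivity : 0 < (2 * n) ^ 2) ?_⟩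
  rw [finsum_mem_coe_finset, Finset.mul_sum, Finset.sum_congr rfl fun χ hχ => by
    rw [← mul_pow, Nat.mul_div_cancel' (hdv χ hχ)], hS]
  ring

end Cfsg.Agent.OM.Lo.Ovg
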